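import Mathlib

set_option autoImplicit false

namespace Cfsg.Agent.Helper53

/-- In a group of order two, any two non-identity elements coincide. -/
theorem eq_of_ne_one_of_card_two' {A : Type*} [Group A] (hA : Nat.card A = 2) {a b : A}
    (ha : a ≠ 1) (hb : b ≠ 1) : a = b := by
  obtain ⟨y, -, hy⟩ := (Nat.card_eq_two_iff' (1 : A)).mp hA
  rw [hy a ha, hy b hb]

theorem sq_eq_one_of_card_two' {A : Type*} [Group A] (hA : Nat.card A = 2) (a : A) : a ^ 2 = 1 := by
  have : Finite A := Nat.finite_of_card_ne_zero (by omega)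
  rw [← hA]; exact pow_card_eq_one'

/-- Thompson's transfer lemma, in the form producing a subgroup of index two avoiding the involution:
if `M` has index two in the Sylow `2`-subgroup `S` and the involution `x ∈ S` has no conjugate in `M`,
then `G` has a subgroup of index two not containing `x`. -/
theorem thompson_transfer {G : Type*} [Group G] [Finite G]
    (S : Sylow 2 G) (M : Subgroup G) (hM : M.relIndex (S : Subgroup G) = 2)
    (x : G) (hx : x ∈ (S : Subgroup G)) (hx2 : orderOf x = 2)
    (hcon : ∀ g : G, g * x * g⁻¹ ∉ M) :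
    ∃ H : Subgroup G, H.index = 2 ∧ x ∉ H := by
  classical
  set M' : Subgroup ↥(S : Subgroup G) := M.subgroupOf (S : Subgroup G) with hM'
  have hidx : M'.index = 2 := hM
  have : M'.Normal := Subgroup.normal_of_index_eq_two hidx
  have hcardA : Nat.card (↥(S : Subgroup G) ⧸ M') = 2 := by
    rw [← Subgroup.index_eq_card]; exact hidx
  have : Fact (Nat.Prime 2) := ⟨Nat.prime_two⟩
  have : IsCyclic (↥(S : Subgroup G) ⧸ M') := isCyclic_of_prime_card hcardA
  let _ : CommGroup (↥(S : Subgroup G) ⧸ M') := IsCyclic.commGroup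
  let φ : ↥(S : Subgroup G) →* (↥(S : Subgroup G) ⧸ M') := QuotientGroup.mk' M'
  have hφ1 : ∀ y : ↥(S : Subgroup G), φ y = 1 ↔ (y : G) ∈ M := by
    intro y
    show (QuotientGroup.mk' M') y = 1 ↔ _
    rw [QuotientGroup.mk'_apply, QuotientGroup.eq_one_iff]
    rfl
  set c := φ ⟨x, hx⟩ with hc
  have hc1 : c ≠ 1 := by
    intro h
    rw [hφ1] at h
    have := hcon 1
    simp at this
    exact this h
  have hc2 : c ^ 2 = 1 := sq_eq_one_of_card_two' hcardA c
  have hφc : ∀ y : ↥(S : Subgroup G), (y : G) ∉ M → φ y = c := by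
    intro y hy
    apply eq_of_ne_one_of_card_two' hcardA _ hc1
    rwa [Ne, hφ1]
  have : (S : Subgroup G).FiniteIndex := inferInstance
  have : Fintype (Quotient (MulAction.orbitRel (Subgroup.zpowers x) (G ⧸ (S : Subgroup G)))) :=
    Fintype.ofFinite _
  have hgen : ∀ (m : ℕ) (g₀ : G) (h : g₀⁻¹ * x ^ m * g₀ ∈ (S : Subgroup G)), m ∣ 2 →
      φ ⟨g₀⁻¹ * x ^ m * g₀, h⟩ = c ^ m := by
    intro m g₀ hyS hmdvd
    rcases (Nat.dvd_prime Nat.prime_two).mp hmdvd with hm1 | hm2
    · subst hm1
      rw [pow_one (a := c)]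
      apply hφc
      show g₀⁻¹ * x ^ 1 * g₀ ∉ M
      rw [pow_one]
      have := hcon g₀⁻¹
      rwa [inv_inv] at this
    · subst hm2
      rw [hc2, hφ1]
      show g₀⁻¹ * x ^ 2 * g₀ ∈ M
      have : x ^ 2 = 1 := by rw [← hx2]; exact pow_orderOf_eq_one x
      rw [this, mul_one, inv_mul_cancel]
      exact M.one_mem
  have key : MonoidHom.transfer φ x = c := by
    rw [MonoidHom.transfer_eq_prod_quotient_orbitRel_zpowers_quot]
    have hfac : ∀ q : Quotient (MulAction.orbitRel (Subgroup.zpowers x) (G ⧸ (S : Subgroup G))),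
        φ ⟨q.out.out⁻¹ * x ^ Function.minimalPeriod (x • ·) q.out * q.out.out,
            QuotientGroup.out_conj_pow_minimalPeriod_mem (S : Subgroup G) x q.out⟩ =
          c ^ Function.minimalPeriod (x • ·) q.out := by
      intro q
      apply hgen
      have hx22 : x ^ 2 = 1 := by rw [← hx2]; exact pow_orderOf_eq_one x
      rw [← MulAction.pow_smul_eq_iff_minimalPeriod_dvd, hx22, one_smul]
    rw [Finset.prod_congr rfl (fun q _ => hfac q), Finset.prod_pow_eq_pow_sum,
      ← Subgroup.index_eq_sum_minimalPeriod]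
    have hodd : ¬ 2 ∣ (S : Subgroup G).index := S.not_dvd_index
    obtain ⟨k, hk⟩ : ∃ k, (S : Subgroup G).index = 2 * k + 1 := ⟨(S : Subgroup G).index / 2, by omega⟩
    rw [hk, pow_succ, pow_mul, hc2, one_pow, one_mul]
  have hker : (MonoidHom.transfer φ).ker.index = 2 := by
    rw [Subgroup.index_ker]
    have hdvd : Nat.card (MonoidHom.transfer φ).range ∣ 2 := by
      have h := Subgroup.card_subgroup_dvd_card (MonoidHom.transfer φ).range
      rwa [hcardA] at h
    rcases (Nat.dvd_prime Nat.prime_two).mp hdvd with h1 | h2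
    · exfalso
      rw [Subgroup.card_eq_one] at h1
      have : c ∈ (MonoidHom.transfer φ).range := ⟨x, key⟩
      rw [h1, Subgroup.mem_bot] at this
      exact hc1 this
    · exact h2
  refine ⟨(MonoidHom.transfer φ).ker, hker, ?_⟩
  intro hmem
  rw [MonoidHom.mem_ker, key] at hmem
  exact hc1 hmem

end Cfsg.Agent.Helper53
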