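import Mathlib
import Cfsg.Prelude.Def_Transfer

set_option autoImplicit false

namespace Cfsg.Agent.Helper53

open scoped Pointwise

variable {G : Type*} [Group G]

lemma mem_map_conj {W : Subgroup G} {g x : G} :
    x ∈ W.map (MulAut.conj g).toMonoidHom ↔ g⁻¹ * x * g ∈ W := by
  rw [Subgroup.mem_map_equiv]
  simp [MulAut.conj_symm_apply]

lemma conj_mem_map_conj {W : Subgroup G} {g x : G} (hx : x ∈ W) :
    g * x * g⁻¹ ∈ W.map (MulAut.conj g).toMonoidHom := by
  rw [mem_map_conj]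
  have : g⁻¹ * (g * x * g⁻¹) * g = x := by group
  rw [this]; exact hx

lemma mem_conj_smul {W : Subgroup G} {g x : G} :
    x ∈ MulAut.conj g • W ↔ g⁻¹ * x * g ∈ W := by
  rw [Subgroup.mem_pointwise_smul_iff_inv_smul_mem]
  simp [MulAut.smul_def]

lemma mem_normalizer_of_map_conj_eq {W : Subgroup G} {g : G}
    (h : W.map (MulAut.conj g).toMonoidHom = W) : g ∈ Subgroup.normalizer (W : Set G) := by
  rw [Subgroup.mem_normalizer_iff]
  intro x
  constructor
  · intro hx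
    rw [← h]
    exact conj_mem_map_conj hx
  · intro hx
    rw [← h, mem_map_conj] at hx
    have : g⁻¹ * (g * x * g⁻¹) * g = x := by group
    rw [this] at hx; exact hx

lemma map_conj_eq_of_mem_normalizer {W : Subgroup G} {g : G}
    (h : g ∈ Subgroup.normalizer (W : Set G)) : W.map (MulAut.conj g).toMonoidHom = W := by
  ext x
  rw [mem_map_conj]
  have h' := Subgroup.mem_normalizer_iff''.mp h
  exact (h' x).symm

/-- a subgroup weakly closed in a Sylow `p`-subgroup is weakly closed in every Sylow `p`-subgroup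
containing it -/
lemma weaklyClosed_of_le_sylow [Finite G] {p : ℕ} [Fact p.Prime] (P S : Sylow p G) (W : Subgroup G)
    (hW : Cfsg.IsWeaklyClosed W (P : Subgroup G)) (hWS : W ≤ (S : Subgroup G)) :
    Cfsg.IsWeaklyClosed W (S : Subgroup G) := by
  obtain ⟨a, ha⟩ := MulAction.exists_smul_eq G P S
  have hSmem : ∀ x : G, x ∈ (S : Subgroup G) ↔ a⁻¹ * x * a ∈ (P : Subgroup G) := by
    intro x
    rw [← ha, Sylow.coe_subgroup_smul, mem_conj_smul]
  -- first: conjugating W by a⁻¹ keeps it inside P, so it equals W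
  have h1 : W.map (MulAut.conj a⁻¹).toMonoidHom = W := by
    apply hW.2
    intro x hx
    rw [mem_map_conj] at hx
    have h2 := (hSmem _).mp (hWS hx)
    simp only [inv_inv] at hx h2
    have : a⁻¹ * (a * x * a⁻¹) * a = x := by group
    rw [this] at h2
    exact h2
  refine ⟨hWS, ?_⟩
  intro c hc
  have h2 : W.map (MulAut.conj (a⁻¹ * c)).toMonoidHom = W := by
    apply hW.2
    intro x hx
    rw [mem_map_conj] at hx
    have h3 : c * ((a⁻¹ * c)⁻¹ * x * (a⁻¹ * c)) * c⁻¹ ∈ W.map (MulAut.conj c).toMonoidHom :=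
      conj_mem_map_conj hx
    have h4 := (hSmem _).mp (hc h3)
    have : a⁻¹ * (c * ((a⁻¹ * c)⁻¹ * x * (a⁻¹ * c)) * c⁻¹) * a = x := by group
    rw [this] at h4
    exact h4
  ext x
  rw [mem_map_conj]
  constructor
  · intro hx
    -- c⁻¹ x c ∈ W; then x = c (c⁻¹ x c) c⁻¹ and  conj by a⁻¹ c maps W to W
    have h3 : (a⁻¹ * c) * (c⁻¹ * x * c) * (a⁻¹ * c)⁻¹ ∈ W := by
      rw [← h2]
      exact conj_mem_map_conj hx
    have h4 : a * ((a⁻¹ * c) * (c⁻¹ * x * c) * (a⁻¹ * c)⁻¹) * a⁻¹ ∈ W := by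
      have := conj_mem_map_conj (g := a⁻¹⁻¹) (show _ ∈ W.map (MulAut.conj a⁻¹).toMonoidHom from by rw [h1]; exact h3)
      rw [mem_map_conj] at this
      have h5 := (mem_map_conj (W := W) (g := a⁻¹)).mp (by rw [h1]; exact h3)
      simpa using h5
    have : a * ((a⁻¹ * c) * (c⁻¹ * x * c) * (a⁻¹ * c)⁻¹) * a⁻¹ = x := by group
    rw [this] at h4
    exact h4
  · intro hx
    -- x ∈ W → a⁻¹ x a ∈ W → (a⁻¹c)⁻¹ (a⁻¹ x a) (a⁻¹ c) ∈ W
    have h3 : a⁻¹ * x * a⁻¹⁻¹ ∈ W := by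
      rw [← h1]
      exact conj_mem_map_conj hx
    have h4 := (mem_map_conj (W := W) (g := a⁻¹ * c)).mp (by rw [h2]; exact h3)
    have : (a⁻¹ * c)⁻¹ * (a⁻¹ * x * a⁻¹⁻¹) * (a⁻¹ * c) = c⁻¹ * x * c := by group
    rw [this] at h4
    exact h4

end Cfsg.Agent.Helper53
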