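import Mathlib
import Cfsg.Prelude.Def_Transfer
import Cfsg.Agent.Helper53.WeaklyClosed

set_option autoImplicit false

namespace Cfsg.Agent.Helper53

open scoped Pointwise

variable {G : Type*} [Group G]

lemma cj_def (H : Subgroup G) (g : G) : H.map (MulAut.conj g).toMonoidHom = MulAut.conj g • H := rfl

lemma cj_mul (H : Subgroup G) (g h : G) :
    MulAut.conj (g * h) • H = MulAut.conj g • (MulAut.conj h • H) := by
  rw [map_mul, mul_smul]

lemma cj_one (H : Subgroup G) : MulAut.conj (1 : G) • H = H := by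
  rw [map_one, one_smul]

lemma cj_inv_cj (H : Subgroup G) (g : G) : MulAut.conj g⁻¹ • (MulAut.conj g • H) = H := by
  rw [← cj_mul, inv_mul_cancel, cj_one]

lemma cj_cj_inv (H : Subgroup G) (g : G) : MulAut.conj g • (MulAut.conj g⁻¹ • H) = H := by
  rw [← cj_mul, mul_inv_cancel, cj_one]

lemma cj_le_iff {H K : Subgroup G} {g : G} : MulAut.conj g • H ≤ MulAut.conj g • K ↔ H ≤ K :=
  Subgroup.pointwise_smul_le_pointwise_smul_iff

lemma cj_le_iff' {H K : Subgroup G} {g : G} : MulAut.conj g • H ≤ K ↔ H ≤ MulAut.conj g⁻¹ • K := by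
  rw [← cj_le_iff (g := g⁻¹), cj_inv_cj]

lemma cj_mem' {H : Subgroup G} {g x : G} : g * x * g⁻¹ ∈ MulAut.conj g • H ↔ x ∈ H := by
  rw [mem_conj_smul]
  have : g⁻¹ * (g * x * g⁻¹) * g = x := by group
  rw [this]

lemma cj_card (H : Subgroup G) (g : G) : Nat.card ↥(MulAut.conj g • H) = Nat.card ↥H := by
  rw [← cj_def]
  exact (Nat.card_congr ((MulAut.conj g).subgroupMap H).toEquiv).symm

lemma cj_eq_self_iff {H : Subgroup G} {g : G} :
    MulAut.conj g • H = H ↔ g ∈ Subgroup.normalizer (H : Set G) := by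
  constructor
  · intro h
    exact mem_normalizer_of_map_conj_eq h
  · intro h
    exact map_conj_eq_of_mem_normalizer h

lemma cj_eq_of_le [Finite G] {H : Subgroup G} {g : G} (h : MulAut.conj g • H ≤ H) :
    MulAut.conj g • H = H :=
  Subgroup.eq_of_le_of_card_ge h (cj_card H g).ge

lemma cj_eq_of_ge [Finite G] {H : Subgroup G} {g : G} (h : H ≤ MulAut.conj g • H) :
    MulAut.conj g • H = H :=
  (Subgroup.eq_of_le_of_card_ge h (cj_card H g).le).symm

lemma cj_elemAb {p : ℕ} {H : Subgroup G} (g : G) (h : Cfsg.IsElementaryAbelian p H) :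
    Cfsg.IsElementaryAbelian p (MulAut.conj g • H) := by
  obtain ⟨h1, h2⟩ := h
  refine ⟨?_, ?_⟩
  · rw [← cj_def]
    infer_instance
  · intro a ha
    rw [mem_conj_smul] at ha
    have := h2 _ ha
    have e : a = g * (g⁻¹ * a * g) * g⁻¹ := by group
    rw [e, conj_pow, this]
    group

lemma cj_normalizer (H : Subgroup G) (g : G) :
    Subgroup.normalizer ((MulAut.conj g • H : Subgroup G) : Set G) =
      MulAut.conj g • Subgroup.normalizer (H : Set G) := by
  ext x
  rw [mem_conj_smul, ← cj_eq_self_iff, ← cj_eq_self_iff, cj_mul, cj_mul]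
  constructor
  · intro h
    rw [h, cj_inv_cj]
  · intro h
    have := congrArg (fun K => MulAut.conj g • K) h
    simp only [cj_cj_inv] at this
    exact this

lemma le_normalizer_cj {S H : Subgroup G} (g : G) (h : S ≤ Subgroup.normalizer (H : Set G)) :
    MulAut.conj g • S ≤ Subgroup.normalizer ((MulAut.conj g • H : Subgroup G) : Set G) := by
  rw [cj_normalizer]
  exact cj_le_iff.mpr h

end Cfsg.Agent.Helper53

namespace Cfsg.Agent.Helper53

open scoped Pointwise

variable {G : Type*} [Group G]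

/-- Sylow's theorem inside a subgroup `M`: a `p`-subgroup of `M` lies in an `M`-conjugate of any
Sylow `p`-subgroup of `G` contained in `M`. -/
lemma pgroup_le_conj_sylow_in [Finite G] {p : ℕ} [Fact p.Prime] (P : Sylow p G) (M : Subgroup G)
    (hP : (P : Subgroup G) ≤ M) (B : Subgroup G) (hB : IsPGroup p ↥B) (hBM : B ≤ M) :
    ∃ m ∈ M, B ≤ MulAut.conj m • (P : Subgroup G) := by
  obtain ⟨Q', hQ'⟩ := (hB.comap_subtype (K := M)).exists_le_sylow
  obtain ⟨m, hm⟩ := MulAction.exists_smul_eq ↥M (P.subtype hP) Q'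
  refine ⟨m, m.2, ?_⟩
  intro b hb
  have h1 : (⟨b, hBM hb⟩ : ↥M) ∈ (Q' : Subgroup ↥M) := hQ' hb
  rw [← hm, Sylow.coe_subgroup_smul, mem_conj_smul, Sylow.coe_subtype, Subgroup.mem_subgroupOf] at h1
  rw [mem_conj_smul]
  simpa using h1

/-- two Sylow `p`-subgroups of `G` inside `M` are conjugate by an element of `M` -/
lemma sylow_conj_in [Finite G] {p : ℕ} [Fact p.Prime] (P Q : Sylow p G) (M : Subgroup G)
    (hP : (P : Subgroup G) ≤ M) (hQ : (Q : Subgroup G) ≤ M) :
    ∃ m ∈ M, MulAut.conj m • (P : Subgroup G) = (Q : Subgroup G) := by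
  obtain ⟨m, hm, h⟩ := pgroup_le_conj_sylow_in P M hP (Q : Subgroup G) Q.2 hQ
  refine ⟨m, hm, ?_⟩
  have h2 : IsPGroup p ↥(MulAut.conj m • (P : Subgroup G)) := by
    rw [← cj_def]
    exact P.2.map _
  exact Q.3 h2 h

end Cfsg.Agent.Helper53
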