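import Mathlib
import Cfsg.Agent.Helper53.Cj

set_option autoImplicit false

namespace Cfsg.Agent.Helper53

open scoped Pointwise

variable {G : Type*} [Group G]

/-- membership in the centre of a subgroup, viewed inside `G` -/
lemma mem_center_map {H : Subgroup G} {x : G} :
    x ∈ (Subgroup.center ↥H).map H.subtype ↔ x ∈ H ∧ ∀ h ∈ H, h * x = x * h := by
  constructor
  · rintro ⟨z, hz, rfl⟩
    refine ⟨z.2, ?_⟩
    intro h hh
    have hz' : z ∈ Subgroup.center ↥H := hz
    rw [Subgroup.mem_center_iff] at hz'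
    have := hz' ⟨h, hh⟩
    exact congrArg Subtype.val this
  · rintro ⟨hx, hc⟩
    refine ⟨⟨x, hx⟩, ?_, rfl⟩
    show (⟨x, hx⟩ : ↥H) ∈ Subgroup.center ↥H
    rw [Subgroup.mem_center_iff]
    intro h
    apply Subtype.ext
    exact hc h h.2

lemma card_lt_of_lt [Finite G] {H K : Subgroup G} (h : H < K) : Nat.card ↥H < Nat.card ↥K := by
  by_contra hcon
  rw [not_lt] at hcon
  exact h.ne (Subgroup.eq_of_le_of_card_ge h.le hcon)

/-- normalizer condition inside a `p`-subgroup -/
lemma exists_normalizer_not_mem [Finite G] {p : ℕ} [Fact p.Prime] (S D : Subgroup G)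
    (hS : IsPGroup p ↥S) (hDS : D < S) :
    ∃ x ∈ S, x ∈ Subgroup.normalizer (D : Set G) ∧ x ∉ D := by
  have hnil : Group.IsNilpotent ↥S := hS.isNilpotent
  have hNC := Group.normalizerCondition_of_isNilpotent (G := ↥S)
  have hlt : D.subgroupOf S < ⊤ := by
    rw [lt_top_iff_ne_top, Ne, Subgroup.subgroupOf_eq_top]
    exact not_le_of_gt hDS
  obtain ⟨x, hxN, hxD⟩ := SetLike.exists_of_lt (hNC _ hlt)
  refine ⟨x, x.2, ?_, ?_⟩
  · rw [Subgroup.mem_normalizer_iff] at hxN ⊢
    intro t
    constructor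
    · intro ht
      have := (hxN ⟨t, hDS.le ht⟩).mp (by rw [Subgroup.mem_subgroupOf]; exact ht)
      rw [Subgroup.mem_subgroupOf] at this
      simpa using this
    · intro ht
      have htS : t ∈ S := by
        have h3 : x.1 * t * x.1⁻¹ ∈ S := hDS.le ht
        have : t = x.1⁻¹ * (x.1 * t * x.1⁻¹) * x.1 := by group
        rw [this]
        exact S.mul_mem (S.mul_mem (S.inv_mem x.2) h3) x.2
      have := (hxN ⟨t, htS⟩).mpr (by rw [Subgroup.mem_subgroupOf]; simpa using ht)
      rw [Subgroup.mem_subgroupOf] at this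
      exact this
  · intro h
    apply hxD
    rw [Subgroup.mem_subgroupOf]
    exact h

/-- conjugation transports the centre of a subgroup -/
lemma cj_center_map (H : Subgroup G) (g : G) :
    MulAut.conj g • ((Subgroup.center ↥H).map H.subtype) =
      (Subgroup.center ↥(MulAut.conj g • H : Subgroup G)).map (MulAut.conj g • H : Subgroup G).subtype := by
  ext x
  rw [mem_conj_smul, mem_center_map, mem_center_map, mem_conj_smul]
  constructor
  · rintro ⟨h1, h2⟩
    refine ⟨h1, ?_⟩
    intro h hh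
    rw [mem_conj_smul] at hh
    have := h2 _ hh
    calc h * x = g * ((g⁻¹ * h * g) * (g⁻¹ * x * g)) * g⁻¹ := by group
      _ = g * ((g⁻¹ * x * g) * (g⁻¹ * h * g)) * g⁻¹ := by rw [this]
      _ = x * h := by group
  · rintro ⟨h1, h2⟩
    refine ⟨h1, ?_⟩
    intro h hh
    have := h2 (g * h * g⁻¹) (cj_mem'.mpr hh)
    calc h * (g⁻¹ * x * g) = g⁻¹ * ((g * h * g⁻¹) * x) * g := by group
      _ = g⁻¹ * (x * (g * h * g⁻¹)) * g := by rw [this]
      _ = g⁻¹ * x * g * h := by group

end Cfsg.Agent.Helper53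

namespace Cfsg.Agent.Helper53

variable {G : Type*} [Group G]

open MulAction in
/-- In a finite `p`-group, a nontrivial normal subgroup contains a nontrivial central element. -/
theorem exists_mem_center_of_normal' {Q : Type*} [Group Q] [Finite Q] {p : ℕ} [Fact p.Prime]
    (hQ : IsPGroup p Q) (D : Subgroup Q) [D.Normal] (hD : D ≠ ⊥) :
    ∃ b ∈ D, b ≠ 1 ∧ b ∈ Subgroup.center Q := by
  have hQ' : IsPGroup p (ConjAct Q) := hQ.of_equiv ConjAct.toConjAct
  have hDp : IsPGroup p D := hQ.to_subgroup D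
  have : Nontrivial D := (Subgroup.nontrivial_iff_ne_bot D).mpr hD
  have hdvd : p ∣ Nat.card D := by
    obtain ⟨n, hn0, hn⟩ := hDp.nontrivial_iff_card.mp inferInstance
    exact hn.symm ▸ dvd_pow_self _ (ne_of_gt hn0)
  have h1 : (1 : D) ∈ fixedPoints (ConjAct Q) D := by
    intro g
    exact smul_one g
  obtain ⟨b, hb, hb1⟩ := hQ'.exists_fixed_point_of_prime_dvd_card_of_fixed_point D hdvd h1
  refine ⟨b, b.2, ?_, ?_⟩
  · intro h
    apply hb1
    exact (Subtype.ext h).symm
  · rw [Subgroup.mem_center_iff]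
    intro g
    have := hb (ConjAct.toConjAct g)
    have h2 : ((ConjAct.toConjAct g • b : D) : Q) = (b : Q) := by rw [this]
    rw [ConjAct.Subgroup.val_conj_smul, ConjAct.smul_def, ConjAct.ofConjAct_toConjAct] at h2
    calc g * (b : Q) = g * (b : Q) * g⁻¹ * g := by group
      _ = (b : Q) * g := by rw [h2]

/-- version inside an ambient group: a nontrivial subgroup `V` of a finite `p`-subgroup `P` which is
normalized by `P` contains a nontrivial element centralized by `P`. -/
theorem exists_central_of_normalized [Finite G] {p : ℕ} [Fact p.Prime] (P V : Subgroup G)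
    (hP : IsPGroup p ↥P) (hVP : V ≤ P) (hN : P ≤ Subgroup.normalizer (V : Set G)) (hV : V ≠ ⊥) :
    ∃ b ∈ V, b ≠ 1 ∧ ∀ g ∈ P, g * b = b * g := by
  have hnorm : (V.subgroupOf P).Normal := (Subgroup.normal_subgroupOf_iff_le_normalizer hVP).mpr hN
  have hne : V.subgroupOf P ≠ ⊥ := by
    intro h
    apply hV
    rw [Subgroup.subgroupOf_eq_bot] at h
    rw [eq_bot_iff]
    intro x hx
    have : x ∈ V ⊓ P := ⟨hx, hVP hx⟩
    rw [disjoint_iff.mp h] at this
    exact this
  obtain ⟨b, hbV, hb1, hbZ⟩ := exists_mem_center_of_normal' hP (V.subgroupOf P) hne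
  refine ⟨b, hbV, ?_, ?_⟩
  · intro h
    apply hb1
    exact Subtype.ext h
  · intro g hg
    rw [Subgroup.mem_center_iff] at hbZ
    exact congrArg Subtype.val (hbZ ⟨g, hg⟩)

/-- a subgroup all of whose elements conjugate `K` into itself lies in the normalizer of `K` -/
lemma le_normalizer_of_conj_mem (H K : Subgroup G) (h : ∀ c ∈ H, ∀ k ∈ K, c * k * c⁻¹ ∈ K) :
    H ≤ Subgroup.normalizer (K : Set G) := by
  intro c hc
  rw [Subgroup.mem_normalizer_iff]
  intro k
  constructor
  · exact h c hc k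
  · intro hk
    have := h c⁻¹ (H.inv_mem hc) _ hk
    have e : c⁻¹ * (c * k * c⁻¹) * c⁻¹⁻¹ = k := by group
    rw [e] at this
    exact this

end Cfsg.Agent.Helper53
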