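import Mathlib

set_option autoImplicit false

namespace Cfsg.Agent.Helper53

variable {G : Type*} [Group G]

/-- conjugation by an element of the normalizer, as an automorphism of the subgroup -/
def conjEquiv (T : Subgroup G) (x : G) (hx : x ∈ Subgroup.normalizer (T : Set G)) : ↥T ≃* ↥T where
  toFun t := ⟨x * t * x⁻¹, (Subgroup.mem_normalizer_iff.mp hx t).mp t.2⟩
  invFun t := ⟨x⁻¹ * t * x, by
    have := (Subgroup.mem_normalizer_iff''.mp hx t).mp t.2
    exact this⟩
  left_inv t := by
    apply Subtype.ext
    simp only
    group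
  right_inv t := by
    apply Subtype.ext
    simp only
    group
  map_mul' s t := by
    apply Subtype.ext
    simp only [Subgroup.coe_mul]
    group

@[simp] lemma conjEquiv_coe (T : Subgroup G) (x : G) (hx : x ∈ Subgroup.normalizer (T : Set G)) (t : ↥T) :
    ((conjEquiv T x hx t : ↥T) : G) = x * t * x⁻¹ := rfl

/-- a characteristic subgroup of `T` is preserved by conjugation with elements normalizing `T` -/
lemma char_conj_mem (T : Subgroup G) (A : Subgroup ↥T) (hA : A.Characteristic) (x : G)
    (hx : x ∈ Subgroup.normalizer (T : Set G)) (t : ↥T) (ht : t ∈ A) :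
    conjEquiv T x hx t ∈ A := by
  have h := (Subgroup.characteristic_iff_le_comap.mp hA) (conjEquiv T x hx)
  exact h ht

/-- the image in `G` of a characteristic subgroup of `T` is normalized by the normalizer of `T` -/
lemma char_map_normalizer_le (T : Subgroup G) (A : Subgroup ↥T) (hA : A.Characteristic) :
    Subgroup.normalizer (T : Set G) ≤ Subgroup.normalizer ((A.map T.subtype : Subgroup G) : Set G) := by
  intro x hx
  rw [Subgroup.mem_normalizer_iff]
  intro h
  constructor
  · rintro ⟨t, ht, rfl⟩
    exact ⟨conjEquiv T x hx t, char_conj_mem T A hA x hx t ht, rfl⟩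
  · rintro ⟨t, ht, hte⟩
    have hx' : x⁻¹ ∈ Subgroup.normalizer (T : Set G) := inv_mem hx
    refine ⟨conjEquiv T x⁻¹ hx' t, char_conj_mem T A hA x⁻¹ hx' t ht, ?_⟩
    simp only [Subgroup.coe_subtype, conjEquiv_coe, inv_inv]
    simp only [Subgroup.coe_subtype] at hte
    rw [hte]
    group

end Cfsg.Agent.Helper53
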