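import Mathlib
import Cfsg.Prelude.Def_Local
import Cfsg.Agent.Helper63.PSeriesTools

/-!
# Lemma L for BG Theorem 3.6 (helper53)

In a group `Y` of `p`-length at most one, if a `p`-subgroup `P₁` normalizes a `p'`-subgroup `Q₁`,
then `⁅Q₁, P₁⁆` centralizes every normal `p`-subgroup `W` of `Y`.
-/

set_option autoImplicit false

namespace Cfsg.Agent.Helper53

open Cfsg Cfsg.Agent.Helper63

/-- If `x ^ n` lies in a subgroup and `n` is coprime to the order of `x`, then `x` lies in it. -/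
theorem mem_of_pow_mem_of_coprime {Y : Type*} [Group Y] (N : Subgroup Y) {x : Y} {n : ℕ}
    (hn : Nat.Coprime n (orderOf x)) (h : x ^ n ∈ N) : x ∈ N := by
  by_cases h1 : orderOf x = 1
  · rw [orderOf_eq_one_iff] at h1
    rw [h1]
    exact N.one_mem
  by_cases h0 : orderOf x = 0
  · rw [h0, Nat.coprime_zero_right] at hn
    rw [hn, pow_one] at h
    exact h
  have hlt : 1 < orderOf x := by omega
  obtain ⟨m, -, hm⟩ := Nat.exists_mul_mod_eq_one_of_coprime hn hlt
  have : x = (x ^ n) ^ m := by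
    rw [← pow_mul, ← pow_mod_orderOf, hm, pow_one]
  rw [this]
  exact N.pow_mem h m

section typelevel

variable {Y : Type*} [Group Y] [Finite Y] {p : ℕ}

/-- In a group of `p`-length at most one, every `p`-element lies in `O_{p',p}`. -/
theorem mem_upperPSeries_two_of_pElement [Fact p.Prime] (hY : PLengthLE p 1 Y) {y : Y} {k : ℕ}
    (hy : y ^ p ^ k = 1) : y ∈ (upperPSeries p Y 2).1 := by
  have hp : p.Prime := Fact.out
  have htop : y ∈ (upperPSeries p Y (2 + 1)).1 := by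
    have := hY
    unfold PLengthLE at this
    rw [show 2 * 1 + 1 = 2 + 1 by norm_num] at this
    rw [this]
    exact Subgroup.mem_top _
  obtain ⟨n, hn, hmem⟩ := exists_pow_mem_upperPSeries p 2 htop
  have hcop : n.Coprime p := hn.1 (by decide)
  refine mem_of_pow_mem_of_coprime _ ?_ hmem
  have hdvd : orderOf y ∣ p ^ k := orderOf_dvd_of_pow_eq_one hy
  exact Nat.Coprime.coprime_dvd_right hdvd (Nat.Coprime.pow_right k hcop)

/-- An element of `O_{p',p}` of order prime to `p` lies in `O_{p'}`. -/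
theorem mem_upperPSeries_one_of_coprime {c : Y} (hc : c ∈ (upperPSeries p Y (1 + 1)).1)
    (hcop : (orderOf c).Coprime p) : c ∈ (upperPSeries p Y 1).1 := by
  obtain ⟨n, hn, hmem⟩ := exists_pow_mem_upperPSeries p 1 hc
  obtain ⟨k, rfl⟩ := hn.2 (by decide)
  refine mem_of_pow_mem_of_coprime _ ?_ hmem
  exact (Nat.Coprime.pow_right k hcop).symm

/-- An element of `O_{p'}` has order prime to `p`. -/
theorem orderOf_coprime_of_mem_upperPSeries_one {c : Y} (hc : c ∈ (upperPSeries p Y (0 + 1)).1) :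
    (orderOf c).Coprime p := by
  obtain ⟨n, hn, hmem⟩ := exists_pow_mem_upperPSeries p 0 hc
  have hcop : n.Coprime p := hn.1 (by decide)
  rw [Helper11.upperPSeries_zero, Subgroup.mem_bot] at hmem
  exact Nat.Coprime.coprime_dvd_left (orderOf_dvd_of_pow_eq_one hmem) hcop

/-- Elements of `O_{p'}(Y)` commute with elements of a normal `p`-subgroup. -/
theorem commute_of_mem_upperPSeries_one [Fact p.Prime] (W : Subgroup Y) [W.Normal] (hW : IsPGroup p W) {c w : Y}
    (hc : c ∈ (upperPSeries p Y 1).1) (hw : w ∈ W) : c * w = w * c := by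
  have hp : p.Prime := Fact.out
  -- the commutator lies in both
  have h1 : c * w * c⁻¹ * w⁻¹ ∈ W := by
    have : c * w * c⁻¹ ∈ W := Subgroup.Normal.conj_mem inferInstance w hw c
    exact W.mul_mem this (W.inv_mem hw)
  have h2 : c * w * c⁻¹ * w⁻¹ ∈ (upperPSeries p Y 1).1 := by
    have : w * c⁻¹ * w⁻¹ ∈ (upperPSeries p Y 1).1 :=
      Subgroup.Normal.conj_mem inferInstance c⁻¹ (Subgroup.inv_mem _ hc) w
    have h3 := Subgroup.mul_mem _ hc this
    have : c * (w * c⁻¹ * w⁻¹) = c * w * c⁻¹ * w⁻¹ := by group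
    rwa [this] at h3
  set z := c * w * c⁻¹ * w⁻¹ with hz
  have hz1 : z = 1 := by
    obtain ⟨k, hk⟩ := hW ⟨z, h1⟩
    have hk' : z ^ p ^ k = 1 := by
      have := congrArg Subtype.val hk
      simpa using this
    have hcop : (orderOf z).Coprime p := orderOf_coprime_of_mem_upperPSeries_one h2
    have hdvd : orderOf z ∣ p ^ k := orderOf_dvd_of_pow_eq_one hk'
    have : orderOf z = 1 := by
      have h4 : (orderOf z).Coprime (p ^ k) := Nat.Coprime.pow_right k hcop
      exact Nat.Coprime.eq_one_of_dvd h4 hdvd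
    exact orderOf_eq_one_iff.mp this
  have : c * w * c⁻¹ * w⁻¹ = 1 := hz1
  calc c * w = (c * w * c⁻¹ * w⁻¹) * (w * c) := by group
    _ = w * c := by rw [this, one_mul]

end typelevel

end Cfsg.Agent.Helper53

namespace Cfsg.Agent.Helper53

open Cfsg Cfsg.Agent.Helper63

/-- **Lemma L** (ambient form). `Y` of `p`-length at most one, `W` a normal `p`-subgroup of `Y`,
`P₁ ≤ Y` a `p`-subgroup normalizing a `p'`-subgroup `Q₁ ≤ Y`: then `⁅Q₁, P₁⁆` centralizes `W`. -/
theorem lemmaL {G : Type*} [Group G] [Finite G] {p : ℕ} [Fact p.Prime] (Y : Subgroup G)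
    (hY : PLengthLE p 1 ↥Y) (W P₁ Q₁ : Subgroup G) (hWY : W ≤ Y)
    (hWn : Y ≤ Subgroup.normalizer (W : Set G)) (hW : IsPGroup p W) (hP₁Y : P₁ ≤ Y)
    (hQ₁Y : Q₁ ≤ Y) (hP₁ : IsPGroup p P₁) (hQ₁ : ¬ p ∣ Nat.card Q₁)
    (hPQ : P₁ ≤ Subgroup.normalizer (Q₁ : Set G)) :
    ⁅Q₁, P₁⁆ ≤ Subgroup.centralizer (W : Set G) := by
  have hp : p.Prime := Fact.out
  rw [Subgroup.commutator_le]
  intro q hq x hx
  rw [commutatorElement_def]
  -- the commutator as an element of `Q₁`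
  have hcQ : q * x * q⁻¹ * x⁻¹ ∈ Q₁ := by
    have h1 : x * q⁻¹ * x⁻¹ ∈ Q₁ := by
      have := (Subgroup.mem_normalizer_iff.mp (hPQ hx) q⁻¹).mp (Q₁.inv_mem hq)
      exact this
    have : q * x * q⁻¹ * x⁻¹ = q * (x * q⁻¹ * x⁻¹) := by group
    rw [this]
    exact Q₁.mul_mem hq h1
  have hcop : (orderOf (q * x * q⁻¹ * x⁻¹)).Coprime p := by
    have h1 : orderOf (q * x * q⁻¹ * x⁻¹) ∣ Nat.card Q₁ := by
      have := orderOf_dvd_natCard (⟨q * x * q⁻¹ * x⁻¹, hcQ⟩ : Q₁)
      rwa [Subgroup.orderOf_mk] at this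
    have h2 : (Nat.card Q₁).Coprime p :=
      ((Nat.Prime.coprime_iff_not_dvd hp).mpr hQ₁).symm
    exact Nat.Coprime.coprime_dvd_left h1 h2
  -- pass to `↥Y`
  set q' : Y := ⟨q, hQ₁Y hq⟩ with hq'
  set x' : Y := ⟨x, hP₁Y hx⟩ with hx'
  have hx'p : ∃ k, x' ^ p ^ k = 1 := by
    obtain ⟨k, hk⟩ := hP₁ ⟨x, hx⟩
    refine ⟨k, ?_⟩
    apply Subtype.ext
    have := congrArg Subtype.val hk
    simpa using this
  obtain ⟨k, hk⟩ := hx'p
  have hx'2 : x' ∈ (upperPSeries p Y 2).1 := mem_upperPSeries_two_of_pElement hY hk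
  have hc'2 : q' * x' * q'⁻¹ * x'⁻¹ ∈ (upperPSeries p Y (1 + 1)).1 := by
    have h1 : q' * x' * q'⁻¹ ∈ (upperPSeries p Y 2).1 :=
      Subgroup.Normal.conj_mem inferInstance x' hx'2 q'
    exact Subgroup.mul_mem _ h1 (Subgroup.inv_mem _ hx'2)
  have hval : ((q' * x' * q'⁻¹ * x'⁻¹ : Y) : G) = q * x * q⁻¹ * x⁻¹ := by
    simp [hq', hx']
  have hc'cop : (orderOf (q' * x' * q'⁻¹ * x'⁻¹)).Coprime p := by
    rw [← Subgroup.orderOf_coe, hval]
    exact hcop
  have hc'1 : q' * x' * q'⁻¹ * x'⁻¹ ∈ (upperPSeries p Y 1).1 :=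
    mem_upperPSeries_one_of_coprime hc'2 hc'cop
  -- `W` inside `Y`
  have hWnorm : (W.subgroupOf Y).Normal := by
    constructor
    intro w hw y
    rw [Subgroup.mem_subgroupOf] at hw ⊢
    have := (Subgroup.mem_normalizer_iff.mp (hWn y.2) (w : G)).mp hw
    simpa using this
  have hWp : IsPGroup p (W.subgroupOf Y) := by
    intro w
    obtain ⟨j, hj⟩ := hW ⟨((w : Y) : G), Subgroup.mem_subgroupOf.mp w.2⟩
    refine ⟨j, ?_⟩
    apply Subtype.ext
    apply Subtype.ext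
    have := congrArg Subtype.val hj
    simpa using this
  rw [Subgroup.mem_centralizer_iff]
  intro w hw
  have hw' : (⟨w, hWY hw⟩ : Y) ∈ W.subgroupOf Y := by
    rw [Subgroup.mem_subgroupOf]; exact hw
  have := commute_of_mem_upperPSeries_one (W.subgroupOf Y) hWp hc'1 hw'
  have h3 : ((q' * x' * q'⁻¹ * x'⁻¹ : Y) : G) * w = w * ((q' * x' * q'⁻¹ * x'⁻¹ : Y) : G) :=
    congrArg (Subtype.val : Y → G) this
  rw [hval] at h3
  exact h3.symm

end Cfsg.Agent.Helper53
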