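import Mathlib
import Cfsg.Prelude.Def_Local
import Cfsg.Agent.Helper63.PSeriesTools

/-!
# `p`-length of a subdirect product (helper53)

If `A`, `B` are normal subgroups of a finite group `K` with `A ⊓ B = ⊥`, then the `p`-length of `K`
is at most the maximum of the `p`-lengths of `K ⧸ A` and `K ⧸ B`.  (Plumbing for BG Theorem 3.6.)
-/

set_option autoImplicit false

namespace Cfsg.Agent.Helper53

open Cfsg Cfsg.Agent.Helper63

variable {K : Type*} [Group K]

theorem stepNat_mul {p j n₁ n₂ : ℕ} (h₁ : StepNat p j n₁) (h₂ : StepNat p j n₂) :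
    StepNat p j (n₁ * n₂) := by
  refine ⟨fun h => Nat.Coprime.mul_left (h₁.1 h) (h₂.1 h), fun h => ?_⟩
  obtain ⟨k₁, rfl⟩ := h₁.2 h
  obtain ⟨k₂, rfl⟩ := h₂.2 h
  exact ⟨k₁ + k₂, (pow_add _ _ _).symm⟩

/-- The intersection of the preimages of the `j`-th terms of the upper `p`-series of `K ⧸ A` and
`K ⧸ B` lies in the `j`-th term of the upper `p`-series of `K`, when `A ⊓ B = ⊥`. -/
theorem comap_upperPSeries_inf_le [Finite K] {p : ℕ} [Fact p.Prime] (A B : Subgroup K) [A.Normal]
    [B.Normal] (hAB : A ⊓ B = ⊥) (j : ℕ) :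
    (upperPSeries p (K ⧸ A) j).1.comap (QuotientGroup.mk' A) ⊓
      (upperPSeries p (K ⧸ B) j).1.comap (QuotientGroup.mk' B) ≤ (upperPSeries p K j).1 := by
  induction j with
  | zero =>
    intro t ht
    rw [Subgroup.mem_inf, Subgroup.mem_comap, Subgroup.mem_comap] at ht
    have h1 : t ∈ A := by
      have := ht.1
      rw [Helper11.upperPSeries_zero, Subgroup.mem_bot, QuotientGroup.mk'_apply,
        QuotientGroup.eq_one_iff] at this
      exact this
    have h2 : t ∈ B := by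
      have := ht.2
      rw [Helper11.upperPSeries_zero, Subgroup.mem_bot, QuotientGroup.mk'_apply,
        QuotientGroup.eq_one_iff] at this
      exact this
    have : t ∈ A ⊓ B := ⟨h1, h2⟩
    rw [hAB, Subgroup.mem_bot] at this
    rw [this]
    exact Subgroup.one_mem _
  | succ j ih =>
    apply le_upperPSeries_succ_of_pow_mem
    intro t ht
    rw [Subgroup.mem_inf, Subgroup.mem_comap, Subgroup.mem_comap] at ht
    obtain ⟨n₁, hn₁, hm₁⟩ := exists_pow_mem_upperPSeries p j ht.1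
    obtain ⟨n₂, hn₂, hm₂⟩ := exists_pow_mem_upperPSeries p j ht.2
    refine ⟨n₁ * n₂, stepNat_mul hn₁ hn₂, ih ?_⟩
    rw [Subgroup.mem_inf, Subgroup.mem_comap, Subgroup.mem_comap]
    constructor
    · rw [pow_mul, map_pow, map_pow, ← map_pow]
      exact Subgroup.pow_mem _ hm₁ n₂
    · rw [mul_comm, pow_mul, map_pow, map_pow, ← map_pow]
      exact Subgroup.pow_mem _ hm₂ n₁

/-- **Subdirect products.** If `A ⊓ B = ⊥` and both `K ⧸ A`, `K ⧸ B` have `p`-length at most `k`,
then so does `K`. -/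
theorem pLengthLE_of_inf_eq_bot [Finite K] {p k : ℕ} [Fact p.Prime] (A B : Subgroup K) [A.Normal]
    [B.Normal] (hAB : A ⊓ B = ⊥) (hA : PLengthLE p k (K ⧸ A)) (hB : PLengthLE p k (K ⧸ B)) :
    PLengthLE p k K := by
  unfold PLengthLE at hA hB ⊢
  rw [eq_top_iff]
  refine le_trans ?_ (comap_upperPSeries_inf_le A B hAB (2 * k + 1))
  rw [hA, hB, Subgroup.comap_top, Subgroup.comap_top, inf_top_eq]

/-- The form requested for BG Theorem 3.6. -/
theorem pLengthLE_one_of_inf_eq_bot [Finite K] {p : ℕ} [Fact p.Prime] (A B : Subgroup K) [A.Normal]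
    [B.Normal] (hAB : A ⊓ B = ⊥) (hA : PLengthLE p 1 (K ⧸ A)) (hB : PLengthLE p 1 (K ⧸ B)) :
    PLengthLE p 1 K :=
  pLengthLE_of_inf_eq_bot A B hAB hA hB

end Cfsg.Agent.Helper53
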