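import Mathlib
import Cfsg.Prelude.Def_Transfer

set_option autoImplicit false

namespace Cfsg.Agent.Helper53

variable {G : Type*} [Group G]

/-- A Sylow `p`-subgroup meets a normal subgroup `H` in a subgroup of index prime to `p` in `H`. -/
theorem not_dvd_relIndex_sylow_of_normal [Finite G] {p : ℕ} [Fact p.Prime] (S : Sylow p G)
    (H : Subgroup G) [H.Normal] : ¬ p ∣ (S : Subgroup G).relIndex H := by
  intro hdvd
  have h1 : Nat.card ↥H = Nat.card ↥((S : Subgroup G) ⊓ H) * (S : Subgroup G).relIndex H := by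
    rw [← Subgroup.inf_relIndex_right, Subgroup.relIndex,
      ← Subgroup.card_mul_index (((S : Subgroup G) ⊓ H).subgroupOf H)]
    congr 1
    exact (Nat.card_congr (Subgroup.subgroupOfEquivOfLe
      (inf_le_right : (S : Subgroup G) ⊓ H ≤ H)).toEquiv)
  have h2 : Nat.card ↥(S : Subgroup G) =
      Nat.card ↥((S : Subgroup G) ⊓ H) * H.relIndex (S : Subgroup G) := by
    rw [← Subgroup.inf_relIndex_left, Subgroup.relIndex,
      ← Subgroup.card_mul_index (((S : Subgroup G) ⊓ H).subgroupOf (S : Subgroup G))]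
    congr 1
    exact (Nat.card_congr (Subgroup.subgroupOfEquivOfLe
      (inf_le_left : (S : Subgroup G) ⊓ H ≤ (S : Subgroup G))).toEquiv)
  obtain ⟨t, ht⟩ : H.relIndex (S : Subgroup G) ∣ H.index :=
    Subgroup.relIndex_dvd_index_of_normal H (S : Subgroup G)
  have h3 := Subgroup.card_mul_index H
  have h4 := Subgroup.card_mul_index (S : Subgroup G)
  have hpos : 0 < Nat.card ↥((S : Subgroup G) ⊓ H) := Nat.card_pos
  have hpos2 : 0 < H.relIndex (S : Subgroup G) := by
    rcases Nat.eq_zero_or_pos (H.relIndex (S : Subgroup G)) with h | h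
    · rw [h, mul_zero] at h2
      have : 0 < Nat.card ↥(S : Subgroup G) := Nat.card_pos
      omega
    · exact h
  have key : (S : Subgroup G).relIndex H * t = (S : Subgroup G).index := by
    have e : Nat.card ↥((S : Subgroup G) ⊓ H) * H.relIndex (S : Subgroup G) *
        ((S : Subgroup G).relIndex H * t) =
        Nat.card ↥((S : Subgroup G) ⊓ H) * H.relIndex (S : Subgroup G) *
          (S : Subgroup G).index := by
      calc Nat.card ↥((S : Subgroup G) ⊓ H) * H.relIndex (S : Subgroup G) *
            ((S : Subgroup G).relIndex H * t)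
          = (Nat.card ↥((S : Subgroup G) ⊓ H) * (S : Subgroup G).relIndex H) *
            (H.relIndex (S : Subgroup G) * t) := by ring
        _ = Nat.card G := by rw [← h1, ← ht, h3]
        _ = Nat.card ↥((S : Subgroup G) ⊓ H) * H.relIndex (S : Subgroup G) *
          (S : Subgroup G).index := by rw [← h2, h4]
    exact Nat.eq_of_mul_eq_mul_left (Nat.mul_pos hpos hpos2) e
  exact S.not_dvd_index (key ▸ Dvd.dvd.mul_right hdvd t)

/-- The intersection of a Sylow `p`-subgroup with a normal subgroup `H`, as a Sylow `p`-subgroup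
of `H`. -/
noncomputable def sylowInfNormal [Finite G] {p : ℕ} [Fact p.Prime] (S : Sylow p G)
    (H : Subgroup G) [H.Normal] : Sylow p ↥H :=
  (S.2.comap_subtype (K := H)).toSylow (not_dvd_relIndex_sylow_of_normal S H)

theorem coe_sylowInfNormal [Finite G] {p : ℕ} [Fact p.Prime] (S : Sylow p G)
    (H : Subgroup G) [H.Normal] :
    ((sylowInfNormal S H : Sylow p ↥H) : Subgroup ↥H) = (S : Subgroup G).subgroupOf H := rfl

/-- A normal subgroup of a normal subgroup `H` whose order is prime to its index in `H` is normal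
in the whole group. -/
theorem normal_map_of_coprime [Finite G] (H : Subgroup G) [H.Normal] (K : Subgroup ↥H) [K.Normal]
    (hcop : (Nat.card ↥K).Coprime K.index) : (K.map H.subtype).Normal := by
  constructor
  intro y hy g
  obtain ⟨k, hk, rfl⟩ := hy
  have hmem : g * (H.subtype k) * g⁻¹ ∈ H := (inferInstance : H.Normal).conj_mem _ k.2 g
  refine ⟨⟨g * (H.subtype k) * g⁻¹, hmem⟩, ?_, rfl⟩
  set w : ↥H := ⟨g * (H.subtype k) * g⁻¹, hmem⟩ with hw
  have hw1 : w ^ Nat.card ↥K = 1 := by
    apply Subtype.ext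
    rw [hw]
    show (g * (H.subtype k) * g⁻¹) ^ Nat.card ↥K = 1
    rw [conj_pow]
    have : (⟨k, hk⟩ : ↥K) ^ Nat.card ↥K = 1 := pow_card_eq_one'
    have h2 : k ^ Nat.card ↥K = 1 := by
      have h3 := congrArg (fun z : ↥K => (z : ↥H)) this
      exact h3
    rw [← map_pow, h2, map_one, mul_one, mul_inv_cancel]
  have hq1 : (QuotientGroup.mk' K w) ^ Nat.card ↥K = 1 := by
    rw [← map_pow, hw1, map_one]
  have hq2 : (QuotientGroup.mk' K w) ^ K.index = 1 := by
    rw [Subgroup.index_eq_card]; exact pow_card_eq_one'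
  have hq : QuotientGroup.mk' K w = 1 := by
    have h1 := orderOf_dvd_of_pow_eq_one hq1
    have h2 := orderOf_dvd_of_pow_eq_one hq2
    have := Nat.eq_one_of_dvd_coprimes hcop h1 h2
    exact orderOf_eq_one_iff.mp this
  rwa [QuotientGroup.mk'_apply, QuotientGroup.eq_one_iff] at hq

/-- If a normal subgroup of `p`-power index has a normal `p`-complement, then so does the group. -/
theorem hasNormalPComplement_of_normal_of_index_pow [Finite G] {p : ℕ} [Fact p.Prime]
    (H : Subgroup G) [H.Normal] (k : ℕ) (hidx : H.index = p ^ k)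
    (h : Cfsg.HasNormalPComplement p ↥H) : Cfsg.HasNormalPComplement p G := by
  obtain ⟨Q, K, hKn, hK⟩ := h
  obtain ⟨P⟩ : Nonempty (Sylow p G) := inferInstance
  have hp : p.Prime := Fact.out
  have hcard : Nat.card ↥K * Nat.card ↥(Q : Subgroup ↥H) = Nat.card ↥H := hK.card_mul_card
  have hQidx : (Q : Subgroup ↥H).index = Nat.card ↥K := hK.index_eq_card
  have hKidx : K.index = Nat.card ↥(Q : Subgroup ↥H) := hK.symm.index_eq_card
  have hcopQ : (Nat.card ↥(Q : Subgroup ↥H)).Coprime (Nat.card ↥K) := by
    rw [← hQidx]; exact Q.card_coprime_index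
  have : (K.map H.subtype).Normal := by
    apply normal_map_of_coprime
    rw [hKidx]; exact hcopQ.symm
  refine ⟨P, K.map H.subtype, this, ?_⟩
  have hcardK' : Nat.card ↥(K.map H.subtype) = Nat.card ↥K :=
    Subgroup.card_map_of_injective H.subtype_injective
  obtain ⟨m, hm⟩ := Q.2.exists_card_eq
  have hG : Nat.card G = Nat.card ↥K * p ^ (m + k) := by
    rw [← Subgroup.card_mul_index H, hidx, ← hcard, hm, pow_add]; ring
  have hcopK : (Nat.card ↥K).Coprime p := by
    rcases Nat.eq_zero_or_pos m with h0 | h0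
    · -- `Q` trivial: then `K = ⊤` has index prime to `p`
      by_contra hnc
      have hdvd : p ∣ Nat.card ↥K := by
        rw [Nat.coprime_comm, Nat.Prime.coprime_iff_not_dvd hp] at hnc
        exact not_not.mp hnc
      have := Q.not_dvd_index
      rw [hQidx] at this
      exact this hdvd
    · have : (p ^ m).Coprime (Nat.card ↥K) := hm ▸ hcopQ
      exact ((Nat.coprime_pow_left_iff h0 _ _).mp this).symm
  have hPcard : Nat.card ↥(P : Subgroup G) = p ^ (m + k) := by
    rw [P.card_eq_multiplicity, hG, Nat.factorization_mul (Nat.card_pos.ne') (pow_ne_zero _ hp.ne_zero)]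
    simp only [Finsupp.coe_add, Pi.add_apply]
    rw [Nat.factorization_eq_zero_of_not_dvd ((Nat.Prime.coprime_iff_not_dvd hp).mp hcopK.symm),
      hp.factorization_pow]
    simp
  apply Subgroup.isComplement'_of_coprime
  · rw [hcardK', hPcard, hG]
  · rw [hcardK', hPcard]
    exact Nat.Coprime.pow_right _ hcopK

/-- A finite group with a cyclic Sylow `2`-subgroup has a normal `2`-complement. -/
theorem hasNormalPComplement_two_of_isCyclic [Finite G] (S : Sylow 2 G)
    (hS : IsCyclic ↥(S : Subgroup G)) : Cfsg.HasNormalPComplement 2 G := by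
  have : Fact (Nat.Prime 2) := ⟨Nat.prime_two⟩
  by_cases h2 : 2 ∣ Nat.card G
  · have hmin : (Nat.card G).minFac = 2 := (Nat.minFac_eq_two_iff _).mpr h2
    exact ⟨S, _, inferInstance, IsCyclic.isComplement' hmin hS⟩
  · refine ⟨S, ⊤, inferInstance, ?_⟩
    have hbot : (S : Subgroup G) = ⊥ := by
      rw [← Subgroup.card_eq_one]
      obtain ⟨m, hm⟩ := S.2.exists_card_eq
      rcases Nat.eq_zero_or_pos m with h0 | h0
      · rw [hm, h0, pow_zero]
      · exfalso
        apply h2
        have : 2 ∣ Nat.card ↥(S : Subgroup G) := by rw [hm]; exact dvd_pow_self 2 h0.ne'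
        exact this.trans (Subgroup.card_subgroup_dvd_card _)
    rw [hbot]
    exact Subgroup.isComplement'_top_bot

end Cfsg.Agent.Helper53
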