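import Mathlib
import Cfsg.Agent.Helper1.HKK.Basic
import Cfsg.Agent.Helper1.HKK.LoopDefs
import Cfsg.Agent.Helper1.HKK.GroupDefs

/-!
# (A2b) of S3779 (Higman–Kreknin–Kostrikin): `spread a` is a sum of eigen-elements

Delivered to helper1 (board #6245).
-/

set_option autoImplicit false

open Cfsg.Agent.Helper1.HKK

namespace Cfsg.Agent.Helper53.HKK

variable {p : ℕ} [Fact p.Prime] {L : Type*} [LieRing L]

/-- (A2b) `spread a` is a sum of eigen-elements. -/
theorem spread_mem_iSup (φ : L →+ L) (hp : ∀ a, φ^[p] a = a) (hfix : ∀ a, φ a = a → a = 0) (a : L) :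
    spread p a ∈ ⨆ k : ZMod p, eigenFam (p := p) φ k := by
  classical
  have hpp : p.Prime := Fact.out
  have hpid : (⇑φ)^[p] = id := funext hp
  -- periodicity
  have hper : ∀ n : ℕ, (⇑φ)^[n] a = (⇑φ)^[n % p] a := by
    intro n
    conv_lhs => rw [← Nat.mod_add_div n p]
    rw [Function.iterate_add_apply, Function.iterate_mul, hpid, Function.iterate_id]
    rfl
  set F : ZMod p → L := fun m => (⇑φ)^[m.val] a with hF
  have hFn : ∀ n : ℕ, (⇑φ)^[n] a = F (n : ZMod p) := by
    intro n
    rw [hF]
    simp only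
    rw [ZMod.val_natCast, ← hper]
  have hFsucc : ∀ m : ZMod p, φ (F m) = F (m + 1) := by
    intro m
    have h1 : φ (F m) = (⇑φ)^[m.val + 1] a := by
      rw [Function.iterate_succ_apply']
    rw [h1, hFn]
    congr 1
    push_cast
    rw [ZMod.natCast_zmod_val]
  have hF0 : F 0 = a := by
    rw [hF]; simp
  -- the total sum vanishes
  have hS : ∑ m : ZMod p, F m = 0 := by
    apply hfix
    rw [map_sum]
    calc ∑ m : ZMod p, φ (F m) = ∑ m : ZMod p, F (m + 1) :=
          Finset.sum_congr rfl (fun m _ => hFsucc m)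
      _ = ∑ m : ZMod p, F m :=
          Fintype.sum_equiv (Equiv.addRight 1) _ _ (fun m => rfl)
  have hS' : ∑ m ∈ (Finset.univ.erase (0 : ZMod p)), F m = -a := by
    have h1 := Finset.add_sum_erase Finset.univ F (Finset.mem_univ (0 : ZMod p))
    rw [hS, hF0] at h1
    exact eq_neg_of_add_eq_zero_right h1
  -- the eigen-elements
  set f : ZMod p → Loop p L := fun k => ⟨fun i => F (-i * k⁻¹)⟩ with hf
  have hmem : ∀ k : ZMod p, k ≠ 0 → f k ∈ eigenFam (p := p) φ k := by
    intro k hk
    rw [mem_eigenFam]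
    intro i
    show φ (F (-i * k⁻¹)) = F (-(i - k) * k⁻¹)
    rw [hFsucc]
    congr 1
    field_simp
    ring
  have hsum : spread p a = ∑ k ∈ (Finset.univ.erase (0 : ZMod p)), f k := by
    apply Loop.ext
    intro i
    rw [Loop.sum_apply, spread_apply]
    show _ = ∑ k ∈ (Finset.univ.erase (0 : ZMod p)), F (-i * k⁻¹)
    split_ifs with hi
    · subst hi
      simp only [neg_zero, zero_mul, hF0, Finset.sum_const]
      congr 1
      rw [Finset.card_erase_of_mem (Finset.mem_univ _), Finset.card_univ, ZMod.card]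
    · rw [← hS']
      symm
      refine Finset.sum_nbij' (fun k => -i * k⁻¹) (fun m => -i * m⁻¹) ?_ ?_ ?_ ?_ ?_
      · intro k hk
        rw [Finset.mem_erase] at hk ⊢
        refine ⟨?_, Finset.mem_univ _⟩
        exact mul_ne_zero (neg_ne_zero.mpr hi) (inv_ne_zero hk.1)
      · intro m hm
        rw [Finset.mem_erase] at hm ⊢
        refine ⟨?_, Finset.mem_univ _⟩
        exact mul_ne_zero (neg_ne_zero.mpr hi) (inv_ne_zero hm.1)
      · intro k hk
        rw [Finset.mem_erase] at hk
        have hk0 := hk.1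
        field_simp
      · intro m hm
        rw [Finset.mem_erase] at hm
        have hm0 := hm.1
        field_simp
      · intro k _
        rfl
  rw [hsum]
  refine AddSubgroup.sum_mem _ (fun k hk => ?_)
  rw [Finset.mem_erase] at hk
  exact AddSubgroup.mem_iSup_of_mem k (hmem k hk.1)

end Cfsg.Agent.Helper53.HKK
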