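import Mathlib
import Cfsg.Agent.Helper1.HKK.Basic
import Cfsg.Agent.Helper1.HKK.LoopDefs
import Cfsg.Agent.Helper1.HKK.GroupDefs
import Cfsg.Agent.Helper53.HKKA2b

/-!
# (A3) of S3779 (Higman–Kreknin–Kostrikin): transfer from the loop ring to `L`

Primed version: (A2a), (A2c), (A2d) are explicit hypotheses. Delivered to helper1 (board #6245).
-/

set_option autoImplicit false

open Cfsg.Agent.Helper1.HKK

namespace Cfsg.Agent.Helper53.HKK

section lnb
variable {K : Type*} [LieRing K]

theorem lnb_nsmul (m : ℕ) (z : K) (zs : List K) : lnb (m • z) zs = m • lnb z zs := by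
  induction zs generalizing z with
  | nil => rfl
  | cons w zs ih => rw [lnb_cons, lnb_cons, nsmul_lie, ih]

end lnb

variable {p : ℕ} [Fact p.Prime] {L : Type*} [LieRing L]

theorem lnb_spread (hA2c : ∀ a b : L, ⁅spread p a, spread p b⁆ = p • spread p ⁅a, b⁆)
    (ys : List L) (x : L) :
    lnb (spread p x) (ys.map (spread p)) = p ^ ys.length • spread p (lnb x ys) := by
  induction ys generalizing x with
  | nil => simp [lnb_nil]
  | cons y ys ih =>
    rw [List.map_cons, lnb_cons, hA2c, lnb_nsmul, ih, lnb_cons, List.length_cons, pow_succ',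
      mul_smul]

theorem eq_zero_of_pow_nsmul (htor : ∀ a : L, p • a = 0 → a = 0) (c : ℕ) (z : L)
    (h : p ^ c • z = 0) : z = 0 := by
  induction c with
  | zero => simpa using h
  | succ c ih =>
    apply ih
    apply htor
    rw [← mul_smul, ← pow_succ']
    exact h

/-- (A3), primed: (A2a), (A2c), (A2d) as hypotheses. -/
theorem lnb_eq_zero_of_fpf' (φ : L →+ L) (hp : ∀ a, φ^[p] a = a)
    (hfix : ∀ a, φ a = a → a = 0) (htor : ∀ a : L, p • a = 0 → a = 0) (c : ℕ)
    (hc : ∀ M : ZMod p → AddSubgroup (Loop p L), IsGradedFam M → ∀ d, lcf M c d = ⊥)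
    (hA2a : IsGradedFam (eigenFam (p := p) φ))
    (hA2c : ∀ a b : L, ⁅spread p a, spread p b⁆ = p • spread p ⁅a, b⁆)
    (hA2d : ∀ (M : ZMod p → AddSubgroup (Loop p L)) (x : Loop p L) (ys : List (Loop p L)),
      x ∈ ⨆ k, M k → (∀ y ∈ ys, y ∈ ⨆ k, M k) → lnb x ys ∈ ⨆ d, lcf M ys.length d)
    (x : L) (ys : List L) (hlen : ys.length = c) : lnb x ys = 0 := by
  have hpp : p.Prime := Fact.out
  have h1 := hA2d (eigenFam (p := p) φ) (spread p x) (ys.map (spread p))
    (spread_mem_iSup φ hp hfix x) (by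
      intro y hy
      rw [List.mem_map] at hy
      obtain ⟨a, _, rfl⟩ := hy
      exact spread_mem_iSup φ hp hfix a)
  rw [List.length_map, hlen] at h1
  have hbot : (⨆ d, lcf (eigenFam (p := p) φ) c d) = ⊥ := by
    rw [iSup_eq_bot]
    intro d
    exact hc _ hA2a d
  rw [hbot, AddSubgroup.mem_bot, lnb_spread hA2c, hlen] at h1
  have h2 := congrArg (fun f : Loop p L => f (1 : ZMod p)) h1
  simp only [Loop.nsmul_apply, Loop.zero_apply, spread_apply] at h2
  have h10 : (1 : ZMod p) ≠ 0 := by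
    have : Fact (1 < p) := ⟨hpp.one_lt⟩
    exact one_ne_zero
  rw [if_neg h10, smul_neg, neg_eq_zero] at h2
  exact eq_zero_of_pow_nsmul htor c _ h2

end Cfsg.Agent.Helper53.HKK
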