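import Mathlib
import Cfsg.Agent.Helper84.SU3P.Defs

/-!
S2289 (helper84), piece (BAS): the basic matrix identities of the hyperbolic model of `SU₃`.
-/

set_option autoImplicit false
set_option linter.unusedSimpArgs false
set_option linter.unnecessarySeqFocus false
set_option linter.unusedVariables false

namespace Cfsg.Agent.Helper53.SU3P

open Matrix Polynomial Cfsg.Agent.Helper84.RU3 Cfsg.Agent.Helper96.SLPres
  Cfsg.Agent.Helper96.StemSLTwo Cfsg.Agent.Helper96.StPres Cfsg.Agent.Helper84.SU3P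

variable {K : Type*} [Field K] (bar : K →+* K) (hb : ∀ x, bar (bar x) = x)
include hb

/-- (BAS) the basic matrix identities -/
theorem basic_identities :
    (∀ a b a' b' : K, uM bar a b * uM bar a' b' = uM bar (a + a') (b + b' - bar a * a')) ∧
    (∀ a b : K, b + bar b + a * bar a = 0 → uM bar a b * uM bar (-a) (bar b) = 1) ∧
    (∀ l l' : K, l ≠ 0 → l' ≠ 0 → hM bar l * hM bar l' = hM bar (l * l')) ∧
    (hM bar (1 : K) = 1) ∧
    (∀ a b l : K, l ≠ 0 → hM bar l * uM bar a b = uM bar (a * bar l ^ 2 / l) (l * bar l * b) * hM bar l) ∧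
    (∀ ε : K, ε ≠ 0 → tM ε * tM (-ε) = 1 ∧ tM (-ε) * tM ε = 1) ∧
    (∀ ε l : K, ε ≠ 0 → l ≠ 0 → tM ε * hM bar l = hM bar (bar l)⁻¹ * tM ε) ∧
    (∀ ε : K, ε ≠ 0 → bar ε = -ε → tM ε * tM ε = hM bar (-1)) ∧
    (∀ ε a b : K, ε ≠ 0 → bar ε = -ε →
      tM ε * uM bar a b * tM (-ε) = lM bar (-(ε * a)) (-(ε ^ 2 * b))) := by
  refine ⟨?_, ?_, ?_, ?_, ?_, ?_, ?_, ?_, ?_⟩
  · intro a b a' b'
    unfold uM
    ext i j
    fin_cases i <;> fin_cases j <;>
      simp [Matrix.mul_apply, Fin.sum_univ_three] <;> ring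
  · intro a b h
    unfold uM
    ext i j
    fin_cases i <;> fin_cases j <;>
      simp [Matrix.mul_apply, Fin.sum_univ_three, hb, Matrix.one_apply] <;>
      linear_combination h
  · intro l l' hl hl'
    have hbl : bar l ≠ 0 := (map_ne_zero bar).mpr hl
    have hbl' : bar l' ≠ 0 := (map_ne_zero bar).mpr hl'
    unfold hM
    ext i j
    fin_cases i <;> fin_cases j <;>
      simp [Matrix.mul_apply, Fin.sum_univ_three] <;> field_simp
  · unfold hM
    ext i j
    fin_cases i <;> fin_cases j <;> simp [Matrix.one_apply]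
  · intro a b l hl
    have hbl : bar l ≠ 0 := (map_ne_zero bar).mpr hl
    unfold hM uM
    ext i j
    fin_cases i <;> fin_cases j <;>
      simp [Matrix.mul_apply, Fin.sum_univ_three, hb] <;> field_simp
  · intro ε hε
    constructor
    · unfold tM
      ext i j
      fin_cases i <;> fin_cases j <;>
        simp [Matrix.mul_apply, Fin.sum_univ_three, Matrix.one_apply, hε]
    · unfold tM
      ext i j
      fin_cases i <;> fin_cases j <;>
        simp [Matrix.mul_apply, Fin.sum_univ_three, Matrix.one_apply, hε]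
  · intro ε l hε hl
    have hbl : bar l ≠ 0 := (map_ne_zero bar).mpr hl
    unfold tM hM
    ext i j
    fin_cases i <;> fin_cases j <;>
      simp [Matrix.mul_apply, Fin.sum_univ_three, hb] <;> field_simp
  · intro ε hε hεb
    unfold tM hM
    ext i j
    fin_cases i <;> fin_cases j <;>
      simp [Matrix.mul_apply, Fin.sum_univ_three, hε]
  · intro ε a b hε hεb
    unfold tM uM lM
    ext i j
    fin_cases i <;> fin_cases j <;>
      simp [Matrix.mul_apply, Fin.sum_univ_three, hε, hεb] <;> field_simp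

end Cfsg.Agent.Helper53.SU3P
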