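import Mathlib

/-!
# Definitions for the Cossey-Hawkes-Mann theorem (S4139)

`Ap G p` : elements of `G` whose conjugacy class size (index of the centralizer) is prime to `p`.
`Wp G p` : `p'`-elements `v` (encoded as `v ^ m = 1` with `m = |G| / |G|_p`) centralizing some
Sylow `p`-subgroup of `G`.
-/

namespace Cfsg.Agent.Helper53.CHM

/-- elements of `G` whose centralizer has index prime to `p` -/
def Ap (G : Type*) [Group G] (p : ℕ) : Set G :=
  {x | ¬ p ∣ (Subgroup.centralizer ({x} : Set G)).index}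

/-- `p'`-elements (in the sense `v ^ (|G| / |G|_p) = 1`) centralizing some Sylow `p`-subgroup -/
def Wp (G : Type*) [Group G] (p : ℕ) : Set G :=
  {v | v ^ (Nat.card G / p ^ (Nat.card G).factorization p) = 1 ∧
    ∃ P : Sylow p G, (P : Subgroup G) ≤ Subgroup.centralizer ({v} : Set G)}

theorem mem_Ap {G : Type*} [Group G] {p : ℕ} {x : G} :
    x ∈ Ap G p ↔ ¬ p ∣ (Subgroup.centralizer ({x} : Set G)).index := Iff.rfl

theorem mem_Wp {G : Type*} [Group G] {p : ℕ} {v : G} :
    v ∈ Wp G p ↔ v ^ (Nat.card G / p ^ (Nat.card G).factorization p) = 1 ∧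
      ∃ P : Sylow p G, (P : Subgroup G) ≤ Subgroup.centralizer ({v} : Set G) := Iff.rfl

end Cfsg.Agent.Helper53.CHM
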