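import Mathlib
import Cfsg.Agent.Helper53.CHMDefs

/-! class size = index of the centralizer, in the `Nat.card` / `centralizer {x}` form -/

namespace Cfsg.Agent.Helper53.CHM

open Subgroup

theorem card_carrier_eq_index {G : Type*} [Group G] (x : G) :
    Nat.card (ConjClasses.mk x).carrier = (centralizer ({x} : Set G)).index := by
  rw [← ConjAct.orbit_eq_carrier_conjClasses, Nat.card_coe_set_eq,
    ← MulAction.index_stabilizer, ConjAct.stabilizer_eq_centralizer]
  rfl

theorem ncard_orbit_eq_index {G : Type*} [Group G] (x : G) :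
    (MulAction.orbit (ConjAct G) x).ncard = (centralizer ({x} : Set G)).index := by
  rw [← MulAction.index_stabilizer, ConjAct.stabilizer_eq_centralizer]
  rfl

theorem mem_Ap_iff_card_carrier {G : Type*} [Group G] {p : ℕ} {x : G} :
    x ∈ Ap G p ↔ ¬ p ∣ Nat.card (ConjClasses.mk x).carrier := by
  rw [card_carrier_eq_index]; rfl

end Cfsg.Agent.Helper53.CHM
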