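import Mathlib
import Cfsg.Agent.S0199
import Cfsg.Agent.Lib.Cores
import Cfsg.Agent.Helper53.PGroup

set_option autoImplicit false

namespace Cfsg.Agent.Helper53

variable {G : Type*} [Group G]

/-- For involutions `a, b`, conjugation by `a` inverts `a * b`. -/
theorem conj_mul_of_sq_eq_one {a b : G} (ha : a ^ 2 = 1) (hb : b ^ 2 = 1) :
    a * (a * b) * a⁻¹ = (a * b)⁻¹ := by
  have ha' : a⁻¹ = a := by rw [inv_eq_iff_mul_eq_one, ← sq, ha]
  have hb' : b⁻¹ = b := by rw [inv_eq_iff_mul_eq_one, ← sq, hb]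
  rw [mul_inv_rev, ha', hb', ← mul_assoc, ← sq, ha, one_mul]

/-- In the dihedral group generated by two involutions whose product has odd order, the two
involutions are conjugate by a power of their product. -/
theorem conj_pow_mul_eq_of_odd {a b : G} (ha : a ^ 2 = 1) (hb : b ^ 2 = 1)
    (hodd : Odd (orderOf (a * b))) :
    (a * b) ^ ((orderOf (a * b) - 1) / 2) * a * ((a * b) ^ ((orderOf (a * b) - 1) / 2))⁻¹ = b := by
  set ρ := a * b with hρ
  set j := (orderOf ρ - 1) / 2 with hj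
  set d := ρ ^ j with hd
  have ha' : a⁻¹ = a := by rw [inv_eq_iff_mul_eq_one, ← sq, ha]
  have hb' : b⁻¹ = b := by rw [inv_eq_iff_mul_eq_one, ← sq, hb]
  have h1 : a * d * a⁻¹ = d⁻¹ := by
    rw [hd, ← conj_pow, conj_mul_of_sq_eq_one ha hb, inv_pow]
  have h2 : a * d⁻¹ * a⁻¹ = d := by
    have : a * d⁻¹ * a⁻¹ = (a * d * a⁻¹)⁻¹ := by group
    rw [this, h1, inv_inv]
  have h3 : d * a * d⁻¹ = d * d * a := by
    calc d * a * d⁻¹ = d * (a * d⁻¹ * a⁻¹) * a := by group
      _ = d * d * a := by rw [h2]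
  obtain ⟨k, hk⟩ := hodd
  have hjk : j = k := by rw [hj, hk]; omega
  have h4 : d * d = ρ⁻¹ := by
    rw [hd, ← pow_add, hjk]
    apply eq_inv_of_mul_eq_one_left
    rw [← pow_succ]
    have : k + k + 1 = orderOf ρ := by rw [hk]; ring
    rw [this, pow_orderOf_eq_one]
  rw [h3, h4, hρ, mul_inv_rev, ha', hb', mul_assoc, ← sq, ha, mul_one]

/-- Two involutions whose product has `2`-power order generate a `2`-group. -/
theorem isPGroup_two_sup_zpowers_of_orderOf_mul {a b : G} (ha : a ^ 2 = 1) (hb : b ^ 2 = 1)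
    (k : ℕ) (hk : orderOf (a * b) = 2 ^ k) :
    IsPGroup 2 ↥(Subgroup.zpowers a ⊔ Subgroup.zpowers b) := by
  have : Fact (Nat.Prime 2) := ⟨Nat.prime_two⟩
  have hA : IsPGroup 2 ↥(Subgroup.zpowers a) := by
    intro x
    refine ⟨1, ?_⟩
    obtain ⟨i, hi⟩ := Subgroup.mem_zpowers_iff.mp x.2
    apply Subtype.ext
    show (x : G) ^ 2 ^ 1 = 1
    rw [← hi, pow_one, ← zpow_natCast, ← zpow_mul, mul_comm, zpow_mul, zpow_natCast, ha, one_zpow]
  have hR : IsPGroup 2 ↥(Subgroup.zpowers (a * b)) := by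
    apply IsPGroup.of_card (n := k)
    rw [Nat.card_zpowers, hk]
  have hnorm : Subgroup.zpowers a ≤ Subgroup.normalizer (Subgroup.zpowers (a * b) : Set G) := by
    apply le_normalizer_of_conj_mem
    intro c hc r hr
    obtain ⟨i, rfl⟩ := Subgroup.mem_zpowers_iff.mp hc
    obtain ⟨l, rfl⟩ := Subgroup.mem_zpowers_iff.mp hr
    -- conjugation by `a` inverts, so conjugation by `a ^ i` maps `⟨ab⟩` to itself
    have key : ∀ r ∈ Subgroup.zpowers (a * b), a * r * a⁻¹ ∈ Subgroup.zpowers (a * b) := by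
      intro r hr
      obtain ⟨l, rfl⟩ := Subgroup.mem_zpowers_iff.mp hr
      have : a * (a * b) ^ l * a⁻¹ = ((a * b) ^ l)⁻¹ := by
        rw [← conj_zpow, conj_mul_of_sq_eq_one ha hb, inv_zpow]
      rw [this]
      exact (Subgroup.zpowers (a * b)).inv_mem (Subgroup.zpow_mem_zpowers _ _)
    have ha' : a⁻¹ = a := by rw [inv_eq_iff_mul_eq_one, ← sq, ha]
    rcases Int.even_or_odd i with ⟨t, ht⟩ | ⟨t, ht⟩
    · have h1 : a ^ i = 1 := by
        rw [ht, ← two_mul, zpow_mul, zpow_ofNat, ha, one_zpow]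
      rw [h1, one_mul, inv_one, mul_one]
      exact Subgroup.zpow_mem_zpowers _ _
    · have h1 : a ^ i = a := by
        rw [ht, zpow_add, zpow_mul, zpow_ofNat, ha, one_zpow, one_mul, zpow_one]
      rw [h1]
      exact key _ (Subgroup.zpow_mem_zpowers _ _)
  have hsup := hA.to_sup_of_normal_right' hR hnorm
  apply hsup.to_le
  apply sup_le le_sup_left
  rw [Subgroup.zpowers_le]
  have ha' : a⁻¹ = a := by rw [inv_eq_iff_mul_eq_one, ← sq, ha]
  have hbb : b = a⁻¹ * (a * b) := by group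
  have hmem : a⁻¹ * (a * b) ∈ Subgroup.zpowers a ⊔ Subgroup.zpowers (a * b) :=
    Subgroup.mul_mem _ (Subgroup.mem_sup_left ((Subgroup.zpowers a).inv_mem
      (Subgroup.mem_zpowers a))) (Subgroup.mem_sup_right (Subgroup.mem_zpowers (a * b)))
  rw [← hbb] at hmem
  exact hmem

/-- An involution outside `O_2(G)` has a conjugate with which its product has odd order `> 1`. -/
theorem exists_conj_odd_order [Finite G] {a : G} (ha : a ^ 2 = 1) (haO : a ∉ Cfsg.pCore 2 G) :
    ∃ g : G, Odd (orderOf (a * (g * a * g⁻¹))) ∧ orderOf (a * (g * a * g⁻¹)) ≠ 1 := by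
  have : Fact (Nat.Prime 2) := ⟨Nat.prime_two⟩
  have hA : IsPGroup 2 ↥(Subgroup.zpowers a) := by
    intro x
    refine ⟨1, ?_⟩
    obtain ⟨i, hi⟩ := Subgroup.mem_zpowers_iff.mp x.2
    apply Subtype.ext
    show (x : G) ^ 2 ^ 1 = 1
    rw [← hi, pow_one, ← zpow_natCast, ← zpow_mul, mul_comm, zpow_mul, zpow_natCast, ha, one_zpow]
  -- some conjugate generates a non-2-group with `a`
  obtain ⟨g, hg⟩ : ∃ g : G, ¬ IsPGroup 2
      ↥(Subgroup.zpowers a ⊔ (Subgroup.zpowers a).map (MulAut.conj g).toMonoidHom) := by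
    by_contra hcon
    push Not at hcon
    obtain ⟨N, hNn, hNp, hle⟩ := Cfsg.Agent.S0199.result (Subgroup.zpowers a) hA hcon
    exact haO (Cfsg.Agent.Lib.le_pCore hNn hNp (hle (Subgroup.mem_zpowers a)))
  -- induction on the 2-part of the order
  have key : ∀ e : ℕ, ∀ g : G, (∃ r : ℕ, Odd r ∧ r ≠ 1 ∧
      orderOf (a * (g * a * g⁻¹)) = 2 ^ e * r) →
      ∃ g' : G, Odd (orderOf (a * (g' * a * g'⁻¹))) ∧ orderOf (a * (g' * a * g'⁻¹)) ≠ 1 := by
    intro e
    induction e with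
    | zero =>
      rintro g ⟨r, hr, hr1, hrr⟩
      rw [pow_zero, one_mul] at hrr
      exact ⟨g, hrr ▸ hr, hrr ▸ hr1⟩
    | succ e ih =>
      rintro g ⟨r, hr, hr1, hrr⟩
      set b := g * a * g⁻¹ with hb
      have hb2 : b ^ 2 = 1 := by rw [hb, conj_pow, ha, mul_one, mul_inv_cancel]
      have hb' : b⁻¹ = b := by rw [inv_eq_iff_mul_eq_one, ← sq, hb2]
      apply ih b
      refine ⟨r, hr, hr1, ?_⟩
      have h1 : a * (b * a * b⁻¹) = (a * b) ^ 2 := by
        rw [hb', sq]; group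
      have hdvd : 2 ∣ orderOf (a * b) := by
        rw [hrr, pow_succ]
        exact ⟨2 ^ e * r, by ring⟩
      rw [h1, orderOf_pow_of_dvd (by norm_num) hdvd, hrr]
      have : 2 ^ (e + 1) * r = (2 ^ e * r) * 2 := by ring
      rw [this, Nat.mul_div_cancel _ (by norm_num)]
  set b := g * a * g⁻¹ with hb
  have hb2 : b ^ 2 = 1 := by rw [hb, conj_pow, ha, mul_one, mul_inv_cancel]
  have hmap : (Subgroup.zpowers a).map (MulAut.conj g).toMonoidHom = Subgroup.zpowers b := by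
    rw [MonoidHom.map_zpowers]; rfl
  rw [hmap] at hg
  have hm0 : orderOf (a * b) ≠ 0 := (orderOf_pos (a * b)).ne'
  obtain ⟨e, r, hr, hm⟩ := Nat.exists_eq_two_pow_mul_odd hm0
  apply key e g
  refine ⟨r, hr, ?_, hm⟩
  intro hr1
  apply hg
  rw [hr1, mul_one] at hm
  exact isPGroup_two_sup_zpowers_of_orderOf_mul ha hb2 e hm

end Cfsg.Agent.Helper53
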