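import Cfsg.Agent.Helper16.DT.Defs

/-!
# DT farm (helper16), piece (EQI): elementary facts on equivalence of matrix representations
-/

set_option autoImplicit false
set_option linter.unusedSectionVars false
set_option linter.unusedVariables false

namespace Cfsg.Agent.Helper53.DT

open Cfsg Cfsg.Agent.Helper16 Cfsg.Agent.Helper16.DT Polynomial Matrix

universe u v w

section FieldK

variable {K : Type v} [Field K] {G : Type u} [Group G]

/-- Index types of mutually inverse rectangular matrices have the same cardinality. -/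
theorem EQI_card_eq {ι : Type w} [Fintype ι] [DecidableEq ι] {κ : Type*} [Fintype κ]
    [DecidableEq κ] {P : Matrix ι κ K} {Q : Matrix κ ι K} (hPQ : P * Q = 1) (hQP : Q * P = 1) :
    Fintype.card ι = Fintype.card κ := by
  have e : (ι → K) ≃ₗ[K] (κ → K) := Matrix.toLin'OfInv hPQ hQP
  have h := e.finrank_eq
  rwa [Module.finrank_fintype_fun_eq_card, Module.finrank_fintype_fun_eq_card] at h

/-- (EQI) equivalence of matrix representations is symmetric. -/
theorem matEquiv_symm {ι : Type w} [Fintype ι] [DecidableEq ι] {κ : Type*} [Fintype κ]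
    [DecidableEq κ] {ρ : G →* Matrix ι ι K} {σ : G →* Matrix κ κ K} (h : MatEquiv ρ σ) :
    MatEquiv σ ρ := by
  obtain ⟨P, Q, hPQ, hQP, hg⟩ := h
  refine ⟨Q, P, hQP, hPQ, fun g => ?_⟩
  rw [← hg g]
  calc Q * (P * σ g * Q) * P = (Q * P) * σ g * (Q * P) := by
        simp only [Matrix.mul_assoc]
    _ = σ g := by rw [hQP, Matrix.one_mul, Matrix.mul_one]

/-- (EQI) equivalence of matrix representations is reflexive. -/
theorem matEquiv_refl {ι : Type w} [Fintype ι] [DecidableEq ι] (ρ : G →* Matrix ι ι K) :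
    MatEquiv ρ ρ :=
  ⟨1, 1, Matrix.one_mul 1, Matrix.one_mul 1, fun g => by rw [Matrix.one_mul, Matrix.mul_one]⟩

/-- (EQI) equivalent matrix representations have the same characteristic polynomials
(`Matrix.charpoly_mul_comm'` handles rectangular `P`, `Q`). -/
theorem charpoly_of_matEquiv {ι : Type w} [Fintype ι] [DecidableEq ι] {κ : Type*} [Fintype κ]
    [DecidableEq κ] {ρ : G →* Matrix ι ι K} {σ : G →* Matrix κ κ K} (h : MatEquiv ρ σ) (g : G) :
    (ρ g).charpoly = (σ g).charpoly := by
  obtain ⟨P, Q, hPQ, hQP, hg⟩ := h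
  have hcard := EQI_card_eq hPQ hQP
  have h1 := Matrix.charpoly_mul_comm' P (σ g * Q)
  have h2 : σ g * Q * P = σ g := by rw [Matrix.mul_assoc, hQP, Matrix.mul_one]
  rw [h2, ← Matrix.mul_assoc, hg g, hcard] at h1
  exact mul_left_cancel₀ (pow_ne_zero _ Polynomial.X_ne_zero) h1

/-- (EQI) equivalent matrix representations: scalar action of linear combinations. -/
theorem scalar_of_matEquiv {ι : Type w} [Fintype ι] [DecidableEq ι] {κ : Type*} [Fintype κ]
    [DecidableEq κ] {ρ : G →* Matrix ι ι K} {σ : G →* Matrix κ κ K} (h : MatEquiv ρ σ)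
    (S : Finset G) (x : G → K) (c : K) (hx : ∑ g ∈ S, x g • ρ g = c • (1 : Matrix ι ι K)) :
    ∑ g ∈ S, x g • σ g = c • (1 : Matrix κ κ K) := by
  obtain ⟨P, Q, hPQ, hQP, hg⟩ := matEquiv_symm h
  -- here `P * ρ g * Q = σ g`, `P : Matrix κ ι K`
  have h1 : ∑ g ∈ S, x g • σ g = P * (∑ g ∈ S, x g • ρ g) * Q := by
    rw [Matrix.mul_sum, Matrix.sum_mul]
    refine Finset.sum_congr rfl fun g _ => ?_
    rw [← hg g, Matrix.mul_smul, Matrix.smul_mul]
  rw [h1, hx, Matrix.mul_smul, Matrix.mul_one, Matrix.smul_mul, hPQ]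

end FieldK

end Cfsg.Agent.Helper53.DT
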