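import Cfsg.Agent.Helper16.DT.Defs

/-!
# DT farm (helper16), piece (WA1): Wedderburn's theorem for the group algebra of a finite group
over an algebraically closed field in which the group order is invertible.
-/

set_option autoImplicit false
set_option linter.unusedSectionVars false
set_option linter.unusedVariables false

namespace Cfsg.Agent.Helper53.DT

open Cfsg Cfsg.Agent.Helper16 Cfsg.Agent.Helper16.DT Polynomial Matrix

universe u v w

section Wedderburn

variable {K : Type v} [Field K] {G : Type u} [Group G]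

/-- The bijection between coefficient functions and elements of the group algebra. -/
noncomputable def WA1_toAlg [Fintype G] : (G → K) ≃ MonoidAlgebra K G :=
  (Finsupp.equivFunOnFinite.symm).trans MonoidAlgebra.coeffEquiv.symm

theorem WA1_toAlg_eq [Fintype G] (x : G → K) :
    WA1_toAlg x = ∑ g, x g • MonoidAlgebra.of K G g := by
  classical
  unfold WA1_toAlg
  simp only [Equiv.trans_apply, MonoidAlgebra.coeffEquiv_symm_apply]
  rw [Finsupp.equivFunOnFinite_symm_eq_sum, MonoidAlgebra.ofCoeff_sum]
  refine Finset.sum_congr rfl fun g _ => ?_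
  rw [MonoidAlgebra.ofCoeff_single, MonoidAlgebra.smul_of]

/-- (WA1) Wedderburn's theorem for the group algebra of a finite group over an algebraically closed
field in which the group order is invertible. -/
theorem wedderburn_group [IsAlgClosed K] [Fintype G] (hG : (Fintype.card G : K) ≠ 0) :
    ∃ (r : ℕ) (d : Fin r → ℕ) (σ : ∀ i, G →* Matrix (Fin (d i)) (Fin (d i)) K),
      (∀ i, 0 < d i) ∧
      ∀ A : (∀ i, Matrix (Fin (d i)) (Fin (d i)) K), ∃! x : G → K, ∀ i, gaAct (σ i) x = A i := by
  classical
  have : NeZero (Nat.card G : K) := ⟨by rw [Nat.card_eq_fintype_card]; exact hG⟩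
  have : IsSemisimpleRing (MonoidAlgebra K G) := inferInstance
  have : FiniteDimensional K (MonoidAlgebra K G) :=
    Module.Finite.equiv (MonoidAlgebra.coeffLinearEquiv K).symm
  obtain ⟨r, d, hd, ⟨e⟩⟩ :=
    IsSemisimpleRing.exists_algEquiv_pi_matrix_of_isAlgClosed K (MonoidAlgebra K G)
  let σ : ∀ i, G →* Matrix (Fin (d i)) (Fin (d i)) K := fun i =>
    ((Pi.evalMonoidHom (fun i => Matrix (Fin (d i)) (Fin (d i)) K) i).comp
      (e : MonoidAlgebra K G →* (∀ i, Matrix (Fin (d i)) (Fin (d i)) K))).comp
      (MonoidAlgebra.of K G)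
  have hσ : ∀ i g, σ i g = e (MonoidAlgebra.of K G g) i := fun i g => rfl
  have hact : ∀ (x : G → K) i, gaAct (σ i) x = e (WA1_toAlg x) i := by
    intro x i
    rw [WA1_toAlg_eq, map_sum, Finset.sum_apply]
    unfold gaAct
    refine Finset.sum_congr rfl fun g _ => ?_
    rw [map_smul, Pi.smul_apply, hσ]
  refine ⟨r, d, σ, fun i => Nat.pos_of_ne_zero (hd i).out, fun A => ?_⟩
  refine ⟨WA1_toAlg.symm (e.symm A), fun i => ?_, fun y hy => ?_⟩
  · rw [hact, Equiv.apply_symm_apply, AlgEquiv.apply_symm_apply]
  · have h1 : e (WA1_toAlg y) = A := by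
      funext i
      rw [← hact, hy i]
    rw [Equiv.eq_symm_apply, AlgEquiv.eq_symm_apply]
    exact h1

end Wedderburn

end Cfsg.Agent.Helper53.DT
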