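import Cfsg.Agent.Helper19.SpBN.Defs
import Cfsg.Agent.Helper19.StBN.Crit
import Cfsg.Agent.Helper81.StCT

/-!
# `Sp_{2m}(K)`: piece (P12) of helper19's S2545 skeleton: `p ∤ |H|` (helper53)
-/

set_option autoImplicit false

namespace Cfsg.Agent.Helper53.SpBNP12

open Matrix Cfsg.Agent.Helper96.StN Cfsg.Agent.Helper96.StC Cfsg.Agent.Helper29.StCM
open Cfsg Cfsg.Agent.Helper6 Cfsg.Agent.Helper18 Cfsg.Agent.Helper19.Cox Cfsg.Agent.Helper19.Poinc
  Cfsg.Agent.Helper19.Stein Cfsg.Agent.Helper19.StBN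
open Cfsg.Agent.Helper19.SpBN

universe u

variable {K : Type u} [Field K] {m : ℕ}

/-- (P12) -/
theorem not_dvd_card_H (hM : MonoData (XS K m) reflPerm cw) [Fintype K] (p : ℕ) [Fact p.Prime]
    [CharP K p] : ¬ p ∣ Nat.card (H K m) := by
  classical
  have hp : p.Prime := Fact.out
  have h1 : Nat.card (H K m) ∣ Nat.card (Cfsg.Agent.Helper81.StCT.torusHom hM).range :=
    Subgroup.card_dvd_of_le (Cfsg.Agent.Helper81.StCT.Hsub_le_range hM)
  have h2 : Nat.card (Cfsg.Agent.Helper81.StCT.torusHom hM).range ∣ Nat.card (Fin m → Kˣ) :=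
    Subgroup.card_range_dvd _
  have h3 : Nat.card (Fin m → Kˣ) = (Fintype.card K - 1) ^ m := by
    rw [Nat.card_eq_fintype_card, Fintype.card_fun, Fintype.card_fin, Fintype.card_units]
  intro hdvd
  have h4 : p ∣ (Fintype.card K - 1) ^ m := by
    rw [← h3]
    exact hdvd.trans (h1.trans h2)
  have h5 : p ∣ Fintype.card K - 1 := hp.dvd_of_dvd_pow h4
  obtain ⟨n, -, hn⟩ := FiniteField.card K p
  have h6 : p ∣ Fintype.card K := by
    rw [hn]
    exact dvd_pow_self p n.ne_zero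
  have hpos : 0 < Fintype.card K := Fintype.card_pos
  have h7 : p ∣ 1 := by
    have : Fintype.card K = (Fintype.card K - 1) + 1 := by omega
    rw [this] at h6
    exact (Nat.dvd_add_right h5).mp h6
  exact hp.one_lt.ne' (Nat.dvd_one.mp h7)

end Cfsg.Agent.Helper53.SpBNP12
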