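import Cfsg.Agent.Helper91.FTC.Spec

set_option autoImplicit false

/-!
# FastTC farm (helper91, S1690), piece (ITER)
-/

namespace Cfsg.Agent.Helper53.FTC

open Cfsg.Agent.Helper91.FTC

variable {Γ : Type*} [Group Γ]

theorem ITER_succ (f : ℕ → ℕ) (k : ℕ) (p : ℕ) : iter f (k + 1) p = iter f k (f p) := by
  change frc (f p) (iter f k) = iter f k (f p)
  rw [frc_eq]

/-- (ITER) iterating a function that agrees with a permutation. -/
theorem iter_eq_pow {n : ℕ} (f : ℕ → ℕ) (π : Equiv.Perm (Fin n))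
    (hf : ∀ p : Fin n, f p = ((π p : Fin n) : ℕ)) (k : ℕ) (p : Fin n) :
    iter f k p = (((π ^ k) p : Fin n) : ℕ) := by
  induction k generalizing p with
  | zero => rfl
  | succ k ih =>
    rw [ITER_succ, hf p, ih (π p), pow_succ, Equiv.Perm.mul_apply]

end Cfsg.Agent.Helper53.FTC
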