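import Cfsg.Agent.Helper91.FTC.Spec

set_option autoImplicit false

/-!
# FastTC farm (helper91, S1690), piece (TRACE)
-/

namespace Cfsg.Agent.Helper53.FTC

open Cfsg.Agent.Helper91.FTC

variable {Γ : Type*} [Group Γ]

theorem TRACE_cons (P : PTab) (y : ℕ) (w : List ℕ) (p : ℕ) :
    trace P (y :: w) p = trace P w (P.t y p) := by
  change frc (P.t y p) (trace P w) = trace P w (P.t y p)
  rw [frc_eq]

/-- (TRACE) tracing a word = applying the product of the permutations, first letter first. -/
theorem trace_eq (P : PTab) (σ : ℕ → Equiv.Perm (Fin P.n))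
    (hσ : ∀ y, y < P.g → ∀ p : Fin P.n, ((σ y p : Fin P.n) : ℕ) = P.t y p)
    (w : List ℕ) (hw : ∀ z ∈ w, z < P.g) (p : Fin P.n) :
    trace P w p = ((((w.map σ).reverse.prod) p : Fin P.n) : ℕ) := by
  induction w generalizing p with
  | nil => rfl
  | cons y w ih =>
    have hy : y < P.g := hw y (List.mem_cons_self ..)
    have hw' : ∀ z ∈ w, z < P.g := fun z hz => hw z (List.mem_cons_of_mem _ hz)
    rw [TRACE_cons, ← hσ y hy p, ih hw' (σ y p), List.map_cons, List.reverse_cons,
      List.prod_append, List.prod_singleton, Equiv.Perm.mul_apply]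

end Cfsg.Agent.Helper53.FTC
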