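import Mathlib
import Cfsg.Agent.Helper16.DefOneSetup
import Cfsg.Agent.Helper79.Linear

/-!
# (DEG) of the defect-one engine: degrees modulo `p`

If an irreducible character `χ` of `G` is constant `m` on `P \ {1}`, where `P` is a Sylow
`p`-subgroup of order `p`, then `χ(1) ≡ m (mod p)`.
-/

set_option autoImplicit false

namespace Cfsg.Agent.Helper53.DefOne

open Cfsg Cfsg.Agent.Helper16 Cfsg.Agent.Helper16.DefOne

universe u

variable {G : Type u} [Group G] [Fintype G] {p : ℕ} [Fact p.Prime] (P : Sylow p G)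

/-- (DEG) if `χ` is constant `m` on `P \ {1}` then `χ(1) ≡ m (mod p)` -/
theorem degree_modEq_of_const (hP : Nat.card P = p) (χ : IrrCharacter G) (m : ℤ)
    (h : ∀ x : G, x ∈ (P : Subgroup G) → x ≠ 1 → (χ : G → ℂ) x = (m : ℂ)) :
    (charDegree (χ : G → ℂ) : ℤ) ≡ m [ZMOD p] := by
  classical
  have hχ : IsCharacter G (χ : G → ℂ) := by
    obtain ⟨n, ρ, -, h⟩ := χ.2
    exact ⟨n, ρ, h⟩
  letI : Fintype (P : Subgroup G) := Fintype.ofFinite _
  obtain ⟨a, ha⟩ := Helper74.isCharacter_inner_irr_nat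
    (Helper74.isCharacter_restrict (P : Subgroup G) hχ) (Helper79.principalIrr ↥(P : Subgroup G))
  have hdeg : (charDegree (χ : G → ℂ) : ℂ) = (χ : G → ℂ) 1 := Helper74.charDegree_cast hχ
  have hp0 : (p : ℂ) ≠ 0 := by
    exact_mod_cast (Fact.out : p.Prime).ne_zero
  have hcardP : Nat.card (P : Subgroup G) = p := hP
  have hsum : ∑ g : (P : Subgroup G), (χ : G → ℂ) (g : G) *
      (starRingEnd ℂ) ((Helper79.principalIrr ↥(P : Subgroup G) : ↥(P : Subgroup G) → ℂ) g) =
      (χ : G → ℂ) 1 + ((p : ℂ) - 1) * (m : ℂ) := by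
    have h1 : ∀ g : (P : Subgroup G),
        (starRingEnd ℂ) ((Helper79.principalIrr ↥(P : Subgroup G) : ↥(P : Subgroup G) → ℂ) g) = 1 := by
      intro g
      show (starRingEnd ℂ) (1 : ℂ) = 1
      simp
    simp only [h1, mul_one]
    rw [← Finset.add_sum_erase Finset.univ _ (Finset.mem_univ (1 : (P : Subgroup G)))]
    congr 1
    rw [Finset.sum_congr rfl (g := fun _ => (m : ℂ))]
    · rw [Finset.sum_const, Finset.card_erase_of_mem (Finset.mem_univ _), Finset.card_univ,
        ← Nat.card_eq_fintype_card, hcardP, nsmul_eq_mul]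
      have hp1 : 1 ≤ p := (Fact.out : p.Prime).one_le
      rw [Nat.cast_sub hp1]
      simp
    · intro g hg
      have hg1 : g ≠ 1 := Finset.ne_of_mem_erase hg
      apply h (g : G) g.2
      intro hc
      exact hg1 (Subtype.ext hc)
  have hmain : (charDegree (χ : G → ℂ) : ℂ) + ((p : ℂ) - 1) * (m : ℂ) = (p : ℂ) * (a : ℂ) := by
    unfold classInner at ha
    rw [hsum, hcardP] at ha
    rw [hdeg]
    field_simp at ha
    linear_combination ha
  have hZ : (charDegree (χ : G → ℂ) : ℤ) + ((p : ℤ) - 1) * m = (p : ℤ) * (a : ℤ) := by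
    exact_mod_cast hmain
  rw [Int.modEq_iff_dvd]
  refine ⟨m - a, ?_⟩
  linarith
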