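import Mathlib
import Cfsg.Agent.Helper16.DefOneSetup

/-!
# (VAL-b) of the defect-one engine: values of `χ` at `p`-singular elements of `C` from the rows
-/

set_option autoImplicit false

namespace Cfsg.Agent.Helper53.DefOne

open Cfsg Cfsg.Agent.Helper16 Cfsg.Agent.Helper16.DefOne

universe u

variable {G : Type u} [Group G] [Fintype G] {p : ℕ} [Fact p.Prime] (P : Sylow p G)

/-- (VAL-b) values of `χ` at `p`-singular elements of `C` from the rows (primed version: the
needed facts about `can` are explicit hypotheses). -/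
theorem apply_singular_eq' (hcanon : ∀ φ, IsCanon P (can P φ))
    (hself : ∀ θ, IsCanon P θ → can P θ = θ)
    (hfib : ∀ θ, IsCanon P θ → ∀ c : cen P, p ∣ orderOf c →
      ∑ᶠ φ ∈ {φ : IrrCharacter (cen P) | can P φ = θ}, (φ : cen P → ℂ) c = 0)
    (χ : IrrCharacter G) (c : cen P) (hc : p ∣ orderOf c) :
    (χ : G → ℂ) (c : G) =
      ∑ᶠ φ : IrrCharacter (cen P), (rowZ P χ φ : ℂ) * (φ : cen P → ℂ) c := by
  classical
  letI : Fintype (cen P) := Fintype.ofFinite _
  letI : Fintype (IrrCharacter (cen P)) := Helper74.irrFintype (cen P)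
  have hχ : IsCharacter G (χ : G → ℂ) := by
    obtain ⟨n, ρ, -, h⟩ := χ.2
    exact ⟨n, ρ, h⟩
  have hres : IsCharacter (cen P) (fun x : cen P => (χ : G → ℂ) (x : G)) :=
    Helper74.isCharacter_restrict (cen P) hχ
  -- expansion of the restriction
  have hexp := Helper74.isCharacter_eq_sum_irr hres
  have hval : (χ : G → ℂ) (c : G) =
      ∑ φ : IrrCharacter (cen P), (mult P χ φ : ℂ) * (φ : cen P → ℂ) c := by
    have := congrFun hexp c
    simp only [Finset.sum_apply, Pi.smul_apply, smul_eq_mul] at this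
    rw [this]
    refine Finset.sum_congr rfl (fun φ _ => ?_)
    rw [mult_cast]
  -- the part over the canonical characters vanishes
  have hzero : ∑ φ : IrrCharacter (cen P), (mult P χ (can P φ) : ℂ) * (φ : cen P → ℂ) c = 0 := by
    rw [← Finset.sum_fiberwise (s := Finset.univ) (g := fun φ => can P φ)
      (f := fun φ => (mult P χ (can P φ) : ℂ) * (φ : cen P → ℂ) c)]
    refine Finset.sum_eq_zero (fun θ _ => ?_)
    have hcongr : ∑ φ ∈ Finset.univ.filter (fun φ => can P φ = θ),
        (mult P χ (can P φ) : ℂ) * (φ : cen P → ℂ) c =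
        (mult P χ θ : ℂ) * ∑ φ ∈ Finset.univ.filter (fun φ => can P φ = θ),
          (φ : cen P → ℂ) c := by
      rw [Finset.mul_sum]
      refine Finset.sum_congr rfl (fun φ hφ => ?_)
      rw [(Finset.mem_filter.mp hφ).2]
    rw [hcongr]
    by_cases hθ : ∃ φ, can P φ = θ
    · obtain ⟨φ₀, hφ₀⟩ := hθ
      have hθc : IsCanon P θ := hφ₀ ▸ hcanon φ₀
      have h0 := hfib θ hθc c hc
      rw [finsum_mem_eq_finite_toFinset_sum _ (Set.toFinite _)] at h0
      have hset : (Set.toFinite {φ : IrrCharacter (cen P) | can P φ = θ}).toFinset =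
          Finset.univ.filter (fun φ => can P φ = θ) := by
        ext φ
        simp
      rw [hset] at h0
      rw [h0, mul_zero]
    · have hempty : Finset.univ.filter (fun φ : IrrCharacter (cen P) => can P φ = θ) = ∅ := by
        rw [Finset.filter_eq_empty_iff]
        intro φ _ hφ
        exact hθ ⟨φ, hφ⟩
      rw [hempty, Finset.sum_empty, mul_zero]
  rw [finsum_eq_sum_of_fintype, hval]
  have hsplit : ∀ φ : IrrCharacter (cen P),
      (rowZ P χ φ : ℂ) * (φ : cen P → ℂ) c =
        (mult P χ φ : ℂ) * (φ : cen P → ℂ) c - (mult P χ (can P φ) : ℂ) * (φ : cen P → ℂ) c := by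
    intro φ
    unfold rowZ
    push_cast
    ring
  rw [Finset.sum_congr rfl (fun φ _ => hsplit φ), Finset.sum_sub_distrib, hzero, sub_zero]
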