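import Mathlib
import Cfsg.Prelude.Def_Transfer
import Cfsg.Agent.S0012
import Cfsg.Agent.S0013

set_option autoImplicit false

namespace Cfsg.Agent.Helper53

open scoped commutatorElement

/-- Transport of `x ∈ center` along an isomorphism. -/
theorem mem_center_of_mulEquiv {G H : Type*} [Group G] [Group H] (e : G ≃* H) {z : G}
    (hz : z ∈ Subgroup.center G) : e z ∈ Subgroup.center H := by
  rw [Subgroup.mem_center_iff] at hz ⊢
  intro w
  have := hz (e.symm w)
  have h2 := congrArg e this
  simpa using h2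

/-- A criterion for being extraspecial: exponent `p`, commutators central, every central element a
commutator, centre of order `p`. -/
theorem isExtraspecial_of_props {E : Type*} [Group E] [Finite E] {p : ℕ} [Fact p.Prime]
    (hexp : ∀ x : E, x ^ p = 1) (hcc : ∀ x y : E, ⁅x, y⁆ ∈ Subgroup.center E)
    (hzc : ∀ z ∈ Subgroup.center E, ∃ x y : E, ⁅x, y⁆ = z)
    (hcard : Nat.card (Subgroup.center E) = p) : Cfsg.IsExtraspecial p E := by
  have hP : IsPGroup p E := fun x => ⟨1, by rw [pow_one]; exact hexp x⟩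
  have hcomm : commutator E = Subgroup.center E := by
    apply le_antisymm
    · rw [commutator_def, Subgroup.commutator_le]
      intro x _ y _
      exact hcc x y
    · intro z hz
      obtain ⟨x, y, rfl⟩ := hzc z hz
      rw [commutator_def]
      exact Subgroup.commutator_mem_commutator (Subgroup.mem_top x) (Subgroup.mem_top y)
  have h12 := Cfsg.Agent.S0012.result (G := E) p hP
  have h13 : frattini E ≤ Subgroup.center E :=
    Cfsg.Agent.S0013.result (G := E) p hP (Subgroup.center E) (by rw [hcomm])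
      (fun x => by rw [hexp x]; exact Subgroup.one_mem _)
  refine ⟨⟨hP, le_antisymm h13 ?_, hcomm⟩, hcard⟩
  rw [← hcomm]; exact h12.1

theorem mem_commutator_of_mulEquiv {A B : Type*} [Group A] [Group B] (f : A ≃* B) (x : A)
    (hx : x ∈ commutator A) : f x ∈ commutator B := by
  have h1 : Subgroup.map f.toMonoidHom (commutator A) = commutator B := by
    rw [commutator_def, Subgroup.map_commutator, ← MonoidHom.range_eq_map,
      MonoidHom.range_eq_top.mpr f.surjective, ← commutator_def]
  rw [← h1]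
  exact Subgroup.mem_map_of_mem _ hx

/-- Being extraspecial is invariant under isomorphism. -/
theorem isExtraspecial_of_mulEquiv {G H : Type*} [Group G] [Group H] {p : ℕ} (e : G ≃* H)
    (h : Cfsg.IsExtraspecial p G) : Cfsg.IsExtraspecial p H := by
  obtain ⟨⟨hP, hfr, hcomm⟩, hcard⟩ := h
  have hcen : ∀ x : H, x ∈ Subgroup.center H ↔ e.symm x ∈ Subgroup.center G := by
    intro x
    constructor
    · intro hx; exact mem_center_of_mulEquiv e.symm hx
    · intro hx
      have := mem_center_of_mulEquiv e hx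
      simpa using this
  have hfrat : ∀ x : H, x ∈ frattini H ↔ e.symm x ∈ frattini G := by
    intro x
    constructor
    · intro hx
      exact frattini_le_comap_frattini_of_surjective (φ := e.symm.toMonoidHom) e.symm.surjective hx
    · intro hx
      have := frattini_le_comap_frattini_of_surjective (φ := e.toMonoidHom) e.surjective hx
      simpa using this
  have hcom : ∀ x : H, x ∈ commutator H ↔ e.symm x ∈ commutator G := by
    intro x
    constructor
    · intro hx; exact mem_commutator_of_mulEquiv e.symm x hx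
    · intro hx
      have := mem_commutator_of_mulEquiv e (e.symm x) hx
      simpa using this
  refine ⟨⟨hP.of_equiv e, ?_, ?_⟩, ?_⟩
  · ext x
    rw [hfrat, hcen, hfr]
  · ext x
    rw [hcom, hcen, hcomm]
  · rw [← hcard]
    exact Nat.card_congr (Subgroup.centerCongr e).symm.toEquiv

/-! ### The Heisenberg group -/

/-- The Heisenberg group of degree `n` over `ZMod p`. -/
@[ext] structure Heis (n p : ℕ) where
  a : Fin n → ZMod p
  b : Fin n → ZMod p
  c : ZMod p

namespace Heis

variable {n p : ℕ}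

instance : Mul (Heis n p) := ⟨fun x y => ⟨x.a + y.a, x.b + y.b, x.c + y.c + x.a ⬝ᵥ y.b⟩⟩
instance : One (Heis n p) := ⟨⟨0, 0, 0⟩⟩
instance : Inv (Heis n p) := ⟨fun x => ⟨-x.a, -x.b, -x.c + x.a ⬝ᵥ x.b⟩⟩

@[simp] theorem mul_a (x y : Heis n p) : (x * y).a = x.a + y.a := rfl
@[simp] theorem mul_b (x y : Heis n p) : (x * y).b = x.b + y.b := rfl
@[simp] theorem mul_c (x y : Heis n p) : (x * y).c = x.c + y.c + x.a ⬝ᵥ y.b := rfl
@[simp] theorem one_a : (1 : Heis n p).a = 0 := rfl
@[simp] theorem one_b : (1 : Heis n p).b = 0 := rfl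
@[simp] theorem one_c : (1 : Heis n p).c = 0 := rfl
@[simp] theorem inv_a (x : Heis n p) : (x⁻¹).a = -x.a := rfl
@[simp] theorem inv_b (x : Heis n p) : (x⁻¹).b = -x.b := rfl
@[simp] theorem inv_c (x : Heis n p) : (x⁻¹).c = -x.c + x.a ⬝ᵥ x.b := rfl

instance : Group (Heis n p) where
  mul_assoc x y z := by
    ext <;> simp [add_assoc, add_dotProduct, dotProduct_add]
    abel
  one_mul x := by ext <;> simp
  mul_one x := by ext <;> simp
  inv_mul_cancel x := by
    ext <;> simp [neg_dotProduct]

/-- The underlying product type. -/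
def equivProd (n p : ℕ) : Heis n p ≃ (Fin n → ZMod p) × (Fin n → ZMod p) × ZMod p where
  toFun x := (x.a, x.b, x.c)
  invFun t := ⟨t.1, t.2.1, t.2.2⟩
  left_inv _ := rfl
  right_inv _ := rfl

instance [NeZero p] : Finite (Heis n p) := Finite.of_equiv _ (equivProd n p).symm

theorem card_eq [NeZero p] : Nat.card (Heis n p) = p ^ (1 + 2 * n) := by
  rw [Nat.card_congr (equivProd n p), Nat.card_prod, Nat.card_prod, Nat.card_fun, Nat.card_zmod,
    Nat.card_fin]
  ring

theorem pow_a (x : Heis n p) (k : ℕ) : (x ^ k).a = k • x.a := by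
  induction k with
  | zero => simp
  | succ k ih => rw [pow_succ, mul_a, ih, succ_nsmul]

theorem pow_b (x : Heis n p) (k : ℕ) : (x ^ k).b = k • x.b := by
  induction k with
  | zero => simp
  | succ k ih => rw [pow_succ, mul_b, ih, succ_nsmul]

theorem pow_c (x : Heis n p) (k : ℕ) :
    (x ^ k).c = k • x.c + (k.choose 2) • (x.a ⬝ᵥ x.b) := by
  induction k with
  | zero => simp
  | succ k ih =>
    rw [pow_succ, mul_c, ih, pow_a, Nat.choose_succ_succ' k 1, Nat.choose_one_right, succ_nsmul,
      add_nsmul, smul_dotProduct]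
    abel

theorem pow_prime_eq_one [Fact p.Prime] (hp : p ≠ 2) (x : Heis n p) : x ^ p = 1 := by
  have hp' : p.Prime := Fact.out
  have h0 : ∀ t : ZMod p, p • t = 0 := fun t => by
    rw [nsmul_eq_mul, ZMod.natCast_self, zero_mul]
  have h2 : (p.choose 2) • (x.a ⬝ᵥ x.b) = 0 := by
    have hlt : 2 < p := lt_of_le_of_ne hp'.two_le (Ne.symm hp)
    obtain ⟨m, hm⟩ := hp'.dvd_choose_self (by norm_num) hlt
    rw [hm, mul_nsmul', h0]
  apply Heis.ext
  · rw [pow_a, one_a]
    funext i
    simp [h0]
  · rw [pow_b, one_b]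
    funext i
    simp [h0]
  · rw [pow_c, h0, h2, add_zero, one_c]

/-- Commutators are central of the expected form. -/
theorem comm_eq (x y : Heis n p) :
    ⁅x, y⁆ = ⟨0, 0, x.a ⬝ᵥ y.b - y.a ⬝ᵥ x.b⟩ := by
  have h : x * y = (⟨0, 0, x.a ⬝ᵥ y.b - y.a ⬝ᵥ x.b⟩ : Heis n p) * (y * x) := by
    ext
    · simp [add_comm]
    · simp [add_comm]
    · simp
      ring
  rw [commutatorElement_def]
  calc x * y * x⁻¹ * y⁻¹ = (⟨0, 0, x.a ⬝ᵥ y.b - y.a ⬝ᵥ x.b⟩ : Heis n p) * (y * x) * x⁻¹ * y⁻¹ := by
        rw [h]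
    _ = ⟨0, 0, x.a ⬝ᵥ y.b - y.a ⬝ᵥ x.b⟩ := by group

theorem mem_center_iff (x : Heis n p) : x ∈ Subgroup.center (Heis n p) ↔ x.a = 0 ∧ x.b = 0 := by
  rw [Subgroup.mem_center_iff]
  constructor
  · intro h
    constructor
    · ext i
      have := congrArg Heis.c (h ⟨0, Pi.single i 1, 0⟩)
      simp at this
      exact this
    · ext i
      have := congrArg Heis.c (h ⟨Pi.single i 1, 0, 0⟩)
      simp at this
      exact this
  · rintro ⟨ha, hb⟩ y
    ext
    · simp [ha]
    · simp [hb]
    · simp [ha, hb, add_comm]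

theorem card_center [NeZero p] : Nat.card (Subgroup.center (Heis n p)) = p := by
  have e : Subgroup.center (Heis n p) ≃ ZMod p :=
    { toFun := fun x => x.1.c
      invFun := fun c => ⟨⟨0, 0, c⟩, (mem_center_iff _).mpr ⟨rfl, rfl⟩⟩
      left_inv := fun x => by
        obtain ⟨ha, hb⟩ := (mem_center_iff _).mp x.2
        apply Subtype.ext
        ext
        · simp [ha]
        · simp [hb]
        · rfl
      right_inv := fun c => rfl }
  rw [Nat.card_congr e, Nat.card_zmod]

theorem isExtraspecial [Fact p.Prime] (hp : p ≠ 2) (hn : 1 ≤ n) :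
    Cfsg.IsExtraspecial p (Heis n p) := by
  have : NeZero p := ⟨(Fact.out : p.Prime).ne_zero⟩
  refine isExtraspecial_of_props (pow_prime_eq_one hp) ?_ ?_ card_center
  · intro x y
    rw [comm_eq, mem_center_iff]
    exact ⟨rfl, rfl⟩
  · intro z hz
    obtain ⟨ha, hb⟩ := (mem_center_iff _).mp hz
    refine ⟨⟨Pi.single ⟨0, hn⟩ z.c, 0, 0⟩, ⟨0, Pi.single ⟨0, hn⟩ 1, 0⟩, ?_⟩
    rw [comm_eq]
    ext
    · simp [ha]
    · simp [hb]
    · simp

end Heis

end Cfsg.Agent.Helper53
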