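import Cfsg.Agent.Helper18.E8Odd.RefSub

/-!
# S4281 (E8INV-3 farm of helper18), piece (COVER), core: the stabilizer of the subsystem in `W(E₈)`
is the image of the reflection subgroup, with (BASE5) and (BASE6) as explicit hypotheses.
-/

set_option autoImplicit false
set_option maxRecDepth 100000

namespace Cfsg.Agent.Helper53.E8Inv

open Cfsg Cfsg.Lie Cfsg.Agent.Helper18 Cfsg.Agent.Helper18.E8Odd Cfsg.Agent.Helper19.Cox Cfsg.Agent.Helper19.Poinc

/-- the faithful permutation representation of `W(E₈)` on the root indices -/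
noncomputable def COVER_phi : certE8.M.Group →* Equiv.Perm ℕ :=
  phi certE8.M certE8.Mx certE8.hI certE8.hB certE8.hMx

theorem COVER_phi_injective : Function.Injective COVER_phi := certE8.hinj

theorem COVER_phi_gp (w : List ℕ) (x : ℕ) :
    COVER_phi (gp certE8.M w) x = actW reflTabsE8 8 240 w x :=
  phi_gp certE8.M certE8.Mx certE8.hI certE8.hB certE8.hMx w x

theorem COVER_actW_ge (T : List ℕ) (n d : ℕ) (w : List ℕ) (x : ℕ) (hx : ¬ x < d) :
    actW T n d w x = x := by
  induction w with
  | nil => rfl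
  | cons i w ih =>
    change tact T n d i (actW T n d w x) = x
    rw [ih, tact_of_not_lt hx]

theorem COVER_exists_word (g : certE8.M.Group) : ∃ w : List ℕ, gp certE8.M w = g := by
  obtain ⟨ω, rfl⟩ := certE8.M.toCoxeterSystem.wordProd_surjective g
  refine ⟨ω.map Fin.val, ?_⟩
  induction ω with
  | nil => simp [CoxeterSystem.wordProd]
  | cons a ω ih =>
    rw [List.map_cons, gp_cons, ih, CoxeterSystem.wordProd_cons, sg_of_lt certE8.M a.2]

theorem COVER_phi_ge (g : certE8.M.Group) (x : ℕ) (hx : ¬ x < 240) : COVER_phi g x = x := by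
  obtain ⟨w, rfl⟩ := COVER_exists_word g
  rw [COVER_phi_gp]
  exact COVER_actW_ge _ _ _ w x hx

theorem COVER_phi_lt (g : certE8.M.Group) (x : ℕ) (hx : x < 240) : COVER_phi g x < 240 := by
  by_contra h
  have h1 := COVER_phi_ge g⁻¹ _ h
  rw [← Equiv.Perm.mul_apply, ← map_mul, inv_mul_cancel, map_one, Equiv.Perm.one_apply] at h1
  exact h (h1 ▸ hx)

variable (D : RefSub)

/-- the stabilizer of the subsystem in `W(E₈)` -/
def COVER_S : Set certE8.M.Group :=
  {s | ∀ x < 240, D.psi.testBit (COVER_phi s x) = D.psi.testBit x}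

theorem COVER_inv_mem {s : certE8.M.Group} (hs : s ∈ COVER_S D) : s⁻¹ ∈ COVER_S D := by
  intro x hx
  have hy := COVER_phi_lt s⁻¹ x hx
  have h1 := hs _ hy
  rw [← Equiv.Perm.mul_apply, ← map_mul, mul_inv_cancel, map_one, Equiv.Perm.one_apply] at h1
  exact h1.symm

theorem COVER_img (u : List ℕ) {s : certE8.M.Group} (hs : s ∈ COVER_S D) (y : ℕ) (hy : y < 240) :
    D.psi.testBit (COVER_phi (gp certE8.M u * s)⁻¹ y) =
      D.psi.testBit (actW reflTabsE8 8 240 u.reverse y) := by
  rw [mul_inv_rev, map_mul, Equiv.Perm.mul_apply, ← gp_reverse, COVER_phi_gp]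
  have hz : actW reflTabsE8 8 240 u.reverse y < 240 := by
    rw [← COVER_phi_gp]
    exact COVER_phi_lt _ y hy
  exact COVER_inv_mem D hs _ hz

theorem COVER_F_injective :
    Function.Injective (fun p : Fin D.orb.length × COVER_S D =>
      gp certE8.M (D.orb.get p.1) * (p.2 : certE8.M.Group)) := by
  rintro ⟨a, s⟩ ⟨b, s'⟩ hab
  simp only at hab
  have himg : imgL D.psi (D.orb.get a) = imgL D.psi (D.orb.get b) := by
    unfold imgL
    apply List.map_congr_left
    intro y hy
    have hy' : y < 240 := List.mem_range.mp hy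
    rw [← COVER_img D _ s.2 y hy', ← COVER_img D _ s'.2 y hy', hab]
  have hnd := D.horb
  have hlen : (D.orb.map (imgL D.psi)).length = D.orb.length := List.length_map _
  have hab' : a = b := by
    apply Fin.ext
    have h1 : (D.orb.map (imgL D.psi))[a.1]'(by rw [hlen]; exact a.2) =
        (D.orb.map (imgL D.psi))[b.1]'(by rw [hlen]; exact b.2) := by
      rw [List.getElem_map, List.getElem_map]
      exact himg
    exact (hnd.getElem_inj_iff).mp h1
  subst hab'
  have hs : (s : certE8.M.Group) = s' := mul_left_cancel hab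
  rw [Prod.mk.injEq]
  exact ⟨rfl, Subtype.ext hs⟩

/-- (COVER), core: the stabilizer of `Ψ` in `W(E₈)` is the image of `D.cox.Group`, given (BASE5) and
(BASE6). -/
theorem stab_cover_of
    (hBASE5 : ∀ g g' : D.cox.Group,
      (∀ x < 240, actW reflTabsE8 8 240 (D.wd g) x = actW reflTabsE8 8 240 (D.wd g') x) → g = g')
    (hBASE6 : ∀ (g : D.cox.Group) (x : ℕ), x < 240 →
      D.psi.testBit (actW reflTabsE8 8 240 (D.wd g) x) = D.psi.testBit x)
    (w : List ℕ) (hw : ∀ i ∈ w, i < 8)
    (h : ∀ x < 240, D.psi.testBit (actW reflTabsE8 8 240 w x) = D.psi.testBit x) :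
    ∃ g : D.cox.Group, ∀ x < 240,
      actW reflTabsE8 8 240 (D.wd g) x = actW reflTabsE8 8 240 w x := by
  classical
  haveI : Finite certE8.M.Group := certE8.hfin
  haveI : Finite D.cox.Group := D.finite
  -- the embedding of the reflection subgroup into the stabilizer
  let j : D.cox.Group → COVER_S D := fun g =>
    ⟨gp certE8.M (D.wd g), fun x hx => by rw [COVER_phi_gp]; exact hBASE6 g x hx⟩
  have hj : Function.Injective j := by
    intro g g' hgg
    apply hBASE5
    intro x _
    have h1 : gp certE8.M (D.wd g) = gp certE8.M (D.wd g') := congrArg Subtype.val hgg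
    rw [← COVER_phi_gp, ← COVER_phi_gp, h1]
  -- counting
  have hE : Nat.card certE8.M.Group = 696729600 := Cfsg.Agent.Helper19.Cox.E8.card_eq
  have h1 := Nat.card_le_card_of_injective _ (COVER_F_injective D)
  rw [Nat.card_prod, Nat.card_fin, hE, ← D.hcount, ← D.card_eq] at h1
  have hpos : 0 < D.orb.length := by
    rcases Nat.eq_zero_or_pos D.orb.length with h0 | h0
    · have := D.hcount
      rw [h0, Nat.zero_mul] at this
      exact absurd this (by norm_num)
    · exact h0
  have h2 : Nat.card (COVER_S D) ≤ Nat.card D.cox.Group := Nat.le_of_mul_le_mul_left h1 hpos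
  have hbij := hj.bijective_of_nat_card_le h2
  have hwS : gp certE8.M w ∈ COVER_S D := fun x hx => by rw [COVER_phi_gp]; exact h x hx
  obtain ⟨g, hg⟩ := hbij.2 ⟨gp certE8.M w, hwS⟩
  refine ⟨g, fun x _ => ?_⟩
  have h3 : gp certE8.M (D.wd g) = gp certE8.M w := congrArg Subtype.val hg
  rw [← COVER_phi_gp, ← COVER_phi_gp, h3]

end Cfsg.Agent.Helper53.E8Inv
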