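import Cfsg.Agent.Helper18.E8Odd.RefSub
import Cfsg.Agent.Helper53.E8Inv_COVERcore
import Cfsg.Agent.Helper29.E8Inv_BASE

/-!
# S4281 (E8INV-3 farm of helper18), piece (COVER): the stabilizer of the subsystem in `W(E₈)` is the
image of the reflection subgroup.
-/

set_option autoImplicit false
set_option maxRecDepth 100000

namespace Cfsg.Agent.Helper53.E8Inv

open Cfsg Cfsg.Lie Cfsg.Agent.Helper18 Cfsg.Agent.Helper18.E8Odd Cfsg.Agent.Helper19.Cox Cfsg.Agent.Helper19.Poinc

variable (D : RefSub)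

/-- (COVER) the stabilizer of `Ψ` in `W(E₈)` is the image of `D.cox.Group`. -/
theorem stab_cover (w : List ℕ) (hw : ∀ i ∈ w, i < 8)
    (h : ∀ x < 240, D.psi.testBit (actW reflTabsE8 8 240 w x) = D.psi.testBit x) :
    ∃ g : D.cox.Group, ∀ x < 240, actW reflTabsE8 8 240 (D.wd g) x = actW reflTabsE8 8 240 w x :=
  stab_cover_of D (fun g g' hgg => Cfsg.Agent.Helper29.E8Inv.wd_inj D g g' hgg)
    (fun g x hx => Cfsg.Agent.Helper29.E8Inv.psi_wd D g x hx) w hw h

end Cfsg.Agent.Helper53.E8Inv
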