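import Cfsg.Agent.Helper18.E8Odd.RefSub

/-!
# S4281 (E8INV-3 farm of helper18), piece (SUM), core: the Poincaré series of a certified reflection
subgroup, with (STEP) as an explicit hypothesis.
-/

set_option autoImplicit false
set_option maxRecDepth 100000

namespace Cfsg.Agent.Helper53.E8Inv

open Cfsg Cfsg.Lie Cfsg.Agent.Helper18 Cfsg.Agent.Helper18.E8Odd Cfsg.Agent.Helper19.Cox Cfsg.Agent.Helper19.Poinc

variable (D : RefSub)

theorem SUM_wprod_const (q : ℕ) (r : List ℕ) : wprod (fun _ => q) r = q ^ r.length := by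
  unfold wprod
  rw [List.map_const', List.prod_replicate]

theorem SUM_ell_one : D.ell 1 = 0 := by
  unfold RefSub.ell
  rw [List.length_eq_zero_iff, List.filter_eq_nil_iff]
  intro r _
  rw [map_one, Equiv.Perm.one_apply]
  intro h
  simp only [Bool.and_eq_true, decide_eq_true_eq] at h
  omega

/-- (SUM), core: the Poincaré series, given (STEP). -/
theorem sum_ell_of
    (hSTEP : ∀ (w : D.cox.Group) (i : ℕ), i < 8 →
      posB 120 240 (D.phi w (D.alphas.getD i 0)) = true → D.ell (w * sg D.cox i) = D.ell w + 1)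
    (q : ℕ) (hq : 1 ≤ q) :
    (∑ g : D.cox.Group, q ^ D.ell g) * (q - 1) ^ 8 = (D.degs.map fun d => q ^ d - 1).prod := by
  have hstep : ∀ (w : D.cox.Group) (i : ℕ), i < 8 →
      posB 120 240 (phi D.cox D.Mx D.hI D.hB D.hMx w (D.alphas.getD i 0)) = true →
      (fun g => q ^ D.ell g) (w * sg D.cox i) = (fun _ => q) i * (fun g => q ^ D.ell g) w := by
    intro w i hi hpos
    simp only
    rw [hSTEP w i hi hpos, pow_succ']
  have h1 := sum_eq_of_weights D.cox D.Mx D.hI D.hB D.hI D.hB D.hMx (fun g => q ^ D.ell g)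
    (fun _ => q) hstep D.levels D.hlen D.hL D.hC
  simp only [SUM_ell_one, pow_zero, mul_one, SUM_wprod_const] at h1
  rw [h1]
  exact Cfsg.Agent.Helper73.poincare_of_check D.levels 8 D.degs D.hpoinc q hq

end Cfsg.Agent.Helper53.E8Inv
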