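import Cfsg.Agent.Helper18.E8Odd.RefSub
import Cfsg.Agent.Helper53.E8Inv_SUMcore
import Cfsg.Agent.Helper29.E8Inv_STEP

/-!
# S4281 (E8INV-3 farm of helper18), piece (SUM): the Poincaré series of a certified reflection
subgroup.
-/

set_option autoImplicit false
set_option maxRecDepth 100000

namespace Cfsg.Agent.Helper53.E8Inv

open Cfsg Cfsg.Lie Cfsg.Agent.Helper18 Cfsg.Agent.Helper18.E8Odd Cfsg.Agent.Helper19.Cox Cfsg.Agent.Helper19.Poinc

variable (D : RefSub)

/-- (SUM) the Poincaré series. -/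
theorem sum_ell (q : ℕ) (hq : 1 ≤ q) :
    (∑ g : D.cox.Group, q ^ D.ell g) * (q - 1) ^ 8 = (D.degs.map fun d => q ^ d - 1).prod :=
  sum_ell_of D (fun w i hi hpos => Cfsg.Agent.Helper29.E8Inv.ell_mul_sg D w i hi hpos) q hq

end Cfsg.Agent.Helper53.E8Inv
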