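import Cfsg.Agent.Helper19.FH.Defs

/-!
# Feit–Higman (S1142), piece (NI): no intertwiners between the two-dimensional models
-/

set_option autoImplicit false

open Cfsg.Agent.Helper19.FH Matrix

namespace Cfsg.Agent.Helper53.FH

theorem no_intertwiner_two (a b lam lam' : ℝ) (ha : a + 1 ≠ 0) (hb : b + 1 ≠ 0)
    (h0 : lam ≠ 0) (h1 : lam ≠ 1) (h0' : lam' ≠ 0) (h1' : lam' ≠ 1) (hne : lam ≠ lam')
    (Y : Matrix (Fin 2) (Fin 2) ℝ) (hY₁ : mod₁ a lam * Y = Y * mod₁ a lam')
    (hY₂ : mod₂ b * Y = Y * mod₂ b) : Y = 0 := by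
  have e00 := congrFun (congrFun hY₁ 0) 0
  have e01 := congrFun (congrFun hY₁ 0) 1
  have f00 := congrFun (congrFun hY₂ 0) 0
  have f10 := congrFun (congrFun hY₂ 1) 0
  simp [mod₁, Matrix.mul_apply, Fin.sum_univ_two] at e00 e01
  simp [mod₂, Matrix.mul_apply, Fin.sum_univ_two] at f00 f10
  -- e00 : (a+1) * lam * Y 1 0 = 0 (in some form)
  have hy10 : Y 1 0 = 0 := by
    have : (a + 1) * lam * Y 1 0 = 0 := by linarith
    rcases mul_eq_zero.mp this with h | h
    · rcases mul_eq_zero.mp h with h | h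
      · exact absurd h ha
      · exact absurd h h0
    · exact h
  have hy01 : Y 0 1 = 0 := by
    rcases f00 with h | h
    · exact h
    · exact absurd h hb
  have hy11 : Y 1 1 = Y 0 0 := by
    have : (b + 1) * (Y 0 0 + Y 1 0 - Y 1 1) = 0 := by linarith
    rcases mul_eq_zero.mp this with h | h
    · exact absurd h hb
    · rw [hy10] at h; linarith
  have hy00 : Y 0 0 = 0 := by
    have : (a + 1) * ((lam - lam') * Y 0 0) = 0 := by
      rw [hy01, hy11] at e01
      linarith
    rcases mul_eq_zero.mp this with h | h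
    · exact absurd h ha
    · rcases mul_eq_zero.mp h with h | h
      · exact absurd (sub_eq_zero.mp h) hne
      · exact h
  ext i j
  fin_cases i <;> fin_cases j <;> simp [hy00, hy01, hy10, hy11]

theorem no_intertwiner_one (a b lam x y : ℝ) (ha : a + 1 ≠ 0) (hb : b + 1 ≠ 0)
    (h0 : lam ≠ 0) (h1 : lam ≠ 1)
    (Y : Matrix (Fin 2) (Fin 1) ℝ) (hY₁ : mod₁ a lam * Y = Y * !![x])
    (hY₂ : mod₂ b * Y = Y * !![y]) : Y = 0 := by
  have e0 := congrFun (congrFun hY₁ 0) 0
  have e1 := congrFun (congrFun hY₁ 1) 0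
  have f0 := congrFun (congrFun hY₂ 0) 0
  have f1 := congrFun (congrFun hY₂ 1) 0
  simp [mod₁, Matrix.mul_apply, Fin.sum_univ_two] at e0 e1
  simp [mod₂, Matrix.mul_apply, Fin.sum_univ_two] at f0 f1
  have hy1 : Y 1 0 = 0 := by
    by_contra hne
    -- x = -1
    have hx : x = -1 := by
      have : (x + 1) * Y 1 0 = 0 := by linarith
      rcases mul_eq_zero.mp this with h | h
      · linarith
      · exact absurd h hne
    have hy0 : Y 0 0 = -lam * Y 1 0 := by
      have : (a + 1) * (Y 0 0 + lam * Y 1 0) = 0 := by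
        rw [hx] at e0; linarith
      rcases mul_eq_zero.mp this with h | h
      · exact absurd h ha
      · linarith
    have hy0ne : Y 0 0 ≠ 0 := by
      rw [hy0]
      exact mul_ne_zero (neg_ne_zero.mpr h0) hne
    have hyy : y = -1 := by
      have : (y + 1) * Y 0 0 = 0 := by linarith
      rcases mul_eq_zero.mp this with h | h
      · linarith
      · exact absurd h hy0ne
    have hsum : Y 0 0 + Y 1 0 = 0 := by
      have : (b + 1) * (Y 0 0 + Y 1 0) = 0 := by
        rw [hyy] at f1; linarith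
      rcases mul_eq_zero.mp this with h | h
      · exact absurd h hb
      · exact h
    have : (1 - lam) * Y 1 0 = 0 := by
      rw [hy0] at hsum; linarith
    rcases mul_eq_zero.mp this with h | h
    · exact h1 (by linarith)
    · exact hne h
  have hy0 : Y 0 0 = 0 := by
    have : (b + 1) * Y 0 0 = 0 := by
      rw [hy1] at f1; linarith
    rcases mul_eq_zero.mp this with h | h
    · exact absurd h hb
    · exact h
  ext i j
  fin_cases i <;> fin_cases j <;> simp [hy0, hy1]

end Cfsg.Agent.Helper53.FH
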