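import Mathlib
import Cfsg.Agent.Helper5.SuBN.Defs

set_option autoImplicit false

/-!
# S2546, piece (SINJ): distinct simple roots have distinct reflection matrices
-/

namespace Cfsg.Agent.Helper53.SuBNSINJ

open Matrix Cfsg.Agent.Helper5.SuBN

variable {F : Type*} [Field F] {n : ℕ} {σ : F →+* F}

theorem sSign_ne_zero (c : F) (hc0 : c ≠ 0) (k : Fin (n / 2)) (j : Fin n) : sSign c k j ≠ 0 := by
  unfold sSign
  split_ifs <;> simp [hc0]

theorem sMat_ne_of_lt (c : F) (hc0 : c ≠ 0) (k k' : Fin (n / 2)) (hlt : k.val < k'.val) :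
    sMat (n := n) c k ≠ sMat c k' := by
  intro h
  have hk := k.2
  have hk' := k'.2
  have h1 : sMat (n := n) c k (sPerm k (ia k)) (ia k) = sMat c k' (sPerm k (ia k)) (ia k) := by
    rw [h]
  rw [sMat_apply, sMat_apply, if_pos rfl] at h1
  have hne : sPerm k (ia k) ≠ sPerm k' (ia k) := by
    intro h2
    have h3 := congrArg Fin.val h2
    rw [val_sPerm, val_sPerm, val_ia] at h3
    split_ifs at h3 <;> omega
  rw [if_neg hne] at h1
  exact sSign_ne_zero c hc0 k _ h1

theorem sMat_injective (c : F) (hc0 : c ≠ 0) : Function.Injective (sMat (n := n) c) := by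
  intro k k' h
  by_contra hne
  have hv : k.val ≠ k'.val := fun hv => hne (Fin.ext hv)
  rcases lt_or_gt_of_ne hv with hlt | hgt
  · exact sMat_ne_of_lt c hc0 k k' hlt h
  · exact sMat_ne_of_lt c hc0 k' k hgt h.symm

end Cfsg.Agent.Helper53.SuBNSINJ
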