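import Mathlib
import Cfsg.Agent.Helper5.SuBN.Defs

set_option autoImplicit false

/-!
# S2546, piece (P12): the order of the diagonal torus of the special unitary group is prime to `p`
-/

namespace Cfsg.Agent.Helper53.SuBNP12

open Matrix Cfsg.Agent.Helper5.SuBN

variable {F : Type*} [Field F] {n : ℕ} {σ : F →+* F}

theorem diag_ne_zero_of_mem (t : UG n σ) (ht : t ∈ Tsub n σ) (a : Fin n) : mat t a a ≠ 0 :=
  diag_ne_zero t ((mem_Bsub_iff t).1 (Tsub_le_Bsub ht)) a

theorem diag_mul_of_mem (s t : UG n σ) (hs : s ∈ Tsub n σ) (a : Fin n) :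
    mat (s * t) a a = mat s a a * mat t a a := by
  rw [mat_mul, Matrix.mul_apply]
  apply Finset.sum_eq_single a
  · intro c _ hca
    rw [hs a c (Ne.symm hca), zero_mul]
  · intro h
    exact absurd (Finset.mem_univ _) h

/-- the diagonal entries, as a homomorphism to `(Fˣ)ⁿ` -/
noncomputable def diagHom (n : ℕ) (σ : F →+* F) : ↥(Tsub n σ) →* (Fin n → Fˣ) where
  toFun t := fun a => Units.mk0 (mat (t : UG n σ) a a) (diag_ne_zero_of_mem _ t.2 a)
  map_one' := by
    funext a
    apply Units.ext
    show mat (1 : UG n σ) a a = 1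
    rw [mat_one, Matrix.one_apply_eq]
  map_mul' s t := by
    funext a
    apply Units.ext
    show mat ((s : UG n σ) * (t : UG n σ)) a a = mat (s : UG n σ) a a * mat (t : UG n σ) a a
    exact diag_mul_of_mem _ _ s.2 a

theorem diagHom_injective : Function.Injective (diagHom n σ) := by
  intro s t h
  apply Subtype.ext
  apply mat_injective
  ext a b
  by_cases hab : a = b
  · subst hab
    have h1 := congrFun h a
    exact congrArg Units.val h1
  · rw [s.2 a b hab, t.2 a b hab]

theorem not_dvd_card_Tsub [Fintype F] (p : ℕ) [Fact p.Prime] [CharP F p] :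
    ¬ p ∣ Nat.card (Tsub n σ) := by
  classical
  have hp : p.Prime := Fact.out
  have h2 : Nat.card (Tsub n σ) ∣ Nat.card (Fin n → Fˣ) :=
    Subgroup.card_dvd_of_injective (diagHom n σ) diagHom_injective
  have h3 : Nat.card (Fin n → Fˣ) = (Fintype.card F - 1) ^ n := by
    rw [Nat.card_eq_fintype_card, Fintype.card_fun, Fintype.card_fin, Fintype.card_units]
  intro hdvd
  have h4 : p ∣ (Fintype.card F - 1) ^ n := by
    rw [← h3]
    exact hdvd.trans h2
  have h5 : p ∣ Fintype.card F - 1 := hp.dvd_of_dvd_pow h4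
  obtain ⟨e, -, he⟩ := FiniteField.card F p
  have h6 : p ∣ Fintype.card F := by
    rw [he]
    exact dvd_pow_self p e.ne_zero
  have hpos : 0 < Fintype.card F := Fintype.card_pos
  have h7 : p ∣ 1 := by
    have : Fintype.card F = (Fintype.card F - 1) + 1 := by omega
    rw [this] at h6
    exact (Nat.dvd_add_right h5).mp h6
  exact hp.one_lt.ne' (Nat.dvd_one.mp h7)

end Cfsg.Agent.Helper53.SuBNP12
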