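import Cfsg.Agent.Helper19.SpBN.Basic

/-!
# `Sp_{2m}(K)`: piece (P7) of helper19's S2545 skeleton: the square of a simple reflection
lies in the torus (helper53)
-/

set_option autoImplicit false

namespace Cfsg.Agent.Helper53.SpBNP7

open Matrix Cfsg.Agent.Helper96.StN Cfsg.Agent.Helper96.StC Cfsg.Agent.Helper29.StCM
open Cfsg Cfsg.Agent.Helper6 Cfsg.Agent.Helper18 Cfsg.Agent.Helper19.Cox Cfsg.Agent.Helper19.Poinc
  Cfsg.Agent.Helper19.Stein Cfsg.Agent.Helper19.StBN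
open Cfsg.Agent.Helper19.SpBN

universe u

variable {K : Type u} [Field K] {m : ℕ}

/-- the square of `w_{pq}(1)` is `h_{pq}(-1)` -/
theorem P7_W_sq (hM : MonoData (XS K m) reflPerm cw) [Fintype K] {p q : Fin m ⊕ Fin m} (hpq : p ≠ q) :
    W (XS K m) p q (1 : K) * W (XS K m) p q 1 = Hd (XS K m) p q (1 * (-1)⁻¹) := by
  rw [← hM.W_mul_W_inv hpq one_ne_zero (neg_ne_zero.mpr one_ne_zero), hM.W_inv hpq, neg_neg]

/-- (P7) -/
theorem simple_sq (hM : MonoData (XS K m) reflPerm cw) [Fintype K] {s : SpG K m}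
    (hs : s ∈ simpleSet K m) : s * s ∈ H K m := by
  obtain ⟨k, k', hk', hk, rfl⟩ := hs
  have hne : k ≠ k' := by
    rintro rfl
    omega
  rw [P7_W_sq hM hne]
  exact Subgroup.subset_closure ⟨k, k', hne, _, mul_ne_zero one_ne_zero
    (inv_ne_zero (neg_ne_zero.mpr one_ne_zero)), rfl⟩

end Cfsg.Agent.Helper53.SpBNP7
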