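import Cfsg.Agent.Helper19.SpBN.Basic
import Cfsg.Agent.Helper53.SpBNP7
import Cfsg.Agent.Helper64.StCBruhat
import Cfsg.Agent.Helper38.StCU

/-!
# `Sp_{2m}(K)`: piece (P5) of helper19's S2545 skeleton: a simple reflection does not
normalize `B` (helper53)
-/

set_option autoImplicit false

namespace Cfsg.Agent.Helper53.SpBNP5

open Matrix Cfsg.Agent.Helper96.StN Cfsg.Agent.Helper96.StC Cfsg.Agent.Helper29.StCM
open Cfsg Cfsg.Agent.Helper6 Cfsg.Agent.Helper18 Cfsg.Agent.Helper19.Cox Cfsg.Agent.Helper19.Poinc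
  Cfsg.Agent.Helper19.Stein Cfsg.Agent.Helper19.StBN
open Cfsg.Agent.Helper19.SpBN

universe u

variable {K : Type u} [Field K] {m : ℕ}

/-- the `(p, q)` entry of `x_{pq}(t)` -/
theorem P5_XS_entry {p q : Fin m ⊕ Fin m} (hpq : p ≠ q) (t : K) : (XS K m p q t).1 p q = t := by
  rw [XS_coe hpq]
  have := Cfsg.Agent.Helper38.StCU.spM_mul_apply hpq t (1 : Matrix (Fin m ⊕ Fin m) (Fin m ⊕ Fin m) K)
    (Matrix.one_apply_eq q) (Matrix.one_apply_ne hpq)
  rwa [mul_one] at this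

/-- (P5) -/
theorem conj_ne (hM : MonoData (XS K m) reflPerm cw) [Fintype K] {s : SpG K m}
    (hs : s ∈ simpleSet K m) :
    (fun b : SpG K m => s * b * s) '' (B K m : Set (SpG K m)) ≠ (B K m : Set (SpG K m)) := by
  obtain ⟨k, k', hk', hk, rfl⟩ := hs
  have hne : k ≠ k' := by
    rintro rfl
    omega
  intro himg
  set s := W (XS K m) k k' (1 : K) with hs
  have hmono := hM.mono k k' hne (1 : K) one_ne_zero
  -- the element `b = x_{kk'}(1)` of `U`
  have hbU : XS K m k k' 1 ∈ U K m :=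
    Subgroup.subset_closure ⟨k, k', by omega, 1, rfl⟩
  have hbB : XS K m k k' 1 ∈ B K m := (le_sup_left : U K m ≤ B K m) hbU
  have hsbs : s * XS K m k k' 1 * s ∈ B K m := by
    have : s * XS K m k k' 1 * s ∈ (fun b : SpG K m => s * b * s) '' (B K m : Set (SpG K m)) :=
      ⟨_, hbB, rfl⟩
    rw [himg] at this
    exact this
  have hss : s * s ∈ B K m :=
    (le_sup_right : H K m ≤ B K m) (Cfsg.Agent.Helper53.SpBNP7.simple_sq hM ⟨k, k', hk', hk, rfl⟩)
  -- `s b s⁻¹ = x_{k'k}(c)` with `c ≠ 0`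
  have hconj := hmono.2 k k' hne 1
  rw [Cfsg.Agent.Helper64.StCB.reflPerm_left hk', Cfsg.Agent.Helper64.StCB.reflPerm_right hk']
    at hconj
  set c := cw k k' (1 : K) k * (cw k k' (1 : K) k')⁻¹ * 1 with hc
  have hc0 : c ≠ 0 :=
    mul_ne_zero (mul_ne_zero (hmono.1 k) (inv_ne_zero (hmono.1 k'))) one_ne_zero
  have hmem : XS K m k' k c ∈ B K m := by
    have e : XS K m k' k c = (s * XS K m k k' 1 * s) * (s * s)⁻¹ := by
      rw [← hconj, ← hs]; group
    rw [e]
    exact (B K m).mul_mem hsbs ((B K m).inv_mem hss)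
  have h0 := B_upper hM hmem k' k (by omega)
  rw [P5_XS_entry hne.symm] at h0
  exact hc0 h0

end Cfsg.Agent.Helper53.SpBNP5
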