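import Cfsg.Agent.Helper19.SpBN.ParaGrp

/-!
Helper53 for helper19 (S2316), piece (G4): the block upper unitriangular matrices lie in `U`.
-/

set_option autoImplicit false

namespace Cfsg.Agent.Helper53.SpParaG4

open Matrix Cfsg.Agent.Helper96.StN Cfsg.Agent.Helper96.StC Cfsg.Agent.Helper29.StCM
open Cfsg Cfsg.Agent.Helper6 Cfsg.Agent.Helper18 Cfsg.Agent.Helper19.Cox Cfsg.Agent.Helper19.Poinc
  Cfsg.Agent.Helper19.Stein Cfsg.Agent.Helper19.StBN Cfsg.Agent.Helper19.Unip
open Cfsg.Agent.Helper64.StCB Cfsg.Agent.Helper19.SpBN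

universe u

variable {K : Type u} [Field K] {m : ℕ}

/-- (G4) the block upper unitriangular matrices lie in `U`. -/
theorem OJ_le_U (hM : MonoData (XS K m) reflPerm cw) [Fintype K] (p : ℕ) [Fact p.Prime]
    [CharP K p] (J : Finset (Fin m)) : OJ K J ≤ U K m := by
  have : Finite (SpG K m) := inferInstance
  have hp : p.Prime := Fact.out
  have hUB : U K m ≤ B K m := le_sup_left
  have hUQ : U K m ≤ QJ K J := hUB.trans (B_le_QJ hM J)
  have hnorm : U K m ≤ Subgroup.normalizer (OJ K J : Set (SpG K m)) := by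
    intro g hg
    rw [Subgroup.mem_normalizer_iff]
    intro x
    constructor
    · intro hx
      exact conj_mem_OJ J (hUQ hg) hx
    · intro hx
      have e : x = g⁻¹ * (g * x * g⁻¹) * g⁻¹⁻¹ := by group
      rw [e]
      exact conj_mem_OJ J (inv_mem (hUQ hg)) hx
  have hV : IsPGroup p ↥(OJ K J ⊔ U K m) :=
    IsPGroup.to_sup_of_normal_left' (OJ_isPGroup p J) (U_isPGroup p) hnorm
  have hUV : U K m ≤ OJ K J ⊔ U K m := le_sup_right
  obtain ⟨n, hn⟩ := hV.index ((U K m).subgroupOf (OJ K J ⊔ U K m))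
  have hdvd : (U K m).relIndex (OJ K J ⊔ U K m) ∣ (U K m).index :=
    Subgroup.relIndex_dvd_index_of_le hUV
  have hn0 : n = 0 := by
    by_contra hne
    apply not_dvd_index_U hM p
    refine dvd_trans ?_ hdvd
    show p ∣ ((U K m).subgroupOf (OJ K J ⊔ U K m)).index
    rw [hn]
    exact dvd_pow_self p hne
  have h1 : (U K m).relIndex (OJ K J ⊔ U K m) = 1 := by
    show ((U K m).subgroupOf (OJ K J ⊔ U K m)).index = 1
    rw [hn, hn0, pow_zero]
  exact le_sup_left.trans (Subgroup.relIndex_eq_one.mp h1)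

end Cfsg.Agent.Helper53.SpParaG4
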