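import Cfsg.Agent.Helper19.SpBN.ParaGrp

/-!
Helper53 for helper19 (S2316), piece (G5): the `p`-elements of `B` lie in `U`.
-/

set_option autoImplicit false

namespace Cfsg.Agent.Helper53.SpParaG5

open Matrix Cfsg.Agent.Helper96.StN Cfsg.Agent.Helper96.StC Cfsg.Agent.Helper29.StCM
open Cfsg Cfsg.Agent.Helper6 Cfsg.Agent.Helper18 Cfsg.Agent.Helper19.Cox Cfsg.Agent.Helper19.Poinc
  Cfsg.Agent.Helper19.Stein Cfsg.Agent.Helper19.StBN Cfsg.Agent.Helper19.Unip
open Cfsg.Agent.Helper64.StCB Cfsg.Agent.Helper19.SpBN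

universe u

variable {K : Type u} [Field K] {m : ℕ}

/-- (G5) the `p`-elements of `B` lie in `U`. -/
theorem mem_U_of_isPElt (hM : MonoData (XS K m) reflPerm cw) [Fintype K] (p : ℕ) [Fact p.Prime]
    [CharP K p] {b : SpG K m} (hb : b ∈ B K m) (hp : IsPElt p b) : b ∈ U K m := by
  have : Finite (SpG K m) := inferInstance
  have hUB : U K m ≤ B K m := le_sup_left
  have hHB : H K m ≤ B K m := le_sup_right
  have hBN : B K m ≤ Subgroup.normalizer (U K m : Set (SpG K m)) := by
    intro g hg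
    obtain ⟨u, hu, h, hh, rfl⟩ := (mem_B_iff hM g).mp hg
    rw [Subgroup.mem_normalizer_iff]
    intro x
    constructor
    · intro hx
      have e : u * h * x * (u * h)⁻¹ = u * (h * x * h⁻¹) * u⁻¹ := by group
      rw [e]
      exact mul_mem (mul_mem hu (conj_mem_U hM hh hx)) (inv_mem hu)
    · intro hx
      have e : x = h⁻¹ * (u⁻¹ * (u * h * x * (u * h)⁻¹) * u) * h⁻¹⁻¹ := by group
      rw [e]
      exact conj_mem_U hM (inv_mem hh) (mul_mem (mul_mem (inv_mem hu) hx) hu)
  have : ((U K m).subgroupOf (B K m)).Normal :=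
    (Subgroup.normal_subgroupOf_iff_le_normalizer hUB).mpr hBN
  have hidx : ¬ p ∣ ((U K m).subgroupOf (B K m)).index := by
    have h2 := Cfsg.Agent.Helper55.SpBNP13.card_eq_mul_of_factor (U K m) (H K m) (B K m)
      le_sup_left le_sup_right (fun b hb => (mem_B_iff hM b).mp hb)
      (fun g hu hh => U_inf_H hM hu hh)
    have h3 := Subgroup.index_mul_card ((U K m).subgroupOf (B K m))
    rw [Nat.card_congr (Subgroup.subgroupOfEquivOfLe hUB).toEquiv] at h3
    have hpos : 0 < Nat.card (U K m) := Nat.card_pos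
    have h4 : ((U K m).subgroupOf (B K m)).index = Nat.card (H K m) := by
      apply Nat.eq_of_mul_eq_mul_right hpos
      rw [h3, h2, mul_comm]
    rw [h4]
    exact not_dvd_card_H hM p
  have h4 := Cfsg.Agent.Helper50.UnipU345.mem_of_pElt_of_not_dvd_index p
    ((U K m).subgroupOf (B K m)) hidx (⟨b, hb⟩ : ↥(B K m)) (by
      obtain ⟨k, hk⟩ := hp
      exact ⟨k, by rw [← hk, Subgroup.orderOf_mk]⟩)
  exact h4

end Cfsg.Agent.Helper53.SpParaG5
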