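import Cfsg.Agent.Helper19.SpBN.ParaGrp

/-!
Helper53 for helper19 (S2316), piece (G7): the simple reflections of `Sp_{2m}(K)` are pairwise distinct.
-/

set_option autoImplicit false

namespace Cfsg.Agent.Helper53.SpParaG7

open Matrix Cfsg.Agent.Helper96.StN Cfsg.Agent.Helper96.StC Cfsg.Agent.Helper29.StCM
open Cfsg Cfsg.Agent.Helper6 Cfsg.Agent.Helper18 Cfsg.Agent.Helper19.Cox Cfsg.Agent.Helper19.Poinc
  Cfsg.Agent.Helper19.Stein Cfsg.Agent.Helper19.StBN Cfsg.Agent.Helper19.Unip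
open Cfsg.Agent.Helper64.StCB Cfsg.Agent.Helper19.SpBN

universe u

variable {K : Type u} [Field K] {m : ℕ}

/-- (G7) the simple reflections are pairwise distinct. -/
theorem sR_injective (hM : MonoData (XS K m) reflPerm cw) [Fintype K] :
    Function.Injective (sR K m) := by
  intro i j hij
  set k := kL m i with hkd
  set k' := kR m i with hk'd
  set l := kL m j with hld
  set l' := kR m j with hl'd
  have hk : rk k' = rk k + 1 := by rw [hk'd, hkd, rk_kR, rk_kL]
  have hl : rk l' = rk l + 1 := by rw [hl'd, hld, rk_kR, rk_kL]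
  have hkm : rk k < m := by rw [hkd, rk_kL]; exact i.2
  have hlm : rk l < m := by rw [hld, rk_kL]; exact j.2
  have hkk' : k ≠ k' := ne_of_rk_succ hk
  have hll' : l ≠ l' := ne_of_rk_succ hl
  have hsN : W (XS K m) k k' (1 : K) ∈ Nsub (XS K m) := W_mem_Nsub _ hkk' one_ne_zero
  have hs'N : W (XS K m) l l' (1 : K) ∈ Nsub (XS K m) := W_mem_Nsub _ hll' one_ne_zero
  have hone : (W (XS K m) k k' (1 : K))⁻¹ * W (XS K m) l l' 1 = 1 := by
    have e : W (XS K m) k k' (1 : K) = W (XS K m) l l' 1 := hij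
    rw [e, inv_mul_cancel]
  have hH : (W (XS K m) k k' (1 : K))⁻¹ * W (XS K m) l l' 1 ∈ H K m := by
    rw [hone]; exact one_mem _
  obtain ⟨pp, hpp⟩ := hM.Hsub_isMono hH
  have h1 := (hM.mono k k' hkk' 1 one_ne_zero).inv.mul (hM.mono l l' hll' 1 one_ne_zero)
  have hbar : ∀ x, ((reflPerm k k')⁻¹ * reflPerm l l') (bar x) =
      bar (((reflPerm k k')⁻¹ * reflPerm l l') x) := by
    intro x
    rw [Equiv.Perm.mul_apply, Equiv.Perm.mul_apply, Cfsg.Agent.Helper68.StCN2a.reflPerm_bar,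
      Equiv.Perm.inv_eq_iff_eq, Cfsg.Agent.Helper68.StCN2a.reflPerm_bar]
    simp
  have hperm := Cfsg.Agent.Helper68.StCN2a.perm_unique (MonoidHom.id _) id_coe h1 hbar hpp
    (fun _ => rfl)
  have hperm' : reflPerm l l' = reflPerm k k' := by
    have := congrArg (fun σ => reflPerm k k' * σ) hperm
    simpa using this
  have e1 : rk (reflPerm l l' k) = rk k + 1 := by
    rw [hperm', reflPerm_left hk, hk]
  have e2 := rk_reflPerm hl k
  rw [e1] at e2
  have hk1 := rk_lt k'
  have hl1 := rk_lt l'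
  have hkl : rk k = rk l := by
    split_ifs at e2 <;> omega
  apply Fin.ext
  rw [← rk_kL i, ← rk_kL j]
  exact hkl

end Cfsg.Agent.Helper53.SpParaG7
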