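import Cfsg.Agent.Helper53.BG14A5
import Cfsg.Agent.Helper55.BG14CaseBAdapt
import Cfsg.Agent.Helper23.BG14G

/-!
# B-G Theorem 14.2 (S1430 + S1431) from THEOREM N3 (helper70, board #3585)

`both_of_n3`: the conclusions of S1430 and S1431 from `Helper70.BG14.N3 G` alone.  CASE B (some
subgroup of prime order of a Hall `τ₃(M)`-subgroup of a complement is not regular on `M_σ`) is
helper55's `caseB_concl_of_helper70`; CASE A is `Helper53.BG14A.caseA`.  Step I, (T6), (K1) are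
helper23's/helper54's unconditional theorems.
-/

set_option autoImplicit false
set_option linter.unusedVariables false

namespace Cfsg.Agent.Helper53.BG14A

open Cfsg

variable {G : Type*} [Group G] [Finite G]

theorem n3Z4_of_n3 (hN3 : Cfsg.Agent.Helper70.BG14.N3 G) : N3Z4 G := by
  intro H EH hH hEH E3 hE3 R hRE3 hRp hne Ms hMs hN
  have hyp : Cfsg.Agent.Helper70.BG14.N3Hyp H EH R (Nat.card R) :=
    ⟨hH, hEH, hE3.2.1 _ hRp (Subgroup.card_dvd_of_le hRE3), hRE3.trans hE3.1, rfl, hne⟩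
  exact (hN3 H EH R _ hyp).le_sigmaCore R (hRE3.trans hE3.1) hRp Ms hMs hN

theorem t6_main (hG : Cfsg.IsMinSimpleOddOrder G) : T6 G := by
  intro M E hM hE p hp P hPE hPc q hq hqd Q
  exact (Cfsg.Agent.Helper55.BG14CaseB.t6_of_helper70 (Cfsg.Agent.Helper23.BG14.t6_prop hG))
    M E hM hE p hp P hPE hPc q hq hqd Q

/-- S1430 and S1431 from THEOREM N3 -/
theorem both_of_n3 (hG : Cfsg.IsMinSimpleOddOrder G) (hN3 : Cfsg.Agent.Helper70.BG14.N3 G)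
    (M : Subgroup G) (hM : IsCoatom M) (K : Subgroup G)
    (hK : Cfsg.IsPiHallOf (Cfsg.kappa M) K M) (hK1 : K ≠ ⊥) :
    ((∀ k ∈ K, k ≠ 1 → Cfsg.sigmaCore M ⊓ Subgroup.centralizer ({k} : Set G) = (Cfsg.sigmaCore M ⊓ Subgroup.centralizer (K : Set G))) ∧
      (∃ U : Subgroup G, IsMulCommutative U ∧ Cfsg.IsPiHallOf {q | q.Prime ∧ q ∉ Cfsg.kappa M ∧ q ∉ Cfsg.sigma M} U M ∧
        K ≤ Subgroup.normalizer (U : Set G) ∧ ∀ k ∈ K, k ≠ 1 → U ⊓ Subgroup.centralizer ({k} : Set G) = ⊥) ∧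
      ∀ X : Subgroup G, X ≤ K → (Nat.card X).Prime →
        M ⊓ Subgroup.normalizer (X : Set G) = K ⊔ (Cfsg.sigmaCore M ⊓ Subgroup.centralizer (K : Set G)) ∧ M ⊓ Subgroup.normalizer (K : Set G) = K ⊔ (Cfsg.sigmaCore M ⊓ Subgroup.centralizer (K : Set G)) ∧
        ∀ Mstar : Subgroup G, IsCoatom Mstar → Subgroup.normalizer (X : Set G) ≤ Mstar → X ≤ Cfsg.sigmaCore Mstar) ∧
    ((∀ g : G, g ∉ M → (Cfsg.sigmaCore M ⊓ Subgroup.centralizer (K : Set G)) ⊓ M.map (MulAut.conj g).toMonoidHom = ⊥) ∧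
      (∀ g ∈ M, g ∉ K ⊔ (Cfsg.sigmaCore M ⊓ Subgroup.centralizer (K : Set G)) → K ⊓ K.map (MulAut.conj g).toMonoidHom = ⊥) ∧
      (∀ (p : ℕ), p.Prime → p ∣ Nat.card ↥(Cfsg.sigmaCore M ⊓ Subgroup.centralizer (K : Set G)) → ∀ S : Sylow p ↥(Cfsg.sigmaCore M),
        Cfsg.InUniqueMaximal ((S : Subgroup ↥(Cfsg.sigmaCore M)).map (Cfsg.sigmaCore M).subtype) ∧
        (S : Subgroup ↥(Cfsg.sigmaCore M)).map (Cfsg.sigmaCore M).subtype ≤ M ∧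
        ¬ (S : Subgroup ↥(Cfsg.sigmaCore M)).map (Cfsg.sigmaCore M).subtype ≤ (Cfsg.sigmaCore M ⊓ Subgroup.centralizer (K : Set G))) ∧
      ∀ Y : Subgroup G, (∀ p : ℕ, p.Prime → p ∣ Nat.card Y → p ∈ Cfsg.sigma M) → Y ⊓ (Cfsg.sigmaCore M ⊓ Subgroup.centralizer (K : Set G)) ≠ ⊥ → Y ≤ Cfsg.sigmaCore M) := by
  classical
  by_cases hB : ∃ E E3 Y0 : Subgroup G, Cfsg.IsComplIn E (Cfsg.sigmaCore M) M ∧
      Cfsg.IsPiHallOf (Cfsg.tau3 M) E3 E ∧ Y0 ≤ E3 ∧ (Nat.card Y0).Prime ∧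
      Cfsg.sigmaCore M ⊓ Subgroup.centralizer (Y0 : Set G) ≠ ⊥
  · have hc := Cfsg.Agent.Helper55.BG14CaseB.caseB_concl_of_helper70 hG hN3
      (Cfsg.Agent.Helper23.BG14.t6_prop hG) M hM K hK hK1 hB
    exact ⟨hc.concl_S1430, hc.concl_S1431⟩
  · have hA : CaseA M := by
      intro E E3 Y0 hE hE3 hY0 hY0p
      by_contra hne
      exact hB ⟨E, E3, Y0, hE, hE3, hY0, hY0p, hne⟩
    exact caseA hG (Cfsg.Agent.Helper23.BG14.stepI_prop54 hG)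
      (Cfsg.Agent.Helper23.BG14.k1_prop54 hG) (n3Z4_of_n3 hN3) (t6_main hG) M hM K hK hK1 hA

end Cfsg.Agent.Helper53.BG14A
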