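import Cfsg.Agent.Helper25.FSwan.Defs2
import Cfsg.Agent.Helper63.DT_FIN
import Cfsg.Agent.S0145

/-!
# FS farm (helper25, S4440), leaf (KO2): the projective characters vanish at the `p`-singular
elements.
-/

set_option autoImplicit false
set_option linter.unusedSectionVars false
set_option linter.unusedVariables false

namespace Cfsg.Agent.Helper53.FS

open Cfsg Cfsg.Agent.Helper16 Cfsg.Agent.Helper16.DT Cfsg.Agent.Helper25.FS
open scoped ComplexConjugate

universe u

variable {p : ℕ} [Fact p.Prime] {M : Ideal AlgInt} [M.IsMaximal] {G : Type u} [Group G]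

/-- a `p`-regular element is not conjugate to a `p`-singular one -/
theorem KO2_not_isConj {x y : G} (hx : ¬ p ∣ orderOf x) (hy : p ∣ orderOf y) : ¬ IsConj x y := by
  intro h
  obtain ⟨c, hc⟩ := isConj_iff.mp h
  apply hx
  have : orderOf y = orderOf x := by
    rw [← hc, ← MulAut.conj_apply]
    exact MulEquiv.orderOf_eq _ x
  rw [← this]
  exact hy

/-- (KO2), `Finset` form. -/
theorem KO2_vanish_sum [Finite G] [Fintype (IrrCharacter G)]
    (S : Finset (G → ℂ)) (d : IrrCharacter G → (G → ℂ) → ℕ)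
    (hli : LinearIndependent ℂ (fun φ : S => (φ : G → ℂ)))
    (hdec : ∀ χ : IrrCharacter G, pRegularPart p (χ : G → ℂ) = ∑ φ ∈ S, (d χ φ : ℂ) • φ)
    {φ : G → ℂ} (hφ : φ ∈ S) {y : G} (hy : p ∣ orderOf y) :
    ∑ χ : IrrCharacter G, (d χ φ : ℂ) * (χ : G → ℂ) y = 0 := by
  have key : ∀ x : G,
      ∑ χ : IrrCharacter G, pRegularPart p (χ : G → ℂ) x * conj ((χ : G → ℂ) y) = 0 := by
    intro x
    by_cases hx : p ∣ orderOf x
    · apply Finset.sum_eq_zero
      intro χ _
      rw [Cfsg.Agent.Helper63.DT.FIN_sing hx, zero_mul]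
    · have h := (Cfsg.Agent.S0145.result x y).2 (KO2_not_isConj hx hy)
      rw [finsum_eq_sum_of_fintype] at h
      rw [← h]
      apply Finset.sum_congr rfl
      intro χ _
      rw [Cfsg.Agent.Helper63.DT.FIN_reg hx]
  have hc : ∑ ψ ∈ S, (∑ χ : IrrCharacter G, (d χ ψ : ℂ) * conj ((χ : G → ℂ) y)) • ψ = 0 := by
    funext x
    rw [Finset.sum_apply, Pi.zero_apply, ← key x]
    simp only [Pi.smul_apply, smul_eq_mul]
    have h1 : ∀ χ ∈ (Finset.univ : Finset (IrrCharacter G)),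
        pRegularPart p (χ : G → ℂ) x * conj ((χ : G → ℂ) y) =
        ∑ ψ ∈ S, (d χ ψ : ℂ) * conj ((χ : G → ℂ) y) * ψ x := by
      intro χ _
      rw [hdec χ, Finset.sum_apply, Finset.sum_mul]
      apply Finset.sum_congr rfl
      intro ψ _
      rw [Pi.smul_apply, smul_eq_mul]
      ring
    rw [Finset.sum_congr rfl h1, Finset.sum_comm]
    apply Finset.sum_congr rfl
    intro ψ _
    rw [Finset.sum_mul]
  have h0 := Cfsg.Agent.Helper63.DT.FIN_indep hli _ hc φ hφ
  have h1 : conj (∑ χ : IrrCharacter G, (d χ φ : ℂ) * (χ : G → ℂ) y) =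
      ∑ χ : IrrCharacter G, (d χ φ : ℂ) * conj ((χ : G → ℂ) y) := by
    rw [map_sum]
    apply Finset.sum_congr rfl
    intro χ _
    rw [map_mul, Complex.conj_natCast]
  rw [← h1] at h0
  exact (map_eq_zero _).1 h0

/-- (KO2) the projective characters `Φ_φ = ∑ χ, d χ φ • χ` vanish at the `p`-singular elements. -/
theorem proj_vanish (hpM : (p : AlgInt) ∈ M) [Finite G]
    (S : Finset (G → ℂ)) (d : IrrCharacter G → (G → ℂ) → ℕ)
    (hli : LinearIndependent ℂ (fun φ : S => (φ : G → ℂ)))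
    (hdec : ∀ χ : IrrCharacter G, pRegularPart p (χ : G → ℂ) = ∑ φ ∈ S, (d χ φ : ℂ) • φ)
    (hvan : ∀ φ ∈ S, ∀ g : G, ¬ IsPRegular p g → φ g = 0)
    {φ : G → ℂ} (hφ : φ ∈ S) {y : G} (hy : p ∣ orderOf y) :
    ∑ᶠ χ : IrrCharacter G, (d χ φ : ℂ) * (χ : G → ℂ) y = 0 := by
  classical
  haveI : Fintype G := Fintype.ofFinite G
  haveI : Fintype (IrrCharacter G) := Fintype.ofFinite _
  rw [finsum_eq_sum_of_fintype]
  exact KO2_vanish_sum S d hli hdec hφ hy

end Cfsg.Agent.Helper53.FS
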