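import Cfsg.Agent.Helper25.FSwan.Defs2
import Cfsg.Agent.Helper63.DT_FIN
import Cfsg.Agent.Helper53.FS_KO2

/-!
# FS farm (helper25, S4440), leaf (KO3): the degree of a projective character is divisible by the
full power of `p`.
-/

set_option autoImplicit false
set_option linter.unusedSectionVars false
set_option linter.unusedVariables false

namespace Cfsg.Agent.Helper53.FS

open Cfsg Cfsg.Agent.Helper16 Cfsg.Agent.Helper16.DT Cfsg.Agent.Helper25.FS
open scoped ComplexConjugate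

universe u

variable {p : ℕ} [Fact p.Prime] {M : Ideal AlgInt} [M.IsMaximal] {G : Type u} [Group G]

/-- (KO3) the degree of `Φ_φ` is divisible by the full power of `p`. -/
theorem pow_dvd_proj_degree (hpM : (p : AlgInt) ∈ M) [Finite G]
    (S : Finset (G → ℂ)) (d : IrrCharacter G → (G → ℂ) → ℕ)
    (hli : LinearIndependent ℂ (fun φ : S => (φ : G → ℂ)))
    (hdec : ∀ χ : IrrCharacter G, pRegularPart p (χ : G → ℂ) = ∑ φ ∈ S, (d χ φ : ℂ) • φ)
    (hvan : ∀ φ ∈ S, ∀ g : G, ¬ IsPRegular p g → φ g = 0)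
    {φ : G → ℂ} (hφ : φ ∈ S) :
    ∃ k : ℕ, ∑ᶠ χ : IrrCharacter G, (d χ φ : ℂ) * (χ : G → ℂ) 1 =
      ((p ^ (Nat.card G).factorization p * k : ℕ) : ℂ) := by
  classical
  haveI : Fintype G := Fintype.ofFinite G
  haveI : Fintype (IrrCharacter G) := Fintype.ofFinite _
  set Φ : G → ℂ := ∑ χ : IrrCharacter G, d χ φ • (χ : G → ℂ) with hΦ
  have hΦc : IsCharacter G Φ := by
    apply Helper79.RelDeg.isCharacter_fsum
    intro χ _
    exact Helper79.RelDeg.isCharacter_nsmul' (Helper74.irr_isCharacter χ) _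
  have hΦy : ∀ y : G, Φ y = ∑ χ : IrrCharacter G, (d χ φ : ℂ) * (χ : G → ℂ) y := by
    intro y
    rw [hΦ, Finset.sum_apply]
    apply Finset.sum_congr rfl
    intro χ _
    rw [Pi.smul_apply, nsmul_eq_mul]
  obtain ⟨P⟩ : Nonempty (Sylow p G) := inferInstance
  have hv : ∀ y ∈ (P : Subgroup G), y ≠ 1 → Φ y = 0 := by
    intro y hy hy1
    rw [hΦy]
    exact KO2_vanish_sum S d hli hdec hφ
      (Cfsg.Agent.Helper63.DT.FIN_dvd_orderOf P.isPGroup' hy hy1)
  have h1 := Helper80.IsCharacter.card_dvd_charDegree_of_vanish hΦc (P : Subgroup G) hv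
  rw [P.card_eq_multiplicity] at h1
  obtain ⟨k, hk⟩ := h1
  refine ⟨k, ?_⟩
  rw [finsum_eq_sum_of_fintype, ← hΦy 1, ← Helper80.IsCharacter.charDegree_cast hΦc, hk]

end Cfsg.Agent.Helper53.FS
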