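import Mathlib
import Cfsg.Agent.Helper43.Cov2.Defs
import Cfsg.Agent.Helper3.Cov2P4Defs
import Cfsg.Agent.Helper5.UnitaryCenter

/-!
S2500 part (4) (`SU_4(q)`), helper3's #12132 piece (K3): the stabiliser of the plane `W0 ζ` is proper.
-/

set_option autoImplicit false

namespace Cfsg.Agent.Helper53.Cov2P4

open Polynomial Module Matrix Cfsg.Agent.Helper3.Cov2 Cfsg.Agent.Helper43.Cov2

variable {F : Type*} [Field F] [Fintype F] {q : ℕ}

/-- (K3) -/
theorem stabK_ne_top (hF : Fintype.card F = q ^ 2) (ζ : F) (hζ : ζ ^ (q + 1) = -1) :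
    stabSU (q := q) (W0 ζ) ≠ ⊤ := by
  classical
  intro htop
  obtain ⟨c, hc1, hc2⟩ := Cfsg.Agent.Helper5.exists_norm_one_sq_ne_one (F := F) (q := q) hF
  have hc0 : c ≠ 0 := by
    rintro rfl
    rw [zero_pow (Nat.succ_ne_zero q)] at hc1
    exact zero_ne_one hc1
  have hcne1 : c ≠ 1 := by
    rintro rfl
    exact hc2 (one_pow 2)
  have hζ0 : ζ ≠ 0 := by
    rintro rfl
    rw [zero_pow (Nat.succ_ne_zero q)] at hζ
    have : (1 : F) = 0 := by
      have := congrArg Neg.neg hζ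
      simpa using this.symm
    exact one_ne_zero this
  have hci : (c⁻¹) ^ (q + 1) = 1 := by rw [inv_pow, hc1, inv_one]
  let d : Fin 4 → F := ![1, c, 1, c⁻¹]
  have hd : ∀ i, d i * d i ^ q = 1 := by
    intro i
    fin_cases i
    · simp [d]
    · show c * c ^ q = 1
      rw [← pow_succ']
      exact hc1
    · simp [d]
    · show c⁻¹ * (c⁻¹) ^ q = 1
      rw [← pow_succ']
      exact hci
  have hdet : (Matrix.diagonal d).det = 1 := by
    rw [Matrix.det_diagonal, Fin.prod_univ_four]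
    show 1 * c * 1 * c⁻¹ = 1
    rw [mul_one, one_mul, mul_inv_cancel₀ hc0]
  have hM : ∀ u v : Fin 4 → F, Cfsg.Agent.Helper5.herm q (Matrix.diagonal d *ᵥ u)
      (Matrix.diagonal d *ᵥ v) = Cfsg.Agent.Helper5.herm q u v := by
    intro u v
    unfold Cfsg.Agent.Helper5.herm
    apply Finset.sum_congr rfl
    intro i _
    rw [Matrix.mulVec_diagonal, Matrix.mulVec_diagonal, mul_pow]
    calc d i * u i * (d i ^ q * v i ^ q) = (d i * d i ^ q) * (u i * v i ^ q) := by ring
      _ = u i * v i ^ q := by rw [hd i, one_mul]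
  let D : Cfsg.SU 4 F q := Cfsg.Agent.Helper5.mkSU (Matrix.diagonal d) hdet hM
  have hD : D ∈ stabSU (q := q) (W0 ζ) := by
    rw [htop]
    exact Subgroup.mem_top _
  rw [mem_stabSU] at hD
  have hA : vecA ζ ∈ W0 ζ := Submodule.subset_span (by simp)
  have h1 := (hD (vecA ζ)).mpr hA
  have hDv : (D.1.1 : Matrix (Fin 4) (Fin 4) F) *ᵥ vecA ζ = ![1, c * ζ, 0, 0] := by
    show Matrix.diagonal d *ᵥ vecA ζ = ![1, c * ζ, 0, 0]
    funext i
    rw [Matrix.mulVec_diagonal]
    fin_cases i <;> simp [d, vecA]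
  rw [hDv, W0, Submodule.mem_span_pair] at h1
  obtain ⟨a, b, hab⟩ := h1
  have e0 := congrFun hab 0
  have e1 := congrFun hab 1
  simp [vecA, vecB] at e0 e1
  rcases e1 with h | h
  · exact hcne1 (h.symm.trans e0)
  · exact hζ0 h

end Cfsg.Agent.Helper53.Cov2P4
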