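import Mathlib

/-!
Helper53 for helper3 (S4467, Dixon's theorem), piece (PB) `perm_base`: the base case of the permutation lemma.
-/

set_option autoImplicit false

namespace Cfsg.Agent.Helper53.Dixon

open scoped commutatorElement

universe u

/-- (PB) base case: a core-free complement-like subgroup `T` to an abelian normal `r`-subgroup `M`
(`M ⊔ T = ⊤`). -/
theorem perm_base {G : Type u} [Group G] [Finite G] {p r : ℕ} (hp : p.Prime) (hr : r.Prime)
    (M T : Subgroup G) [M.Normal] (hMab : ∀ x ∈ M, ∀ y ∈ M, x * y = y * x)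
    (hMr : IsPGroup r M) (hM1 : M ≠ ⊥) (hMT : M ⊔ T = ⊤) (hcore : T.normalCore = ⊥)
    (hpd : p ∣ Nat.card G) :
    ∃ q : ℕ, IsPrimePow q ∧ q ∣ T.index ∧ ((q : ℤ) ≡ 0 [ZMOD p] ∨ (q : ℤ) ≡ 1 [ZMOD p]) := by
  classical
  have hpF : Fact p.Prime := ⟨hp⟩
  have hrF : Fact r.Prime := ⟨hr⟩
  -- every element of `G` is `m * t`
  have hdec : ∀ g : G, ∃ m ∈ M, ∃ t ∈ T, g = m * t := by
    intro g
    have hg : g ∈ M ⊔ T := by rw [hMT]; trivial
    obtain ⟨m, hm, t, ht, rfl⟩ := Subgroup.mem_sup_of_normal_left.mp hg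
    exact ⟨m, hm, t, ht, rfl⟩
  -- a subgroup of `T` normalized by `M` and by `T` is trivial
  have hkey : ∀ N : Subgroup G, N ≤ T → (∀ m ∈ M, ∀ x ∈ N, m * x * m⁻¹ ∈ N) →
      (∀ t ∈ T, ∀ x ∈ N, t * x * t⁻¹ ∈ N) → N = ⊥ := by
    intro N hNT hNM hNT'
    have hnorm : N.Normal := by
      constructor
      intro x hx g
      obtain ⟨m, hm, t, ht, rfl⟩ := hdec g
      have h1 := hNM m hm _ (hNT' t ht x hx)
      have e : m * t * x * (m * t)⁻¹ = m * (t * x * t⁻¹) * m⁻¹ := by group
      rw [e]; exact h1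
    have h2 : N ≤ T.normalCore := Subgroup.normal_le_normalCore.mpr hNT
    rw [hcore] at h2
    exact le_bot_iff.mp h2
  have hinf : M ⊓ T = ⊥ := by
    apply hkey _ inf_le_right
    · intro m hm x hx
      have e : m * x * m⁻¹ = x := by rw [hMab m hm x hx.1, mul_inv_cancel_right]
      rw [e]; exact hx
    · intro t ht x hx
      exact Subgroup.mem_inf.mpr ⟨(inferInstance : M.Normal).conj_mem x hx.1 t,
        mul_mem (mul_mem ht hx.2) (inv_mem ht)⟩
  have hcent : T ⊓ Subgroup.centralizer (M : Set G) = ⊥ := by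
    apply hkey _ inf_le_left
    · intro m hm x hx
      have hc : m * x = x * m := (Subgroup.mem_centralizer_iff.mp hx.2) m hm
      have e : m * x * m⁻¹ = x := by rw [hc, mul_inv_cancel_right]
      rw [e]; exact hx
    · intro t ht x hx
      refine Subgroup.mem_inf.mpr ⟨mul_mem (mul_mem ht hx.1) (inv_mem ht), ?_⟩
      rw [Subgroup.mem_centralizer_iff]
      intro m hm
      have hm' : t⁻¹ * m * t⁻¹⁻¹ ∈ M := (inferInstance : M.Normal).conj_mem m hm t⁻¹
      have hc := (Subgroup.mem_centralizer_iff.mp hx.2) _ hm'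
      calc m * (t * x * t⁻¹) = t * ((t⁻¹ * m * t⁻¹⁻¹) * x) * t⁻¹ := by group
        _ = t * (x * (t⁻¹ * m * t⁻¹⁻¹)) * t⁻¹ := by rw [hc]
        _ = t * x * t⁻¹ * m := by group
  -- `M` and `T` are complements
  have hcompl : Subgroup.IsComplement' M T := by
    apply Subgroup.isComplement'_of_disjoint_and_mul_eq_univ
    · rw [disjoint_iff]; exact hinf
    · apply Set.eq_univ_of_forall
      intro g
      obtain ⟨m, hm, t, ht, rfl⟩ := hdec g
      exact Set.mul_mem_mul hm ht
  have hidx : T.index = Nat.card M := hcompl.index_eq_card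
  have hcardG : Nat.card M * Nat.card T = Nat.card G := hcompl.card_mul_card
  obtain ⟨a, ha⟩ := hMr.exists_card_eq
  have ha0 : a ≠ 0 := by
    rintro rfl
    rw [pow_zero] at ha
    exact hM1 ((Subgroup.card_eq_one).mp ha)
  by_cases hpr : p = r
  · subst hpr
    refine ⟨p, hp.isPrimePow, ?_, Or.inl ?_⟩
    · rw [hidx, ha]; exact dvd_pow_self p ha0
    · exact (Int.modEq_zero_iff_dvd).mpr (dvd_refl _)
  -- `p ≠ r`: an element of order `p` in `T`
  have hcop : Nat.Coprime p r := (Nat.coprime_primes hp hr).mpr hpr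
  have hpT : p ∣ Nat.card T := by
    rw [← hcardG, ha] at hpd
    exact (Nat.Coprime.dvd_of_dvd_mul_left (Nat.Coprime.pow_right a hcop) hpd)
  obtain ⟨g, hg⟩ := exists_prime_orderOf_dvd_card' p hpT
  -- the fixed points of `g` in `M`
  let C : Subgroup ↥M :=
    { carrier := {m | (g : G) * (m : G) * (g : G)⁻¹ = (m : G)}
      one_mem' := by simp
      mul_mem' := by
        intro x y hx hy
        show (g : G) * ((x * y : ↥M) : G) * (g : G)⁻¹ = ((x * y : ↥M) : G)
        have hx' : (g : G) * (x : G) * (g : G)⁻¹ = (x : G) := hx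
        have hy' : (g : G) * (y : G) * (g : G)⁻¹ = (y : G) := hy
        rw [Subgroup.coe_mul]
        calc (g : G) * ((x : G) * (y : G)) * (g : G)⁻¹
            = ((g : G) * (x : G) * (g : G)⁻¹) * ((g : G) * (y : G) * (g : G)⁻¹) := by group
          _ = (x : G) * (y : G) := by rw [hx', hy']
      inv_mem' := by
        intro x hx
        show (g : G) * ((x⁻¹ : ↥M) : G) * (g : G)⁻¹ = ((x⁻¹ : ↥M) : G)
        have hx' : (g : G) * (x : G) * (g : G)⁻¹ = (x : G) := hx
        rw [Subgroup.coe_inv]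
        calc (g : G) * (x : G)⁻¹ * (g : G)⁻¹ = ((g : G) * (x : G) * (g : G)⁻¹)⁻¹ := by group
          _ = (x : G)⁻¹ := by rw [hx'] }
  have hCmem : ∀ m : ↥M, m ∈ C ↔ (g : G) * (m : G) * (g : G)⁻¹ = (m : G) := fun m => Iff.rfl
  -- the action of `⟨g⟩` on `M`
  let Z : Subgroup (ConjAct G) := Subgroup.zpowers (ConjAct.toConjAct (g : G))
  have hZp : IsPGroup p Z := by
    apply IsPGroup.of_card (n := 1)
    rw [pow_one, Nat.card_zpowers, MulEquiv.orderOf_eq, ← hg, Subgroup.orderOf_coe]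
  have hmod := hZp.card_modEq_card_fixedPoints ↥M
  have hfix : (MulAction.fixedPoints Z ↥M) = (C : Set ↥M) := by
    ext m
    rw [MulAction.mem_fixedPoints]
    constructor
    · intro h
      have h1 := h ⟨ConjAct.toConjAct (g : G), Subgroup.mem_zpowers _⟩
      have h2 := congrArg Subtype.val h1
      rw [Subgroup.smul_def, ConjAct.Subgroup.val_conj_smul, ConjAct.toConjAct_smul] at h2
      exact (hCmem m).mpr h2
    · intro hm z
      have hst : ConjAct.toConjAct (g : G) ∈ MulAction.stabilizer (ConjAct G) m := by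
        rw [MulAction.mem_stabilizer_iff]
        apply Subtype.ext
        rw [ConjAct.Subgroup.val_conj_smul, ConjAct.toConjAct_smul]
        exact (hCmem m).mp hm
      have hz : (z : ConjAct G) ∈ MulAction.stabilizer (ConjAct G) m :=
        (Subgroup.zpowers_le.mpr hst) z.2
      rw [Subgroup.smul_def]
      exact MulAction.mem_stabilizer_iff.mp hz
  rw [hfix] at hmod
  have hcardC : Nat.card (C : Set ↥M) = Nat.card C := rfl
  rw [hcardC, ha] at hmod
  obtain ⟨c, hc⟩ := (hMr.to_subgroup C).exists_card_eq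
  rw [hc] at hmod
  have hCtop : C ≠ ⊤ := by
    intro htop
    have hgc : (g : G) ∈ T ⊓ Subgroup.centralizer (M : Set G) := by
      refine Subgroup.mem_inf.mpr ⟨g.2, ?_⟩
      rw [Subgroup.mem_centralizer_iff]
      intro m hm
      have h1 : (⟨m, hm⟩ : ↥M) ∈ C := by rw [htop]; trivial
      have h2 : (g : G) * m * (g : G)⁻¹ = m := (hCmem _).mp h1
      calc m * (g : G) = ((g : G) * m * (g : G)⁻¹) * (g : G) := by rw [h2]
        _ = (g : G) * m := by group
    rw [hcent, Subgroup.mem_bot] at hgc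
    have h1 : g = 1 := Subtype.ext hgc
    rw [h1, orderOf_one] at hg
    exact hp.one_lt.ne hg
  have hca : c ≤ a := by
    have h1 : Nat.card C ∣ Nat.card ↥M := Subgroup.card_subgroup_dvd_card C
    rw [hc, ha] at h1
    exact (Nat.pow_dvd_pow_iff_le_right hr.one_lt).mp h1
  have hca' : c ≠ a := by
    rintro rfl
    exact hCtop (Subgroup.eq_top_of_card_eq C (by rw [hc, ha]))
  have hlt : c < a := lt_of_le_of_ne hca hca'
  refine ⟨r ^ (a - c), ?_, ?_, Or.inr ?_⟩
  · exact hr.isPrimePow.pow (by omega)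
  · rw [hidx, ha]
    exact pow_dvd_pow r (Nat.sub_le a c)
  · have e : r ^ a = r ^ c * r ^ (a - c) := by rw [← pow_add]; congr 1; omega
    rw [e] at hmod
    have h1 : r ^ c * r ^ (a - c) ≡ r ^ c * 1 [MOD p] := by rw [mul_one]; exact hmod
    have h2 : r ^ (a - c) ≡ 1 [MOD p] :=
      Nat.ModEq.cancel_left_of_coprime (Nat.Coprime.pow_right c hcop) h1
    exact_mod_cast (Int.natCast_modEq_iff.mpr h2)

end Cfsg.Agent.Helper53.Dixon
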