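import Mathlib
import Cfsg.Agent.Helper71.Alp.Defs

/-!
# Alperin's theorem (S3782): a private copy of the fibre count (A0), used by (A1) and (L0) (helper53)
-/

set_option autoImplicit false

namespace Cfsg.Agent.Helper53.Alp

open Cfsg.Agent.Helper71.Alp

/-- fibre count for `x ↦ x⁻¹ φ(x)` (same statement as piece (A0)) -/
theorem card_twisted_le_aux {G : Type*} [Group G] [Finite G] (φ : MulAut G) (Y : Subgroup G) :
    Nat.card {x : G // x⁻¹ * φ x ∈ Y} ≤ Nat.card Y * Nat.card {g : G // φ g = g} := by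
  classical
  have key : ∀ y : Y, ∃ x₀ : G, ∀ x : {x : G // x⁻¹ * φ x ∈ Y},
      (⟨x.1⁻¹ * φ x.1, x.2⟩ : Y) = y → φ (x.1 * x₀⁻¹) = x.1 * x₀⁻¹ := by
    intro y
    by_cases h : ∃ x : {x : G // x⁻¹ * φ x ∈ Y}, (⟨x.1⁻¹ * φ x.1, x.2⟩ : Y) = y
    · obtain ⟨x₀, hx₀⟩ := h
      refine ⟨x₀.1, fun x hx => ?_⟩
      have e : x.1⁻¹ * φ x.1 = x₀.1⁻¹ * φ x₀.1 := congrArg Subtype.val (hx.trans hx₀.symm)
      have e2 : φ x.1 = x.1 * (x₀.1⁻¹ * φ x₀.1) := by rw [← e]; group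
      rw [map_mul, map_inv, e2]; group
    · exact ⟨1, fun x hx => (h ⟨x, hx⟩).elim⟩
  choose base hbase using key
  let g : {x : G // x⁻¹ * φ x ∈ Y} → Y × {g : G // φ g = g} := fun x =>
    (⟨x.1⁻¹ * φ x.1, x.2⟩, ⟨x.1 * (base ⟨x.1⁻¹ * φ x.1, x.2⟩)⁻¹, hbase _ x rfl⟩)
  have hg : Function.Injective g := by
    intro x x' h
    have h1 : (⟨x.1⁻¹ * φ x.1, x.2⟩ : Y) = ⟨x'.1⁻¹ * φ x'.1, x'.2⟩ := congrArg Prod.fst h
    have h2 : x.1 * (base ⟨x.1⁻¹ * φ x.1, x.2⟩)⁻¹ = x'.1 * (base ⟨x'.1⁻¹ * φ x'.1, x'.2⟩)⁻¹ :=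
      congrArg (fun z => (z.2 : G)) h
    rw [h1] at h2
    exact Subtype.ext (mul_right_cancel h2)
  calc Nat.card {x : G // x⁻¹ * φ x ∈ Y} ≤ Nat.card (Y × {g : G // φ g = g}) :=
        Nat.card_le_card_of_injective g hg
    _ = _ := Nat.card_prod _ _

end Cfsg.Agent.Helper53.Alp
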