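import Mathlib
import Cfsg.Agent.Helper71.Alp.Defs
import Cfsg.Agent.Helper1.HKK.GroupDefs
import Cfsg.Agent.Helper70.HKKGL
import Cfsg.Agent.Helper53.AlpA0x

/-!
# Alperin's theorem (S3782), piece (L0): fixed points of `φ` on a lower central factor of a
`p`-group have exponent dividing `p ^ n` (helper53 for helper71)
-/

set_option autoImplicit false

namespace Cfsg.Agent.Helper53.Alp

open Cfsg.Agent.Helper71.Alp
open Cfsg.Agent.Helper1.HKK

/-- the subgroup `{x | x⁻¹ φ(x) ∈ Y}` for a normal `φ`-stable subgroup `Y` -/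
def twistedSub {G : Type*} [Group G] (φ : MulAut G) (Y : Subgroup G) [Y.Normal] : Subgroup G where
  carrier := {x | x⁻¹ * φ x ∈ Y}
  one_mem' := by simp
  mul_mem' := by
    intro x y hx hy
    simp only [Set.mem_ofPred_eq] at hx hy ⊢
    have e : (x * y)⁻¹ * φ (x * y) = (y⁻¹ * (x⁻¹ * φ x) * y⁻¹⁻¹) * (y⁻¹ * φ y) := by
      rw [map_mul]; group
    rw [e]
    exact Y.mul_mem (Subgroup.Normal.conj_mem inferInstance _ hx _) hy
  inv_mem' := by
    intro x hx
    simp only [Set.mem_ofPred_eq] at hx ⊢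
    have e : x⁻¹⁻¹ * φ x⁻¹ = x * (x⁻¹ * φ x)⁻¹ * x⁻¹ := by
      rw [map_inv]; group
    rw [e]
    exact Subgroup.Normal.conj_mem inferInstance _ (Y.inv_mem hx) _

theorem mem_twistedSub {G : Type*} [Group G] (φ : MulAut G) (Y : Subgroup G) [Y.Normal] (x : G) :
    x ∈ twistedSub φ Y ↔ x⁻¹ * φ x ∈ Y := Iff.rfl

theorem pow_mem_gam_of_twisted_mem {G : Type*} [Group G] [Finite G] {p n : ℕ} (hp : p.Prime)
    (hG : IsPGroup p G) (φ : MulAut G) (hfix : FixLE φ (p ^ n)) (k : ℕ) (x : G)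
    (hx : x ∈ Gam G k) (h : x⁻¹ * φ x ∈ Gam G (k + 1)) : x ^ p ^ n ∈ Gam G (k + 1) := by
  classical
  have : Fact p.Prime := ⟨hp⟩
  set Y : Subgroup G := Gam G (k + 1) with hY
  set F : Subgroup G := twistedSub φ Y with hF
  have hYF : Y ≤ F := by
    intro y hy
    rw [hF, mem_twistedSub]
    exact Y.mul_mem (Y.inv_mem hy) (Cfsg.Agent.Helper70.HKKGL.gam_map φ (k + 1) hy)
  have hxF : x ∈ F := h
  -- the cardinality of `F`
  have hcardF : Nat.card F ≤ Nat.card Y * p ^ n := by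
    have h1 : Nat.card F = Nat.card {x : G // x⁻¹ * φ x ∈ Y} := rfl
    rw [h1]
    exact (card_twisted_le_aux φ Y).trans (Nat.mul_le_mul_left _ hfix)
  -- the index of `Y` in `F`
  have hidx : Nat.card (Y.subgroupOf F) * (Y.subgroupOf F).index = Nat.card F :=
    Subgroup.card_mul_index _
  have hcY : Nat.card (Y.subgroupOf F) = Nat.card Y :=
    Nat.card_congr (Subgroup.subgroupOfEquivOfLe hYF).toEquiv
  rw [hcY] at hidx
  have hle : (Y.subgroupOf F).index ≤ p ^ n := by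
    have : Nat.card Y * (Y.subgroupOf F).index ≤ Nat.card Y * p ^ n := hidx ▸ hcardF
    exact Nat.le_of_mul_le_mul_left this Nat.card_pos
  have hFp : IsPGroup p F := hG.to_subgroup F
  obtain ⟨e, he⟩ := hFp.index (Y.subgroupOf F)
  have hen : e ≤ n := by
    rw [he] at hle
    exact (Nat.pow_le_pow_iff_right hp.one_lt).mp hle
  have hpow : (⟨x, hxF⟩ : F) ^ (Y.subgroupOf F).index ∈ Y.subgroupOf F :=
    Subgroup.pow_index_mem _ _
  rw [he, Subgroup.mem_subgroupOf] at hpow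
  have hpow' : x ^ p ^ e ∈ Y := by simpa using hpow
  have : x ^ p ^ n = (x ^ p ^ e) ^ p ^ (n - e) := by
    rw [← pow_mul, ← pow_add, Nat.add_sub_cancel' hen]
  rw [this]
  exact Y.pow_mem hpow' _

end Cfsg.Agent.Helper53.Alp
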