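import Mathlib
import Cfsg.Agent.Helper71.Alp.Defs
import Cfsg.Agent.Helper53.AlpA0x

/-!
# Alperin's theorem (S3782), piece (A1): the number of fixed points does not grow in quotients
and in invariant subgroups (helper53 for helper71)
-/

set_option autoImplicit false

namespace Cfsg.Agent.Helper53.Alp

open Cfsg.Agent.Helper71.Alp

theorem fixLE_quotient {G : Type*} [Group G] [Finite G] (φ : MulAut G) (K : Subgroup G) [K.Normal]
    (hK : Inv φ K) (ψ : MulAut (G ⧸ K)) (hψ : ∀ x : G, ψ (QuotientGroup.mk x) = QuotientGroup.mk (φ x))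
    (m : ℕ) (hfix : FixLE φ m) : FixLE ψ m := by
  classical
  unfold FixLE at hfix ⊢
  -- an injection `K × Fix ψ → S`
  let g : K × {z : G ⧸ K // ψ z = z} → {x : G // x⁻¹ * φ x ∈ K} := fun kz =>
    ⟨Quotient.out kz.2.1 * kz.1.1, by
      have h1 : (QuotientGroup.mk (Quotient.out kz.2.1 * kz.1.1) : G ⧸ K) = kz.2.1 := by
        rw [QuotientGroup.mk_mul, (QuotientGroup.eq_one_iff (kz.1.1)).mpr kz.1.2, mul_one]
        exact Quotient.out_eq' kz.2.1
      have h2 := kz.2.2
      rw [← h1, hψ] at h2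
      exact QuotientGroup.eq.mp h2.symm⟩
  have hg : Function.Injective g := by
    rintro ⟨k, z⟩ ⟨k', z'⟩ h
    have h0 : Quotient.out z.1 * k.1 = Quotient.out z'.1 * k'.1 := congrArg Subtype.val h
    have h1 : ∀ (k : K) (z : {z : G ⧸ K // ψ z = z}),
        (QuotientGroup.mk (Quotient.out z.1 * k.1) : G ⧸ K) = z.1 := by
      intro k z
      rw [QuotientGroup.mk_mul, (QuotientGroup.eq_one_iff (k.1)).mpr k.2, mul_one]
      exact Quotient.out_eq' z.1
    have hz : z = z' := by
      apply Subtype.ext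
      rw [← h1 k z, ← h1 k' z', h0]
    subst hz
    have hk : k = k' := Subtype.ext (mul_left_cancel h0)
    rw [hk]
  have h1 : Nat.card K * Nat.card {z : G ⧸ K // ψ z = z} ≤ Nat.card {x : G // x⁻¹ * φ x ∈ K} := by
    rw [← Nat.card_prod]
    exact Nat.card_le_card_of_injective g hg
  have h2 := card_twisted_le_aux φ K
  have h3 : Nat.card K * Nat.card {z : G ⧸ K // ψ z = z} ≤ Nat.card K * m :=
    h1.trans (h2.trans (Nat.mul_le_mul_left _ hfix))
  exact Nat.le_of_mul_le_mul_left h3 Nat.card_pos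

theorem fixLE_resAut {G : Type*} [Group G] [Finite G] (φ : MulAut G) (H : Subgroup G) (hH : Inv φ H)
    (m : ℕ) (hfix : FixLE φ m) : FixLE (resAut φ H hH) m := by
  unfold FixLE at hfix ⊢
  refine le_trans ?_ hfix
  let g : {x : H // resAut φ H hH x = x} → {g : G // φ g = g} := fun x =>
    ⟨(x.1 : G), by
      have := congrArg (fun y : H => (y : G)) x.2
      simpa using this⟩
  apply Nat.card_le_card_of_injective g
  intro x x' h
  have : (x.1 : G) = (x'.1 : G) := congrArg (fun z : {g : G // φ g = g} => (z : G)) h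
  exact Subtype.ext (Subtype.ext this)

/-- the induced automorphism on a quotient by an invariant normal subgroup -/
theorem exists_quotient_aut {G : Type*} [Group G] [Finite G] {p m : ℕ} (φ : MulAut G) (hφ : φ ^ p = 1)
    (hfix : FixLE φ m) (K : Subgroup G) [K.Normal] (hK : Inv φ K) :
    ∃ ψ : MulAut (G ⧸ K), ψ ^ p = 1 ∧ FixLE ψ m ∧
      ∀ x : G, ψ (QuotientGroup.mk x) = QuotientGroup.mk (φ x) := by
  have he : K.map (φ : G ≃* G).toMonoidHom = K := by
    ext y
    rw [Subgroup.mem_map]
    constructor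
    · rintro ⟨x, hx, rfl⟩
      exact (hK x).1 hx
    · intro hy
      refine ⟨φ.symm y, (hK _).2 ?_, ?_⟩
      · rw [MulEquiv.apply_symm_apply]; exact hy
      · exact MulEquiv.apply_symm_apply φ y
  let ψ : MulAut (G ⧸ K) := QuotientGroup.congr K K φ he
  have hψ : ∀ x : G, ψ (QuotientGroup.mk x) = QuotientGroup.mk (φ x) := fun x => rfl
  have hpow : ∀ (k : ℕ) (x : G), (ψ ^ k) (QuotientGroup.mk x) = QuotientGroup.mk ((φ ^ k) x) := by
    intro k
    induction k with
    | zero => intro x; simp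
    | succ k ih =>
      intro x
      rw [pow_succ, pow_succ, MulAut.mul_apply, MulAut.mul_apply, hψ, ih]
  refine ⟨ψ, ?_, fixLE_quotient φ K hK ψ hψ m hfix, hψ⟩
  apply MulEquiv.ext
  intro z
  induction z using QuotientGroup.induction_on with
  | H x => rw [hpow, hφ]; rfl

end Cfsg.Agent.Helper53.Alp
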