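import Mathlib
import Cfsg.Agent.Helper86.Spec4.Defs

/-!
# S2510 (helper86's architecture): common setup for the pieces (M3), (M4)

For a matrix `s` with irreducible minimal polynomial `f`, the field `E = AdjoinRoot f` and the
evaluation homomorphism `phiM s : E →ₐ[F] Matrix (Fin n) (Fin n) F`, `root ↦ s`.
-/

set_option autoImplicit false

namespace Cfsg.Agent.Helper53.Spec4

open Matrix Cfsg.Agent.Helper86.Spec4 Polynomial

variable {F : Type*} [Field F]

/-- the evaluation homomorphism `AdjoinRoot (minpoly F s) →ₐ[F] Matrix`, `root ↦ s` -/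
noncomputable def phiM {n : ℕ} (s : Matrix (Fin n) (Fin n) F) :
    AdjoinRoot (minpoly F s) →ₐ[F] Matrix (Fin n) (Fin n) F :=
  Ideal.Quotient.liftₐ (Ideal.span {minpoly F s}) (Polynomial.aeval s) (by
    intro a ha
    obtain ⟨b, rfl⟩ := Ideal.mem_span_singleton.mp ha
    rw [map_mul, minpoly.aeval, zero_mul])

theorem phiM_mk {n : ℕ} (s : Matrix (Fin n) (Fin n) F) (g : F[X]) :
    phiM s (AdjoinRoot.mk (minpoly F s) g) = Polynomial.aeval s g := rfl

theorem phiM_root {n : ℕ} (s : Matrix (Fin n) (Fin n) F) :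
    phiM s (AdjoinRoot.root (minpoly F s)) = s := by
  rw [← AdjoinRoot.mk_X, phiM_mk, Polynomial.aeval_X]

theorem phiM_root_pow {n : ℕ} (s : Matrix (Fin n) (Fin n) F) (k : ℕ) :
    phiM s (AdjoinRoot.root (minpoly F s) ^ k) = s ^ k := by
  rw [map_pow, phiM_root]

/-- `phiM s` is injective when the minimal polynomial is irreducible and `1 ≤ n` -/
theorem phiM_injective {n : ℕ} (hn : 1 ≤ n) (s : Matrix (Fin n) (Fin n) F)
    [Fact (Irreducible (minpoly F s))] : Function.Injective (phiM s) := by
  haveI : Nonempty (Fin n) := ⟨⟨0, hn⟩⟩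
  exact (phiM s).toRingHom.injective

/-- the geometric sum `∑_{i<m} q^i` is congruent to `m` modulo any divisor of `q - 1` -/
theorem geom_sum_modEq (q g : ℕ) (hq : 1 ≤ q) (hg : g ∣ q - 1) (m : ℕ) :
    (∑ i ∈ Finset.range m, q ^ i) ≡ m [MOD g] := by
  have hq1 : q ≡ 1 [MOD g] := by
    have : q = (q - 1) + 1 := by omega
    rw [this]
    have h0 : (q - 1) ≡ 0 [MOD g] := (Nat.modEq_zero_iff_dvd).mpr hg
    simpa using h0.add_right 1
  induction m with
  | zero => simp; rfl
  | succ m ih =>
    rw [Finset.sum_range_succ]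
    have h2 : q ^ m ≡ 1 [MOD g] := by simpa using hq1.pow m
    exact ih.add h2

/-- in a finite field extension, the fixed points of the `q`-power map are the elements of `F` -/
theorem exists_algebraMap_eq_of_pow_card [Fintype F] {E : Type*} [Field E] [Algebra F E] (x : E)
    (hx : x ^ Fintype.card F = x) : ∃ ζ : F, algebraMap F E ζ = x := by
  have hq : 1 < Fintype.card F := Fintype.one_lt_card
  have h := roots_map_of_injective_of_card_eq_natDegree
    (p := (X ^ Fintype.card F - X : F[X])) (f := algebraMap F E) (algebraMap F E).injective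
    (by rw [FiniteField.roots_X_pow_card_sub_X, FiniteField.X_pow_card_sub_X_natDegree_eq F hq]
        simp)
  have hne : (X ^ Fintype.card F - X : F[X]).map (algebraMap F E) ≠ 0 := by
    rw [Polynomial.map_ne_zero_iff (algebraMap F E).injective]
    exact FiniteField.X_pow_card_sub_X_ne_zero F hq
  have hmem : x ∈ ((X ^ Fintype.card F - X : F[X]).map (algebraMap F E)).roots := by
    rw [mem_roots hne]
    simp [hx]
  rw [← h, FiniteField.roots_X_pow_card_sub_X] at hmem
  obtain ⟨ζ, -, hζ⟩ := Multiset.mem_map.mp hmem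
  exact ⟨ζ, hζ⟩

end Cfsg.Agent.Helper53.Spec4
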