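import Mathlib
import Cfsg.Agent.Helper35.Asch.Defs

set_option autoImplicit false

/-!
# S3401, piece (S5): the element `t ∈ S ∖ Q` fixes no fixed point of `Q`

The fields of the structure `Setup` of the skeleton are taken as hypotheses.
-/

namespace Cfsg.Agent.Helper53.Asch

open MulAction Cfsg.Agent.Helper35.Asch

variable {G : Type*} [Group G] [Finite G] {Ω : Type*} [Fintype Ω] [MulAction G Ω]

omit [Finite G] in
theorem card_mul_relIndex_aux {H K : Subgroup G} (h : H ≤ K) :
    Nat.card H * H.relIndex K = Nat.card K := by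
  have := Subgroup.relIndex_mul_relIndex (⊥ : Subgroup G) H K bot_le h
  rwa [Subgroup.relIndex_bot_left, Subgroup.relIndex_bot_left] at this

/-- (S5) with the fields of `Setup` as hypotheses: `t` fixes no fixed point `γ` of `Q` (else
`S ≤ N_γ`, too big), given that `Q` is Sylow in `N_γ`. -/
theorem t_smul_ne_of_fields {N Q S : Subgroup G} {t : G}
    (hQS : Q ≤ S) (hSN : S ≤ N) (hcard : Nat.card S = 2 * Nat.card Q)
    (htS : t ∈ S) (htQ : t ∉ Q)
    {γ : Ω} (hγ : γ ∈ fix Q Ω) (h6 : ¬ 2 ∣ Q.relIndex (stabIn N γ)) : t • γ ≠ γ := by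
  intro ht
  have hQP : Q ≤ S ⊓ stabilizer G γ :=
    le_inf hQS (fun q hq => mem_stabilizer_iff.mpr (hγ q hq))
  have hPS : S ⊓ stabilizer G γ ≤ S := inf_le_left
  have htP : t ∈ S ⊓ stabilizer G γ := ⟨htS, mem_stabilizer_iff.mpr ht⟩
  have hQpos : 0 < Nat.card Q := Nat.card_pos
  have hj := card_mul_relIndex_aux hQP
  have hi := card_mul_relIndex_aux hPS
  set j := Q.relIndex (S ⊓ stabilizer G γ) with hjdef
  set i := (S ⊓ stabilizer G γ).relIndex S with hidef
  have hji : j * i = 2 := by
    have h1 : Nat.card Q * (j * i) = Nat.card Q * 2 := by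
      rw [← mul_assoc, hj, hi, hcard, mul_comm]
    exact Nat.eq_of_mul_eq_mul_left hQpos h1
  have hj12 : j = 1 ∨ j = 2 := (Nat.dvd_prime Nat.prime_two).mp ⟨i, hji.symm⟩
  rcases hj12 with h1 | h2
  · -- then `Q = S ⊓ stabilizer`, but `t` lies in the latter
    have hQeq : Q = S ⊓ stabilizer G γ :=
      Subgroup.eq_of_le_of_card_ge hQP (by rw [← hj, h1, mul_one])
    exact htQ (hQeq ▸ htP)
  · have hi1 : i = 1 := by
      rw [h2] at hji
      omega
    have hSP : S ⊓ stabilizer G γ = S :=
      Subgroup.eq_of_le_of_card_ge hPS (by rw [← hi, hi1, mul_one])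
    have hSle : S ≤ stabIn N γ := by
      intro s hs
      have hsP : s ∈ S ⊓ stabilizer G γ := by
        rw [hSP]
        exact hs
      exact ⟨hSN hs, hsP.2⟩
    have hQle : Q ≤ stabIn N γ := hQS.trans hSle
    have hr := card_mul_relIndex_aux hQle
    have hl := card_mul_relIndex_aux hSle
    apply h6
    refine ⟨S.relIndex (stabIn N γ), ?_⟩
    have h3 : Nat.card Q * Q.relIndex (stabIn N γ)
        = Nat.card Q * (2 * S.relIndex (stabIn N γ)) := by
      rw [hr, ← hl, hcard]
      ring
    exact Nat.eq_of_mul_eq_mul_left hQpos h3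

end Cfsg.Agent.Helper53.Asch
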