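import Mathlib
import Cfsg.Agent.Helper43.Cov2.Defs
import Cfsg.Agent.Helper53.Cov2Gen
import Cfsg.Agent.Helper22.Cov2EIG
import Cfsg.Agent.Helper68.Cov2DET
import Cfsg.Agent.Helper68.Cov2ROOT
import Cfsg.Agent.Helper70.Cov2CONJ
import Cfsg.Agent.Helper70.Cov2EXJ

/-!
S2500 (normal 2-coverings): the generic covering theorem for `SL_n(F)` and its degree analysis for
`n = 3, 4`.
-/

set_option autoImplicit false

namespace Cfsg.Agent.Helper53.Cov2

open Polynomial Matrix Cfsg.Agent.Helper43.Cov2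

variable {F : Type*} [Field F]

/-- a root of the characteristic polynomial gives an eigenvector -/
theorem exists_eigenvector_of_isRoot {n : ℕ} (A : Matrix (Fin n) (Fin n) F) (a : F)
    (ha : A.charpoly.IsRoot a) : ∃ v : Fin n → F, v ≠ 0 ∧ A *ᵥ v = a • v := by
  have hdet : (Matrix.scalar (Fin n) a - A).det = 0 := by
    have h := Matrix.eval_charpoly A a
    rw [← h]
    exact ha
  obtain ⟨v, hv, hmv⟩ := Matrix.exists_mulVec_eq_zero_iff.mpr hdet
  refine ⟨v, hv, ?_⟩
  rw [Matrix.sub_mulVec, sub_eq_zero] at hmv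
  rw [← hmv, Matrix.scalar_apply, ← Matrix.smul_one_eq_diagonal, Matrix.smul_mulVec,
    Matrix.one_mulVec]

/-- a matrix annihilated by an irreducible polynomial of degree at least two is not scalar -/
theorem not_scalar_of_aeval_eq_zero {n : ℕ} [NeZero n] (m : F[X]) (hm : Irreducible m)
    (hd : 2 ≤ m.natDegree) (J : Matrix (Fin n) (Fin n) F) (hJ : aeval J m = 0) :
    J ∉ Set.range (Matrix.scalar (Fin n)) := by
  rintro ⟨a, rfl⟩
  have h1 : aeval (Matrix.scalar (Fin n) a) m = Matrix.scalar (Fin n) (aeval a m) := by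
    have := Polynomial.aeval_algHom_apply (Algebra.ofId F (Matrix (Fin n) (Fin n) F)) a m
    simpa [Algebra.ofId_apply, Matrix.algebraMap_eq_diagonal, Matrix.scalar_apply,
      Pi.algebraMap_def] using this
  rw [h1] at hJ
  have h2 : aeval a m = 0 := by
    have := congrFun (congrFun hJ 0) 0
    simpa [Matrix.scalar_apply] using this
  have hroot : m.IsRoot a := by
    rw [Polynomial.IsRoot, ← Polynomial.coe_aeval_eq_eval]
    exact h2
  have := Polynomial.degree_eq_one_of_irreducible_of_root hm hroot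
  have h3 : m.natDegree = 1 := Polynomial.natDegree_eq_of_degree_eq_some this
  omega

/-- **Generic covering theorem.** -/
theorem cover2Z_SL [Fintype F] (n d : ℕ) (hn : 2 ≤ n) (hd : 2 ≤ d) (hdn : d ∣ n)
    (hdeg : ∀ χ : F[X], χ.Monic → χ.natDegree = n → (∀ a : F, ¬ χ.IsRoot a) →
      ∀ f : F[X], Irreducible f → f ∣ χ → d ∣ f.natDegree) :
    Cover2Z (Matrix.SpecialLinearGroup (Fin n) F) := by
  have : NeZero n := ⟨by omega⟩
  obtain ⟨m, J, hmm, hmi, hmd, hJ⟩ :=
    Cfsg.Agent.Helper70.Cov2.exists_irreducible_root_matrix (F := F) n d (by omega) hdn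
  refine ⟨pointStab n F, centSL J, center_le_pointStab n, center_le_centSL J,
    pointStab_ne_top n hn, centSL_ne_top J ?_, ?_⟩
  · exact not_scalar_of_aeval_eq_zero m hmi (by omega) J hJ
  intro g
  by_cases hroot : ∃ a : F, (g : Matrix (Fin n) (Fin n) F).charpoly.IsRoot a
  · obtain ⟨a, ha⟩ := hroot
    obtain ⟨v, hv, hgv⟩ := exists_eigenvector_of_isRoot _ a ha
    obtain ⟨x, hx⟩ := Cfsg.Agent.Helper22.Cov2.exists_conj_col_zero g v hv a hgv
    exact ⟨x, Or.inl hx⟩
  · have hroot' : ∀ a : F, ¬ (g : Matrix (Fin n) (Fin n) F).charpoly.IsRoot a :=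
      fun a ha => hroot ⟨a, ha⟩
    have hχm := Matrix.charpoly_monic (g : Matrix (Fin n) (Fin n) F)
    have hχd : (g : Matrix (Fin n) (Fin n) F).charpoly.natDegree = n := by
      rw [Matrix.charpoly_natDegree_eq_dim, Fintype.card_fin]
    obtain ⟨P, hP⟩ := Cfsg.Agent.Helper68.Cov2.exists_comp_dvd m hmi _ hχm.ne_zero
      (fun f hf hfd => by
        have := hdeg _ hχm hχd hroot' f hf hfd
        rwa [hmd])
    set J' : Matrix (Fin n) (Fin n) F := aeval (g : Matrix (Fin n) (Fin n) F) P with hJ'def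
    have hJ' : aeval J' m = 0 := by
      rw [hJ'def, ← Polynomial.aeval_comp]
      obtain ⟨Q, hQ⟩ := hP
      rw [hQ, map_mul, Matrix.aeval_self_charpoly, zero_mul]
    have hcomm : (g : Matrix (Fin n) (Fin n) F) * J' = J' * (g : Matrix (Fin n) (Fin n) F) := by
      have h1 : Commute (aeval (g : Matrix (Fin n) (Fin n) F) (X : F[X]))
          (aeval (g : Matrix (Fin n) (Fin n) F) P) :=
        (Commute.all (X : F[X]) P).map (aeval (g : Matrix (Fin n) (Fin n) F))
      rw [aeval_X] at h1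
      exact h1.eq
    obtain ⟨y, hyu, hy⟩ :=
      Cfsg.Agent.Helper70.Cov2.exists_conj_of_aeval_eq_zero m hmi J J' hJ hJ'
    have hy0 : y.det ≠ 0 := hyu.ne_zero
    obtain ⟨c, hcJ, hcd⟩ := Cfsg.Agent.Helper68.Cov2.exists_commute_det (F := F)
      (Nat.pos_of_ne_zero (NeZero.ne n)) m hmi J hJ (y.det)⁻¹ (inv_ne_zero hy0)
    have hxdet : (c * y).det = 1 := by
      rw [Matrix.det_mul, hcd, inv_mul_cancel₀ hy0]
    let x : Matrix.SpecialLinearGroup (Fin n) F := ⟨c * y, hxdet⟩
    refine ⟨x, Or.inr ?_⟩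
    rw [mem_centSL]
    have hxJ : (x : Matrix (Fin n) (Fin n) F) * J' = J * (x : Matrix (Fin n) (Fin n) F) := by
      show c * y * J' = J * (c * y)
      rw [mul_assoc, hy, ← mul_assoc, hcJ, mul_assoc]
    have hx1 : (x : Matrix (Fin n) (Fin n) F) * ((x⁻¹ : Matrix.SpecialLinearGroup (Fin n) F) :
        Matrix (Fin n) (Fin n) F) = 1 := by
      rw [← Matrix.SpecialLinearGroup.coe_mul, mul_inv_cancel]
      rfl
    have hx2 : ((x⁻¹ : Matrix.SpecialLinearGroup (Fin n) F) : Matrix (Fin n) (Fin n) F) *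
        (x : Matrix (Fin n) (Fin n) F) = 1 := by
      rw [← Matrix.SpecialLinearGroup.coe_mul, inv_mul_cancel]
      rfl
    have hJx : J = (x : Matrix (Fin n) (Fin n) F) * J' *
        ((x⁻¹ : Matrix.SpecialLinearGroup (Fin n) F) : Matrix (Fin n) (Fin n) F) := by
      rw [hxJ, mul_assoc, hx1, mul_one]
    rw [Matrix.SpecialLinearGroup.coe_mul, Matrix.SpecialLinearGroup.coe_mul]
    set X : Matrix (Fin n) (Fin n) F := (x : Matrix (Fin n) (Fin n) F) with hX
    set Xi : Matrix (Fin n) (Fin n) F :=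
      ((x⁻¹ : Matrix.SpecialLinearGroup (Fin n) F) : Matrix (Fin n) (Fin n) F) with hXi
    set G : Matrix (Fin n) (Fin n) F := (g : Matrix (Fin n) (Fin n) F) with hG
    calc X * G * Xi * J = X * G * Xi * (X * J' * Xi) := by rw [← hJx]
      _ = X * G * (Xi * X) * J' * Xi := by simp only [mul_assoc]
      _ = X * (G * J') * Xi := by rw [hx2, mul_one]; simp only [mul_assoc]
      _ = X * (J' * G) * Xi := by rw [hcomm]
      _ = X * J' * (Xi * X) * G * Xi := by rw [hx2, mul_one]; simp only [mul_assoc]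
      _ = (X * J' * Xi) * (X * G * Xi) := by simp only [mul_assoc]
      _ = J * (X * G * Xi) := by rw [← hJx]

end Cfsg.Agent.Helper53.Cov2
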