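import Cfsg.Agent.Helper38.FP.Defs

/-!
Helper53 for helper38 (S2276), piece (ARITH): three small arithmetic lemmas (SM), (FFb), (AR).
-/

set_option autoImplicit false

namespace Cfsg.Agent.Helper53.FP

open Equiv Cfsg.Agent.Helper38.FP

variable {α : Type} [Fintype α] [DecidableEq α] {p : ℕ}

/-- (SM) a nontrivial `p`-element of order `< 5` (p odd) has order 3. -/
theorem order_three_of_lt_five [Fact p.Prime] (hp2 : p ≠ 2) {G : Type*} [Group G] (x : G)
    (hx1 : x ≠ 1) (hx : IsPEl p x) (h : orderOf x < 5) : p = 3 ∧ orderOf x = 3 := by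
  have hp : p.Prime := Fact.out
  obtain ⟨k, hk⟩ := hx
  have hk0 : k ≠ 0 := by
    rintro rfl
    rw [pow_zero, orderOf_eq_one_iff] at hk
    exact hx1 hk
  rw [hk] at h ⊢
  have hple : p ≤ p ^ k := Nat.le_self_pow hk0 p
  have hp5 : p < 5 := lt_of_le_of_lt hple h
  have hp3 : p = 3 := by
    have h2 := hp.two_le
    interval_cases p
    · exact absurd rfl hp2
    · rfl
    · exact absurd hp (by decide)
  subst hp3
  refine ⟨rfl, ?_⟩
  have hk1 : k = 1 := by
    by_contra hne
    have hk2 : 2 ≤ k := by omega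
    have : 3 ^ 2 ≤ 3 ^ k := Nat.pow_le_pow_right (by norm_num) hk2
    omega
  rw [hk1, pow_one]

/-- (FFb) a full cycle of 3-power order on at least 5 points lives on at least 9 points. -/
theorem nine_le_card (h5 : 5 ≤ Fintype.card α) (u : Perm α) (hu : IsFull u) (hpu : IsPEl 3 u) :
    9 ≤ Fintype.card α := by
  obtain ⟨k, hk⟩ := hpu
  rw [hu.orderOf_eq (by omega)] at hk
  rw [hk] at h5 ⊢
  have hk2 : 2 ≤ k := by
    by_contra hlt
    have hk1 : k ≤ 1 := by omega
    have : 3 ^ k ≤ 3 ^ 1 := Nat.pow_le_pow_right (by norm_num) hk1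
    omega
  calc 9 = 3 ^ 2 := by norm_num
    _ ≤ 3 ^ k := Nat.pow_le_pow_right (by norm_num) hk2

/-- a nontrivial `p`-element has a cycle of length its order -/
theorem exists_cycleOf_order [Fact p.Prime] (w : Perm α) {b : ℕ} (hb : orderOf w = p ^ b)
    (hb0 : b ≠ 0) : ∃ y : α, orderOf (w.cycleOf y) = p ^ b := by
  have hp : p.Prime := Fact.out
  by_contra hcon
  push Not at hcon
  have hall : ∀ y : α, orderOf (w.cycleOf y) ∣ p ^ (b - 1) := by
    intro y
    have h1 : orderOf (w.cycleOf y) ∣ p ^ b := hb ▸ Perm.orderOf_cycleOf_dvd_orderOf w y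
    obtain ⟨j, hj, hoj⟩ := (Nat.dvd_prime_pow hp).mp h1
    have hjb : j ≠ b := by
      rintro rfl
      exact hcon y hoj
    rw [hoj]
    exact pow_dvd_pow p (by omega)
  have hw1 : w ^ (p ^ (b - 1)) = 1 := by
    ext y
    rw [← Perm.cycleOf_pow_apply_self, orderOf_dvd_iff_pow_eq_one.mp (hall y)]
  have h2 : p ^ b ∣ p ^ (b - 1) := hb ▸ orderOf_dvd_of_pow_eq_one hw1
  have h3 := (Nat.pow_dvd_pow_iff_le_right hp.one_lt).mp h2
  omega

/-- (AR) arithmetic of the full/non-full case. -/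
theorem full_nonfull_arith [Fact p.Prime] (hp2 : p ≠ 2) (h5 : 5 ≤ Fintype.card α) (u w : Perm α)
    (hu : IsFull u) (hpu : IsPEl p u) (hw1 : w ≠ 1) (hpw : IsPEl p w) (hwn : ¬ IsFull w) :
    (p ∣ Fintype.card α ∧ orderOf w * p ∣ Fintype.card α) ∧
      (5 * p ≤ Fintype.card α ∨ (p = 3 ∧ Fintype.card α = 9)) := by
  have hp : p.Prime := Fact.out
  obtain ⟨a, ha⟩ := hpu
  rw [hu.orderOf_eq (by omega)] at ha
  obtain ⟨b, hb⟩ := hpw
  have hb0 : b ≠ 0 := by
    rintro rfl
    rw [pow_zero, orderOf_eq_one_iff] at hb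
    exact hw1 hb
  obtain ⟨y, hy⟩ := exists_cycleOf_order w hb hb0
  have hcard : (orb w y).card = p ^ b := by rw [card_orb, hy]
  have hle : p ^ b ≤ p ^ a := by
    rw [← hcard, ← ha]
    exact Finset.card_le_univ _
  have hba : b ≤ a := (Nat.pow_le_pow_iff_right hp.one_lt).mp hle
  have hne : b ≠ a := by
    rintro rfl
    apply hwn
    have huniv : orb w y = Finset.univ := by
      rw [← Finset.card_eq_iff_eq_univ, hcard, ha]
    have hsc : ∀ z : α, w.SameCycle y z := fun z => mem_orb.mp (huniv ▸ Finset.mem_univ z)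
    intro c d
    exact (hsc c).symm.trans (hsc d)
  have hlt : b < a := lt_of_le_of_ne hba hne
  have ha2 : 2 ≤ a := by omega
  have hp3 : 3 ≤ p := by
    have := hp.two_le
    omega
  rw [ha, hb]
  refine ⟨⟨dvd_pow_self p (by omega), ?_⟩, ?_⟩
  · rw [← pow_succ]
    exact pow_dvd_pow p (by omega)
  · by_cases hp3' : p = 3
    · subst hp3'
      by_cases ha2' : a = 2
      · right
        exact ⟨rfl, by rw [ha2']; norm_num⟩
      · left
        have ha3 : 3 ≤ a := by omega
        calc 5 * 3 ≤ 3 ^ 3 := by norm_num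
          _ ≤ 3 ^ a := Nat.pow_le_pow_right (by norm_num) ha3
    · left
      have hp5 : 5 ≤ p := by
        by_contra hlt5
        have hp4 : p = 4 := by omega
        rw [hp4] at hp
        exact absurd hp (by decide)
      calc 5 * p ≤ p * p := Nat.mul_le_mul_right p hp5
        _ = p ^ 2 := (pow_two p).symm
        _ ≤ p ^ a := Nat.pow_le_pow_right (by omega) ha2

end Cfsg.Agent.Helper53.FP
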