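import Cfsg.Agent.Helper38.FP.Defs

/-!
Helper53 for helper38 (S2276), piece (BF): the block formula.
-/

set_option autoImplicit false

namespace Cfsg.Agent.Helper53.FP

open Equiv Cfsg.Agent.Helper38.FP

variable {α : Type} [Fintype α] [DecidableEq α] {p : ℕ}

theorem prodDesc_mem {G : Type*} [Group G] (H : Subgroup G) (v : ℕ → G) (k : ℕ)
    (hv : ∀ j < k, v j ∈ H) : prodDesc v k ∈ H := by
  induction k with
  | zero => exact one_mem H
  | succ k ih =>
    rw [prodDesc_succ]
    exact mul_mem (hv k (Nat.lt_succ_self k)) (ih (fun j hj => hv j (Nat.lt_succ_of_lt hj)))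

/-- (BF) block formula: `Good` inside the block `q` gives `Good p u w'`. -/
theorem good_of_blocks [Fact p.Prime] (q : α → Prop) (u w' : Perm α) (k : ℕ) (hk : 0 < k)
    (Z : stab q) (hZ : (Z : Perm α) = u ^ k)
    (c : ℕ → stab q) (hc : ∀ j < k, (c j : Perm α) = u⁻¹ ^ j * w' * u ^ j)
    (h : Good p (restr q Z * prodDesc (fun j => restr q (c (j + 1))) (k - 1)) (restr q (c 0))) :
    Good p u w' := by
  obtain ⟨k', rfl⟩ : ∃ k', k = k' + 1 := ⟨k - 1, by omega⟩
  have hk1 : k' + 1 - 1 = k' := by omega
  rw [hk1] at h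
  -- the elements of `stab q`
  set ζ' : stab q := Z * prodDesc (fun j => c (j + 1)) k' with hζ'
  have hrestr : restr q ζ' = restr q Z * prodDesc (fun j => restr q (c (j + 1))) k' := by
    rw [hζ', map_mul, map_prodDesc]
  have hc0 : ((c 0 : stab q) : Perm α) = w' := by
    rw [hc 0 (by omega)]
    simp
  -- the value of `ζ'`
  have hζval : ((ζ' : stab q) : Perm α) =
      u ^ (k' + 1) * prodDesc (fun j => u⁻¹ ^ (j + 1) * w' * u ^ (j + 1)) k' := by
    rw [hζ', Subgroup.coe_mul, hZ]
    congr 1
    have h1 := map_prodDesc (stab q).subtype (fun j => c (j + 1)) k'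
    have h2 : ((prodDesc (fun j => c (j + 1)) k' : stab q) : Perm α) =
        prodDesc (fun j => ((c (j + 1) : stab q) : Perm α)) k' := h1
    rw [h2]
    apply prodDesc_congr
    intro j hj
    exact hc (j + 1) (by omega)
  -- `(ζ' * c 0 : Perm α) = (u * w') ^ (k' + 1)`
  have hX : ((ζ' * c 0 : stab q) : Perm α) = (u * w') ^ (k' + 1) := by
    rw [Subgroup.coe_mul, hζval, hc0, mul_pow_eq_pow_mul_prodDesc, prodDesc_succ', mul_assoc]
    simp
  constructor
  · -- not a `p`-element
    intro hpel
    apply h.1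
    have h1 : IsPEl p ((u * w') ^ (k' + 1)) := hpel.pow (k' + 1)
    rw [← hX] at h1
    have h2 : IsPEl p (ζ' * c 0 : stab q) :=
      (isPEl_map_iff (stab q).subtype (stab q).subtype_injective).1 h1
    have h3 := h2.map (restr q)
    rw [map_mul, hrestr] at h3
    exact h3
  · -- not solvable
    have hmemζ : ((ζ' : stab q) : Perm α) ∈ Subgroup.closure ({u, w'} : Set (Perm α)) := by
      rw [hζval]
      have hu : u ∈ Subgroup.closure ({u, w'} : Set (Perm α)) :=
        Subgroup.subset_closure (Set.mem_insert _ _)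
      have hw : w' ∈ Subgroup.closure ({u, w'} : Set (Perm α)) :=
        Subgroup.subset_closure (Set.mem_insert_of_mem _ (Set.mem_singleton _))
      refine mul_mem (pow_mem hu _) (prodDesc_mem _ _ _ ?_)
      intro j _
      exact mul_mem (mul_mem (pow_mem (inv_mem hu) _) hw) (pow_mem hu _)
    have hmemc : ((c 0 : stab q) : Perm α) ∈ Subgroup.closure ({u, w'} : Set (Perm α)) := by
      rw [hc0]
      exact Subgroup.subset_closure (Set.mem_insert_of_mem _ (Set.mem_singleton _))
    apply not_solvable_of_subtypePerm (q := q) (Subgroup.closure ({u, w'} : Set (Perm α)))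
      ((ζ' : stab q) : Perm α) ((c 0 : stab q) : Perm α) hmemζ hmemc ζ'.2 (c 0).2
    have h2 := h.2
    rw [← hrestr] at h2
    exact h2

end Cfsg.Agent.Helper53.FP
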