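import Mathlib
import Cfsg.Agent.Helper88.U3O.Defs
import Cfsg.Agent.Helper45.SUCard

/-!
# S2786 (U3O farm of helper88), leaf (FAC): the `p`-part of `|SU₃(q)|`, `q = p ^ n`.
-/

set_option autoImplicit false

namespace Cfsg.Agent.Helper53.U3O

open Matrix Polynomial Cfsg.Agent.Helper84.RU3 Cfsg.Agent.Helper86.RU3 Cfsg.Agent.Helper45.GU
  Cfsg.Agent.S2587 Cfsg.Agent.Helper38.Cov2 Cfsg.Agent.Helper97.U3E

variable {F : Type*} [Field F]

/-- (FAC) the `p`-part of `|SU₃(q)|`, `q = p ^ n`. -/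
theorem factorization_SU3 [Fintype F] (p n : ℕ) (hp : p.Prime) (hn : 1 ≤ n)
    (hF : Fintype.card F = (p ^ n) ^ 2) :
    (Nat.card ↥(Cfsg.SU 3 F (p ^ n))).factorization p = 3 * n := by
  set q := p ^ n with hq
  have hqpos : 0 < q := pow_pos hp.pos n
  have hpq : p ∣ q := dvd_pow_self p (by omega)
  have hSU := Cfsg.Agent.Helper45.GU.card_SU hF 3 (by norm_num)
  have hSU' : (q + 1) * Nat.card (Cfsg.SU 3 F q) =
      q ^ 3 * ((q + 1) * (q ^ 2 - 1) * (q ^ 3 + 1)) := by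
    rw [hSU]
    simp [Finset.prod_range_succ]
  have h1 : ¬ p ∣ q + 1 := fun h =>
    hp.one_lt.ne' (Nat.dvd_one.mp ((Nat.dvd_add_right hpq).mp h))
  have h3 : ¬ p ∣ q ^ 3 + 1 := fun h =>
    hp.one_lt.ne' (Nat.dvd_one.mp ((Nat.dvd_add_right (dvd_pow hpq (by norm_num))).mp h))
  have h2 : ¬ p ∣ q ^ 2 - 1 := fun h => by
    have hq2 : p ∣ q ^ 2 := dvd_pow hpq (by norm_num)
    have h' := Nat.dvd_sub hq2 h
    have hpos : 1 ≤ q ^ 2 := Nat.one_le_pow _ _ hqpos
    have e : q ^ 2 - (q ^ 2 - 1) = 1 := by omega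
    rw [e] at h'
    exact hp.one_lt.ne' (Nat.dvd_one.mp h')
  have hq2ne : q ^ 2 - 1 ≠ 0 := fun h0 => h2 (by rw [h0]; exact dvd_zero p)
  have hNne : Nat.card (Cfsg.SU 3 F q) ≠ 0 := Nat.card_pos.ne'
  have hfac : ((q + 1) * Nat.card (Cfsg.SU 3 F q)).factorization p =
      (q ^ 3 * ((q + 1) * (q ^ 2 - 1) * (q ^ 3 + 1))).factorization p := by rw [hSU']
  rw [Nat.factorization_mul (by omega) hNne,
    Nat.factorization_mul (pow_ne_zero 3 hqpos.ne')
      (mul_ne_zero (mul_ne_zero (by omega) hq2ne) (by omega)),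
    Nat.factorization_mul (mul_ne_zero (by omega) hq2ne) (by omega),
    Nat.factorization_mul (by omega) hq2ne] at hfac
  simp only [Finsupp.coe_add, Pi.add_apply] at hfac
  rw [Nat.factorization_eq_zero_of_not_dvd h1, Nat.factorization_eq_zero_of_not_dvd h2,
    Nat.factorization_eq_zero_of_not_dvd h3, Nat.factorization_pow, hq,
    Nat.Prime.factorization_pow hp] at hfac
  simp at hfac
  omega

end Cfsg.Agent.Helper53.U3O
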