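import Cfsg.Agent.Helper39.C320.Defs

/-!
Helper53 for helper39 (S1903), piece (A2): a subgroup containing `P` and `x` is everything.
-/

set_option autoImplicit false

namespace Cfsg.Agent.Helper53.C320

open Cfsg.Agent.Helper39.C320

variable {G : Type*} [Group G] [Finite G]
variable {P Z : Subgroup G} {x : G}

/-- (A2) -/
theorem Setup.eq_top (h : Setup P Z x) :
    ∀ K : Subgroup G, P ≤ K → x ∈ K → K = ⊤ := by
  intro K hPK hxK
  have h64 : 64 ∣ Nat.card K := by
    rw [← h.cardP]
    exact Subgroup.card_dvd_of_le hPK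
  have h5 : 5 ∣ Nat.card K := by
    rw [← h.ord_x]
    have h1 : orderOf (⟨x, hxK⟩ : K) ∣ Nat.card K := orderOf_dvd_natCard _
    rwa [Subgroup.orderOf_mk] at h1
  have h320 : 320 ∣ Nat.card K := by
    have hc : Nat.Coprime 64 5 := by norm_num
    have := hc.mul_dvd_of_dvd_of_dvd h64 h5
    simpa using this
  have hle : Nat.card K ∣ Nat.card G := Subgroup.card_subgroup_dvd_card K
  rw [h.cardG] at hle
  have heq : Nat.card K = Nat.card G := by
    rw [h.cardG]
    exact Nat.dvd_antisymm hle h320
  exact Subgroup.eq_top_of_card_eq K heq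

end Cfsg.Agent.Helper53.C320
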