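import Cfsg.Agent.Helper39.C320.Defs

/-!
Helper53 for helper39 (S1903), piece (A5): counting the fixed points of conjugation by an element of order 5.
-/

set_option autoImplicit false

namespace Cfsg.Agent.Helper53.C320

open Cfsg.Agent.Helper39.C320

variable {G : Type*} [Group G] [Finite G]

/-- (A5) counting fixed points of conjugation by an element of order 5 -/
theorem card_modEq_fixed (x : G) (hx : orderOf x = 5) (K : Subgroup G)
    (hK : ∀ k ∈ K, x * k * x⁻¹ ∈ K) :
    Nat.card K ≡ Nat.card (K ⊓ Subgroup.centralizer {x} : Subgroup G) [MOD 5] := by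
  classical
  have hF : Fact (Nat.Prime 5) := ⟨by norm_num⟩
  -- natural powers of `x` normalize `K`
  have hpow : ∀ n : ℕ, ∀ k ∈ K, x ^ n * k * (x ^ n)⁻¹ ∈ K := by
    intro n
    induction n with
    | zero => intro k hk; simpa using hk
    | succ n ih =>
      intro k hk
      have e : x ^ (n + 1) * k * (x ^ (n + 1))⁻¹ = x * (x ^ n * k * (x ^ n)⁻¹) * x⁻¹ := by
        rw [pow_succ']; group
      rw [e]
      exact hK _ (ih k hk)
  have hN : ∀ y ∈ Subgroup.zpowers x, ∀ k ∈ K, y * k * y⁻¹ ∈ K := by
    intro y hy k hk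
    obtain ⟨n, rfl⟩ := (mem_powers_iff_mem_zpowers (x := x) (y := y)).mpr hy
    exact hpow n k hk
  let act : MulAction ↥(Subgroup.zpowers x) ↥K :=
    { smul := fun y k => ⟨(y : G) * (k : G) * (y : G)⁻¹, hN y.1 y.2 k.1 k.2⟩
      one_smul := by
        intro k
        apply Subtype.ext
        show ((1 : ↥(Subgroup.zpowers x)) : G) * (k : G) * ((1 : ↥(Subgroup.zpowers x)) : G)⁻¹ = (k : G)
        simp
      mul_smul := by
        intro y z k
        apply Subtype.ext
        show ((y * z : ↥(Subgroup.zpowers x)) : G) * (k : G) * ((y * z : ↥(Subgroup.zpowers x)) : G)⁻¹ =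
          (y : G) * ((z : G) * (k : G) * (z : G)⁻¹) * (y : G)⁻¹
        rw [Subgroup.coe_mul]
        group }
  have hsmul : ∀ (y : ↥(Subgroup.zpowers x)) (k : ↥K), ((y • k : ↥K) : G) = (y : G) * (k : G) * (y : G)⁻¹ :=
    fun _ _ => rfl
  have hZp : IsPGroup 5 ↥(Subgroup.zpowers x) := by
    apply IsPGroup.of_card (n := 1)
    rw [pow_one, Nat.card_zpowers, hx]
  have hmod := hZp.card_modEq_card_fixedPoints ↥K
  have hcongr : Nat.card (MulAction.fixedPoints ↥(Subgroup.zpowers x) ↥K) =
      Nat.card (K ⊓ Subgroup.centralizer {x} : Subgroup G) := by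
    apply Nat.card_congr
    refine
      { toFun := fun k => ⟨((k : ↥K) : G), Subgroup.mem_inf.mpr ⟨(k : ↥K).2, ?_⟩⟩
        invFun := fun k => ⟨⟨(k : G), (Subgroup.mem_inf.mp k.2).1⟩, ?_⟩
        left_inv := fun k => rfl
        right_inv := fun k => rfl }
    · rw [Subgroup.mem_centralizer_iff]
      intro y hy
      rw [Set.mem_singleton_iff] at hy
      subst hy
      have h1 := k.2 ⟨y, Subgroup.mem_zpowers y⟩
      have h2 : y * ((k : ↥K) : G) * y⁻¹ = ((k : ↥K) : G) := by
        have := congrArg Subtype.val h1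
        rwa [hsmul] at this
      calc y * ((k : ↥K) : G) = (y * ((k : ↥K) : G) * y⁻¹) * y := by group
        _ = ((k : ↥K) : G) * y := by rw [h2]
    · intro y
      apply Subtype.ext
      rw [hsmul]
      have hc := (Subgroup.mem_inf.mp k.2).2
      -- `k` commutes with all of `zpowers x`
      have hle : Subgroup.zpowers x ≤ Subgroup.centralizer {(k : G)} := by
        rw [Subgroup.zpowers_le, Subgroup.mem_centralizer_iff]
        intro z hz
        rw [Set.mem_singleton_iff] at hz
        subst hz
        rw [Subgroup.mem_centralizer_iff] at hc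
        exact (hc x (Set.mem_singleton x)).symm
      have hy := hle y.2
      rw [Subgroup.mem_centralizer_iff] at hy
      have h3 := hy (k : G) (Set.mem_singleton _)
      show (y : G) * (k : G) * (y : G)⁻¹ = (k : G)
      rw [← h3, mul_inv_cancel_right]
  rw [← hcongr]
  exact hmod

end Cfsg.Agent.Helper53.C320
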