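import Cfsg.Agent.Helper4.F4Inv.Skel

/-!
Helper53 / S2184, PIECE TOR: the torus `H ∩ ²F₄(q)` is transitive on the nontrivial elements
`x₄₄(u) x₄₇((θ u)²)` and on the nontrivial elements `x₃₉(θ t) x₄₅(t)`.
-/

set_option autoImplicit false
set_option maxRecDepth 100000

namespace Cfsg.Agent.Helper53.F4Inv

open Cfsg Cfsg.Lie Cfsg.Agent.Helper18 Cfsg.Agent.Helper36.F4Class Cfsg.Agent.Helper18.TwF4
  Cfsg.Agent.Helper4.F4Inv

variable {K : Type*} [Field K]

local notation "x18" => Cfsg.Agent.Helper18.xGL chevF4 K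

/-- the entries of an element of `H` at the roots `44 = 1232` and `45 = 1242` in terms of the entries at the
fundamental roots -/
theorem ent_44_45 (k : GL chevF4.Idx K) (hk : k ∈ chevF4.diagonalSubgroup K) :
    ent 44 k = ent 24 k * ent 25 k ^ 2 * ent 33 k ^ 2 * ent 27 k ^ 3 ∧
      ent 45 k = ent 44 k * ent 27 k := by
  have e34 := ent_add_TO k hk 27 33 34 (by norm_num) (by norm_num) (by norm_num) (by decide)
  have e35 := ent_add_TO k hk 34 25 35 (by norm_num) (by norm_num) (by norm_num) (by decide)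
  have e37 := ent_add_TO k hk 35 27 37 (by norm_num) (by norm_num) (by norm_num) (by decide)
  have e38 := ent_add_TO k hk 37 24 38 (by norm_num) (by norm_num) (by norm_num) (by decide)
  have e39 := ent_add_TO k hk 38 25 39 (by norm_num) (by norm_num) (by norm_num) (by decide)
  have e40 := ent_add_TO k hk 39 27 40 (by norm_num) (by norm_num) (by norm_num) (by decide)
  have e44 := ent_add_TO k hk 40 33 44 (by norm_num) (by norm_num) (by norm_num) (by decide)
  have e45 := ent_add_TO k hk 44 27 45 (by norm_num) (by norm_num) (by norm_num) (by decide)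
  refine ⟨?_, e45⟩
  rw [e44, e40, e39, e38, e37, e35, e34]
  ring

variable [Fintype K] [CharP K 2] {m : ℕ}

/-- an element of the torus `H ∩ ²F₄(q)` with `ent 44 = ent 45 = c`, for any prescribed `c ≠ 0`
(given PIECE SUR) -/
theorem exists_torus_44_45 (hSUR : PieceSUR K m) (hK : Fintype.card K = 2 ^ (2 * m + 1)) (c : K)
    (hc : c ≠ 0) :
    ∃ h : ↥(twistedF4 K (2 ^ m)), (h : GL chevF4.Idx K) ∈ chevF4.diagonalSubgroup K ∧
      ent 44 (h : GL chevF4.Idx K) = c ∧ ent 45 (h : GL chevF4.Idx K) = c := by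
  obtain ⟨a, ha⟩ := (hSUR hK).2 c
  have ha0 : a ≠ 0 := by
    rintro rfl
    rw [mul_zero] at ha
    exact hc ha.symm
  obtain ⟨h, hh, h24, h25⟩ := exists_torus (m := m) hK a 1 ha0 one_ne_zero
  have e33 : ent 33 (h : GL chevF4.Idx K) = phi m a := by
    have := ent_twisted_TO hK _ h.2 hh 24 (by norm_num)
    rw [show Cfsg.Agent.Helper36.SigmaF4.rho 24 = 33 by decide, cF_long' m 24 (by decide), h24] at this
    exact this
  have e27 : ent 27 (h : GL chevF4.Idx K) = 1 := by
    have := ent_twisted_TO hK _ h.2 hh 25 (by norm_num)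
    rw [show Cfsg.Agent.Helper36.SigmaF4.rho 25 = 27 by decide, cF_long' m 25 (by decide), h25,
      map_one] at this
    exact this
  obtain ⟨e44, e45⟩ := ent_44_45 (h : GL chevF4.Idx K) hh
  have e44' : ent 44 (h : GL chevF4.Idx K) = c := by
    rw [e44, h24, h25, e33, e27, ← ha]
    ring
  refine ⟨h, hh, e44', ?_⟩
  rw [e45, e44', e27, mul_one]

/-- the action of the torus on the elements `x₄₄(u) x₄₇((θ u)²)` -/
theorem T_conj_SD (hK : Fintype.card K = 2 ^ (2 * m + 1)) (h : GL chevF4.Idx K)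
    (hG : h ∈ twistedF4 K (2 ^ m)) (hh : h ∈ chevF4.diagonalSubgroup K) (u : K) :
    h * (f4Rel (K := K)).SD (phi m) 0 u * h⁻¹ = (f4Rel (K := K)).SD (phi m) 0 (ent 44 h * u) := by
  have e47 : ent 47 h = phi m (ent 44 h) ^ 2 := by
    have := ent_twisted_TO hK _ hG hh 44 (by norm_num)
    rw [show Cfsg.Agent.Helper36.SigmaF4.rho 44 = 47 by decide, cF_short' m 44 (by decide)] at this
    exact this
  unfold RelF4.SD
  show h * (x18 29 (phi m 0) * (x18 41 0 * (x18 44 (phi m 0 * 0 + u) * x18 47 (phi m u ^ 2)))) * h⁻¹ =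
    x18 29 (phi m 0) * (x18 41 0 * (x18 44 (phi m 0 * 0 + ent 44 h * u) *
      x18 47 (phi m (ent 44 h * u) ^ 2)))
  rw [map_zero, xg_zero, xg_zero, one_mul, one_mul, one_mul, one_mul, zero_mul, zero_add, zero_add]
  calc h * (x18 44 u * x18 47 (phi m u ^ 2)) * h⁻¹
      = (h * x18 44 u * h⁻¹) * (h * x18 47 (phi m u ^ 2) * h⁻¹) := by group
    _ = x18 44 (ent 44 h * u) * x18 47 (phi m (ent 44 h * u) ^ 2) := by
        rw [conj_ent _ hh 44 (by decide), conj_ent _ hh 47 (by decide), e47, map_mul, mul_pow]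

/-- the action of the torus on the elements `x₃₉(θ t) x₄₅(t)` -/
theorem T_conj_PE (hK : Fintype.card K = 2 ^ (2 * m + 1)) (h : GL chevF4.Idx K)
    (hG : h ∈ twistedF4 K (2 ^ m)) (hh : h ∈ chevF4.diagonalSubgroup K) (t : K) :
    h * (f4Rel (K := K)).PE (phi m) t * h⁻¹ = (f4Rel (K := K)).PE (phi m) (ent 45 h * t) := by
  have e39 : ent 39 h = phi m (ent 45 h) := by
    have := ent_twisted_TO hK _ hG hh 45 (by norm_num)
    rw [show Cfsg.Agent.Helper36.SigmaF4.rho 45 = 39 by decide, cF_long' m 45 (by decide)] at this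
    exact this
  unfold RelF4.PE
  show h * (x18 39 (phi m t) * x18 45 t) * h⁻¹ =
    x18 39 (phi m (ent 45 h * t)) * x18 45 (ent 45 h * t)
  calc h * (x18 39 (phi m t) * x18 45 t) * h⁻¹
      = (h * x18 39 (phi m t) * h⁻¹) * (h * x18 45 t * h⁻¹) := by group
    _ = x18 39 (phi m (ent 45 h * t)) * x18 45 (ent 45 h * t) := by
        rw [conj_ent _ hh 39 (by decide), conj_ent _ hh 45 (by decide), e39, map_mul]

/-- PIECE TOR (given PIECE SUR) -/
theorem pieceTOR (hSUR : PieceSUR K m) : PieceTOR K m := by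
  intro hK
  constructor
  · intro u hu
    obtain ⟨h, hh, e44, -⟩ := exists_torus_44_45 hSUR hK u⁻¹ (inv_ne_zero hu)
    refine ⟨(h : GL chevF4.Idx K), h.2, ?_⟩
    rw [T_conj_SD hK _ h.2 hh, e44, inv_mul_cancel₀ hu]
  · intro t ht
    obtain ⟨h, hh, -, e45⟩ := exists_torus_44_45 hSUR hK t⁻¹ (inv_ne_zero ht)
    refine ⟨(h : GL chevF4.Idx K), h.2, ?_⟩
    rw [T_conj_PE hK _ h.2 hh, e45, inv_mul_cancel₀ ht]

end Cfsg.Agent.Helper53.F4Inv
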