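import Mathlib

/-!
helper53 for helper40, S2376 piece (FLD): the field-theoretic parameters in `F_{q⁶} ⊇ φ(F_{q³})`.
-/

set_option autoImplicit false

namespace Cfsg.Agent.Helper53.D4Tor

open Polynomial

/-- the elements of `K'` fixed by `x ↦ x ^ N` (`N = |K|`) are exactly the image of `K` -/
theorem FLD_mem_range {K K' : Type*} [Field K] [Fintype K] [Field K'] [Fintype K'] (φ : K →+* K')
    (x : K') (hx : x ^ Fintype.card K = x) : ∃ t : K, φ t = x := by
  classical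
  set N := Fintype.card K with hN
  have hN1 : 1 < N := Fintype.one_lt_card
  set S : Finset K' := Finset.univ.filter (fun y : K' => y ^ N = y) with hS
  have himg : Finset.image φ Finset.univ ⊆ S := by
    intro y hy
    rw [Finset.mem_image] at hy
    obtain ⟨t, -, rfl⟩ := hy
    rw [hS, Finset.mem_filter]
    refine ⟨Finset.mem_univ _, ?_⟩
    rw [← map_pow, hN, FiniteField.pow_card]
  have hcardimg : (Finset.image φ Finset.univ).card = N := by
    rw [Finset.card_image_of_injective _ φ.injective, Finset.card_univ]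
  have hSroots : S ⊆ (X ^ N - X : K'[X]).roots.toFinset := by
    intro y hy
    rw [hS, Finset.mem_filter] at hy
    rw [Multiset.mem_toFinset, mem_roots (FiniteField.X_pow_card_sub_X_ne_zero K' hN1)]
    simp only [IsRoot, eval_sub, eval_pow, eval_X]
    rw [hy.2, sub_self]
  have hScard : S.card ≤ N := by
    calc S.card ≤ (X ^ N - X : K'[X]).roots.toFinset.card := Finset.card_le_card hSroots
      _ ≤ Multiset.card (X ^ N - X : K'[X]).roots := Multiset.toFinset_card_le _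
      _ ≤ (X ^ N - X : K'[X]).natDegree := card_roots' _
      _ = N := FiniteField.X_pow_card_sub_X_natDegree_eq K' hN1
  have heq : Finset.image φ Finset.univ = S :=
    Finset.eq_of_subset_of_card_le himg (by rw [hcardimg]; exact hScard)
  have hxS : x ∈ S := by
    rw [hS, Finset.mem_filter]
    exact ⟨Finset.mem_univ _, hx⟩
  rw [← heq, Finset.mem_image] at hxS
  obtain ⟨t, -, ht⟩ := hxS
  exact ⟨t, ht⟩

/-- (FLD) the parameters. -/
theorem exists_params {K K' : Type*} [Field K] [Fintype K] [Field K'] [Fintype K'] (q : ℕ) (hq : IsPrimePow q)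
    (hK : Fintype.card K = q ^ 3) (hK' : Fintype.card K' = q ^ 6) (φ : K →+* K') :
    ∃ (t v : K) (β : K'), v ^ q = v ∧ orderOf (φ t) = q ^ 3 - 1 ∧ orderOf β = q ^ 2 - 1 ∧ β ^ (q ^ 2) = β ∧
      β ^ q ≠ β ∧ β ^ (q + 1) = (φ t) ^ (1 + q + q ^ 2) ∧ φ v = β + β ^ q - 1 - β ^ (q + 1) := by
  classical
  obtain ⟨p, k, hp, hk, hpk⟩ := (isPrimePow_nat_iff q).mp hq
  have hq2 : 2 ≤ q := by
    rw [← hpk]
    calc 2 ≤ p := hp.two_le
      _ = p ^ 1 := (pow_one p).symm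
      _ ≤ p ^ k := Nat.pow_le_pow_right hp.pos hk
  have : Fact p.Prime := ⟨hp⟩
  -- characteristic
  have : CharP K' p := by
    rw [CharP.charP_iff_prime_eq_zero hp]
    have h0 : ((Fintype.card K' : ℕ) : K') = 0 := Nat.cast_card_eq_zero K'
    rw [hK', ← hpk, ← pow_mul, Nat.cast_pow] at h0
    exact pow_eq_zero_iff (by positivity) |>.mp h0
  -- additivity of `x ↦ x ^ q`
  have hadd : ∀ x y : K', (x + y) ^ q = x ^ q + y ^ q := by
    intro x y
    rw [← hpk]
    exact add_pow_char_pow x y p k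
  have hsub : ∀ x y : K', (x - y) ^ q = x ^ q - y ^ q := by
    intro x y
    rw [← hpk]
    exact sub_pow_char_pow x y k
  -- numerics
  obtain ⟨s, hs⟩ : ∃ s, q ^ 3 = s + 1 := ⟨q ^ 3 - 1, (Nat.sub_add_cancel (Nat.one_le_pow _ _ (by omega))).symm⟩
  obtain ⟨r, hr⟩ : ∃ r, q ^ 2 = r + 1 := ⟨q ^ 2 - 1, (Nat.sub_add_cancel (Nat.one_le_pow _ _ (by omega))).symm⟩
  have h6a : q ^ 6 - 1 = (q ^ 3 - 1) * (q ^ 3 + 1) := by
    have e1 : q ^ 6 = (s + 1) ^ 2 := by rw [← hs]; ring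
    have e2 : (s + 1) ^ 2 = s * (s + 1 + 1) + 1 := by ring
    rw [e1, hs, e2]
    simp
  have h6b : q ^ 6 - 1 = (q ^ 2 - 1) * (q ^ 4 + q ^ 2 + 1) := by
    have e1 : q ^ 6 = (r + 1) ^ 3 := by rw [← hr]; ring
    have e0 : q ^ 4 = (r + 1) ^ 2 := by rw [← hr]; ring
    have e2 : (r + 1) ^ 3 = r * ((r + 1) ^ 2 + (r + 1) + 1) + 1 := by ring
    rw [e1, e0, hr, e2]
    simp
  -- generator
  obtain ⟨ζ, hζ⟩ := IsCyclic.exists_generator (α := K'ˣ)
  have hordζ : orderOf ζ = q ^ 6 - 1 := by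
    rw [orderOf_eq_card_of_forall_mem_zpowers hζ, Nat.card_units, Nat.card_eq_fintype_card, hK']
  have hpos3 : 0 < q ^ 3 + 1 := by positivity
  have hpos4 : 0 < q ^ 4 + q ^ 2 + 1 := by positivity
  have hordτ : orderOf (ζ ^ (q ^ 3 + 1)) = q ^ 3 - 1 := by
    rw [orderOf_pow, hordζ, h6a, Nat.gcd_eq_right (Dvd.intro_left _ rfl), Nat.mul_div_cancel _ hpos3]
  have hordβ : orderOf (ζ ^ (q ^ 4 + q ^ 2 + 1)) = q ^ 2 - 1 := by
    rw [orderOf_pow, hordζ, h6b, Nat.gcd_eq_right (Dvd.intro_left _ rfl), Nat.mul_div_cancel _ hpos4]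
  set τ : K' := ((ζ ^ (q ^ 3 + 1) : K'ˣ) : K') with hτ
  set β : K' := ((ζ ^ (q ^ 4 + q ^ 2 + 1) : K'ˣ) : K') with hβ
  have hordτ' : orderOf τ = q ^ 3 - 1 := by rw [hτ, orderOf_units, hordτ]
  have hordβ' : orderOf β = q ^ 2 - 1 := by rw [hβ, orderOf_units, hordβ]
  have hτq : τ ^ (q ^ 3) = τ := by
    have h1 : τ ^ (q ^ 3 - 1) = 1 := by rw [← hordτ']; exact pow_orderOf_eq_one τ
    rw [hs] at h1 ⊢
    rw [pow_succ]
    simp only [Nat.add_sub_cancel] at h1
    rw [h1, one_mul]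
  have hβq2 : β ^ (q ^ 2) = β := by
    have h1 : β ^ (q ^ 2 - 1) = 1 := by rw [← hordβ']; exact pow_orderOf_eq_one β
    rw [hr] at h1 ⊢
    rw [pow_succ]
    simp only [Nat.add_sub_cancel] at h1
    rw [h1, one_mul]
  have hβ0 : β ≠ 0 := Units.ne_zero _
  have hβq : β ^ q ≠ β := by
    intro h
    obtain ⟨u, hu⟩ : ∃ u, q = u + 1 := ⟨q - 1, by omega⟩
    have h1 : β ^ u = 1 := by
      rw [hu, pow_succ] at h
      exact mul_right_cancel₀ hβ0 (h.trans (one_mul β).symm)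
    have h2 : orderOf β ∣ u := orderOf_dvd_of_pow_eq_one h1
    rw [hordβ', hr, Nat.add_sub_cancel] at h2
    have hu0 : 0 < u := by omega
    have h3 : r ≤ u := Nat.le_of_dvd hu0 h2
    have h4 : q ^ 2 = q * q := sq q
    nlinarith
  obtain ⟨t, ht⟩ := FLD_mem_range φ τ (by rw [hK]; exact hτq)
  have hpow : β ^ (q + 1) = τ ^ (1 + q + q ^ 2) := by
    rw [hβ, hτ, ← Units.val_pow_eq_pow_val, ← Units.val_pow_eq_pow_val, ← pow_mul, ← pow_mul]
    congr 2
    ring
  set w : K' := β + β ^ q - 1 - β ^ (q + 1) with hw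
  have hwq : w ^ q = w := by
    rw [hw, hsub, hsub, hadd, one_pow, ← pow_mul, ← pow_mul]
    have e1 : q * q = q ^ 2 := (sq q).symm
    have e2 : (q + 1) * q = q ^ 2 + q := by ring
    rw [e1, e2, pow_add, hβq2, pow_succ]
    ring
  have hwq3 : w ^ (q ^ 3) = w := by
    have e : q ^ 3 = q * q * q := by ring
    rw [e, pow_mul, pow_mul, hwq, hwq, hwq]
  obtain ⟨v, hv⟩ := FLD_mem_range φ w (by rw [hK]; exact hwq3)
  refine ⟨t, v, β, ?_, ?_, hordβ', hβq2, hβq, ?_, ?_⟩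
  · apply φ.injective
    rw [map_pow, hv, hwq]
  · rw [ht, hordτ']
  · rw [ht, hpow]
  · rw [hv]

end Cfsg.Agent.Helper53.D4Tor
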