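import Cfsg.Agent.Helper40.D4Tor.Defs
import Cfsg.Agent.S1031

/-!
helper53 for helper40, S2376 piece (TW1): the entries of an element of `H` fixed by `n⁻¹ σ(·) n`, `n = n_{p₂}(c)`.
-/

set_option autoImplicit false
set_option maxRecDepth 100000

namespace Cfsg.Agent.Helper53.D4Tor

open Cfsg Cfsg.Lie Cfsg.Agent.Helper18 Cfsg.Agent.Helper19.Twist Cfsg.Agent.Helper40.D4Tor
  Cfsg.Agent.Helper40.GraphAut Cfsg.Agent.S1081

variable {K : Type*} [Field K]

theorem TW1_h31 : NConjHyp chevD4 K := fun i s hi hs => Cfsg.Agent.S1031.result chevD4 memD4 i s hi hs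

/-- `t ↦ x_r(t)` is injective in `GL` -/
theorem TW1_xGL_inj (r : ℕ) (hr : r < chevD4.nroots) (a b : K) (h : xGL chevD4 K r a = xGL chevD4 K r b) : a = b := by
  have htri := triOK_of_mem chevD4 memD4
  apply x_injective chevD4 memD4 r hr a b
  rw [← xGL_val chevD4 _ htri, ← xGL_val chevD4 _ htri, h]

/-- (A) the entry at `r` is the multiplier on `x_r` -/
theorem TW1_ent_conj (k : GL chevD4.Idx K) (hk : k ∈ chevD4.diagonalSubgroup K) (r : ℕ) (hr : r < chevD4.nroots)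
    (t : K) : k * xGL chevD4 K r t = xGL chevD4 K r (ent k r * t) * k := by
  obtain ⟨χ, -, hd, hc⟩ := diagonalSubgroup_char chevD4 memD4 k hk
  have e : ent k r = χ r := by
    unfold ent
    rw [hd, rootEntry_diagonal chevD4 χ r hr]
  rw [e]
  exact hc r hr t

/-- (B) multiplicativity of the entries -/
theorem TW1_ent_mul (k : GL chevD4.Idx K) (hk : k ∈ chevD4.diagonalSubgroup K) (u : ℕ) (hu : u < chevD4.nroots) :
    ent k u = ent k 18 ^ coordD4 u 0 * ent k 14 ^ coordD4 u 1 * ent k 13 ^ coordD4 u 2 * ent k 12 ^ coordD4 u 3 := by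
  obtain ⟨χ, -, hd, hm⟩ := diag_char_mul chevD4 memD4 coordD4 coordOK_D4 k hk
  have e : ∀ r < chevD4.nroots, ent k r = χ r := by
    intro r hr
    unfold ent
    rw [hd, rootEntry_diagonal chevD4 χ r hr]
  rw [e u hu, e 18 (by decide), e 14 (by decide), e 13 (by decide), e 12 (by decide), hm u hu]
  have hr : chevD4.rank = 4 := rfl
  rw [hr, Finset.prod_range_succ, Finset.prod_range_succ, Finset.prod_range_succ, Finset.prod_range_succ,
    Finset.prod_range_zero, one_mul]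
  rfl

/-- (C) the entries of `σ k` -/
theorem TW1_ent_sig (f : K ≃+* K) (k : GL chevD4.Idx K) (hk : k ∈ chevD4.diagonalSubgroup K) (s : ℕ)
    (hs : s < chevD4.nroots) : ent (sigD4 f k) s = f (ent k (piInv1 s)) := by
  obtain ⟨hp1, -⟩ := permsOK_spec permsOK_D4
  obtain ⟨χ, -, hd, -⟩ := diagonalSubgroup_char chevD4 memD4 k hk
  have h1 := sigmaGL_diag chevD4 rho1 rhoInv1 pi1 piInv1 eps1 permsOK_D4 f k χ hd
  have e2 : ent k (piInv1 s) = χ (piInv1 s) := by
    unfold ent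
    rw [hd, rootEntry_diagonal chevD4 χ _ (hp1 s hs).2.1]
  rw [e2]
  unfold ent sigD4
  rw [h1, rootEntry_diagonal chevD4 (fun s => f (χ (piInv1 s))) s hs]

theorem TW1_nG_split (c : K) : nG chevD4 K 14 c = hG chevD4 K 14 c * nG chevD4 K 14 1 := by
  unfold hG nG
  rw [wordGL_hWord, ← nWordGL_one_inv chevD4 memD4 14 (by decide), inv_mul_cancel_right]

theorem TW1_refl_lt : ∀ s < 24, chevD4.reflectRoot 1 s < 24 := by decide

/-- (D) the action of `n_{p₂}(c)` on the root elements -/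
theorem TW1_n_conj (c : K) (hc : c ≠ 0) (s : ℕ) (hs : s < chevD4.nroots) :
    ∃ μ : K, μ ≠ 0 ∧ ∀ t : K, nG chevD4 K 14 c * xGL chevD4 K s t =
      xGL chevD4 K (chevD4.reflectRoot 1 s) (μ * t) * nG chevD4 K 14 c := by
  obtain ⟨η, hη, h⟩ := nGL_conj_xGL (F := K) chevD4 memD4 TW1_h31 1 s (by decide) hs
  have hs' : chevD4.reflectRoot 1 s < chevD4.nroots := TW1_refl_lt s hs
  have hh : hG chevD4 K 14 c ∈ chevD4.diagonalSubgroup K := hG_mem chevD4 memD4 14 (by decide) c hc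
  have e14 : chevD4.simple 1 = 14 := rfl
  rw [e14] at h
  refine ⟨ent (hG chevD4 K 14 c) (chevD4.reflectRoot 1 s) * (η : K), ?_, fun t => ?_⟩
  · apply mul_ne_zero (rootEntry_ne_zero chevD4 memD4 _ hh _)
    rcases hη with rfl | rfl <;> simp
  · rw [TW1_nG_split c]
    have h1 : nG chevD4 K 14 1 * xGL chevD4 K s t =
        xGL chevD4 K (chevD4.reflectRoot 1 s) ((η : K) * t) * nG chevD4 K 14 1 := h t
    rw [mul_assoc, h1, ← mul_assoc, TW1_ent_conj _ hh _ hs', mul_assoc, mul_assoc]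

/-- (E) the relation between the entries -/
theorem TW1_key (f : K ≃+* K) (c : K) (hc : c ≠ 0) (k : GL chevD4.Idx K) (hk : k ∈ chevD4.diagonalSubgroup K)
    (hfix : sigD4 f k = (nG chevD4 K 14 c)⁻¹ * k * nG chevD4 K 14 c) (s : ℕ) (hs : s < chevD4.nroots) :
    f (ent k (piInv1 s)) = ent k (chevD4.reflectRoot 1 s) := by
  have hs' : chevD4.reflectRoot 1 s < chevD4.nroots := TW1_refl_lt s hs
  have hk' : sigD4 f k ∈ chevD4.diagonalSubgroup K :=
    sigmaGL_diagonalSubgroup chevD4 rho1 rhoInv1 pi1 piInv1 eps1 permsOK_D4 f memD4 isoOK_D4 k hk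
  obtain ⟨μ, hμ, hn⟩ := TW1_n_conj c hc s hs
  rw [← TW1_ent_sig f k hk s hs]
  apply TW1_xGL_inj s hs
  have h1 := TW1_ent_conj (sigD4 f k) hk' s hs 1
  rw [mul_one] at h1
  have h2 : sigD4 f k * xGL chevD4 K s 1 =
      xGL chevD4 K s (ent k (chevD4.reflectRoot 1 s)) * sigD4 f k := by
    have h3 := hn (ent k (chevD4.reflectRoot 1 s))
    have h4 := hn 1
    have h5 := TW1_ent_conj k hk _ hs' (μ * 1)
    rw [hfix]
    set n := nG chevD4 K 14 c with hndef
    have h6 : xGL chevD4 K s (ent k (chevD4.reflectRoot 1 s)) =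
        n⁻¹ * xGL chevD4 K (chevD4.reflectRoot 1 s) (μ * ent k (chevD4.reflectRoot 1 s)) * n := by
      rw [mul_assoc, ← h3, inv_mul_cancel_left]
    rw [h6]
    have h7 : n⁻¹ * k * n * xGL chevD4 K s 1 = n⁻¹ * (k * xGL chevD4 K (chevD4.reflectRoot 1 s) (μ * 1)) * n := by
      rw [mul_assoc (n⁻¹ * k), h4]
      simp only [mul_assoc]
    rw [h7, h5, mul_one, mul_comm (ent k _) μ]
    group
  have h8 : xGL chevD4 K s (ent (sigD4 f k) s) * sigD4 f k =
      xGL chevD4 K s (ent k (chevD4.reflectRoot 1 s)) * sigD4 f k := by rw [← h1, h2]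
  exact mul_right_cancel h8

/-- (TW1) the entries of an element of `H` fixed by `n⁻¹ σ(·) n`. -/
theorem twist_rel {K : Type*} [Field K] (q : ℕ) (f : K ≃+* K) (hf : ∀ x, f x = x ^ q) (c : K) (hc : c ≠ 0)
    (k : GL chevD4.Idx K) (hk : k ∈ chevD4.diagonalSubgroup K)
    (hfix : sigD4 f k = (nG chevD4 K 14 c)⁻¹ * k * nG chevD4 K 14 c) :
    ent k 18 ^ q = ent k 14 * ent k 13 ∧ ent k 13 ^ q = ent k 14 * ent k 12 ∧
      ent k 12 ^ q = ent k 18 * ent k 14 ∧ ent k 14 ^ q = (ent k 14)⁻¹ := by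
  have k13 := TW1_key f c hc k hk hfix 13 (by decide)
  have k12 := TW1_key f c hc k hk hfix 12 (by decide)
  have k18 := TW1_key f c hc k hk hfix 18 (by decide)
  have k14 := TW1_key f c hc k hk hfix 14 (by decide)
  have p13 : piInv1 13 = 18 := rfl
  have p12 : piInv1 12 = 13 := rfl
  have p18 : piInv1 18 = 12 := rfl
  have p14 : piInv1 14 = 14 := rfl
  have r13 : chevD4.reflectRoot 1 13 = 16 := by decide
  have r12 : chevD4.reflectRoot 1 12 = 15 := by decide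
  have r18 : chevD4.reflectRoot 1 18 = 19 := by decide
  have r14 : chevD4.reflectRoot 1 14 = 9 := by decide
  rw [p13, r13, hf, TW1_ent_mul k hk 16 (by decide)] at k13
  rw [p12, r12, hf, TW1_ent_mul k hk 15 (by decide)] at k12
  rw [p18, r18, hf, TW1_ent_mul k hk 19 (by decide)] at k18
  rw [p14, r14, hf, TW1_ent_mul k hk 9 (by decide)] at k14
  have c16 : coordD4 16 0 = 0 ∧ coordD4 16 1 = 1 ∧ coordD4 16 2 = 1 ∧ coordD4 16 3 = 0 := by decide
  have c15 : coordD4 15 0 = 0 ∧ coordD4 15 1 = 1 ∧ coordD4 15 2 = 0 ∧ coordD4 15 3 = 1 := by decide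
  have c19 : coordD4 19 0 = 1 ∧ coordD4 19 1 = 1 ∧ coordD4 19 2 = 0 ∧ coordD4 19 3 = 0 := by decide
  have c9 : coordD4 9 0 = 0 ∧ coordD4 9 1 = -1 ∧ coordD4 9 2 = 0 ∧ coordD4 9 3 = 0 := by decide
  rw [c16.1, c16.2.1, c16.2.2.1, c16.2.2.2] at k13
  rw [c15.1, c15.2.1, c15.2.2.1, c15.2.2.2] at k12
  rw [c19.1, c19.2.1, c19.2.2.1, c19.2.2.2] at k18
  rw [c9.1, c9.2.1, c9.2.2.1, c9.2.2.2] at k14
  simp only [zpow_zero, zpow_one, one_mul, mul_one, zpow_neg] at k13 k12 k18 k14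
  exact ⟨k13, k12, k18, k14⟩

end Cfsg.Agent.Helper53.D4Tor
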