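import Mathlib

/-!
# S4385 (GD farm of helper42), leaf (QIMG)
-/

set_option autoImplicit false

universe u

namespace Cfsg.Agent.Helper53.GD

open Pointwise

/-- (QIMG) the image of a subgroup in the quotient by a normal subgroup of coprime order has the same
order. -/
theorem card_map_mk_of_coprime {Γ : Type*} [Group Γ] [Finite Γ] (Q D : Subgroup Γ) [D.Normal]
    (h : (Nat.card Q).Coprime (Nat.card D)) :
    Nat.card (Q.map (QuotientGroup.mk' D)) = Nat.card Q := by
  have hinj : Function.Injective ((QuotientGroup.mk' D).comp Q.subtype) := by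
    rw [← MonoidHom.ker_eq_bot_iff, Subgroup.eq_bot_iff_forall]
    intro x hx
    rw [MonoidHom.mem_ker, MonoidHom.comp_apply, Subgroup.coe_subtype, QuotientGroup.mk'_apply,
      QuotientGroup.eq_one_iff] at hx
    -- `x ∈ Q` has order dividing both `|Q|` and `|D|`
    have h1 : orderOf x ∣ Nat.card Q := orderOf_dvd_natCard x
    have h2 : orderOf (x : Γ) ∣ Nat.card D := by
      have := orderOf_dvd_natCard (⟨(x : Γ), hx⟩ : D)
      rwa [← Subgroup.orderOf_mk (x : Γ) hx]
    rw [Subgroup.orderOf_coe] at h2
    have h3 : orderOf x = 1 := Nat.eq_one_of_dvd_coprimes h h1 h2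
    exact orderOf_eq_one_iff.mp h3
  have hr : Q.map (QuotientGroup.mk' D) = ((QuotientGroup.mk' D).comp Q.subtype).range := by
    rw [MonoidHom.range_comp, Subgroup.range_subtype]
  rw [hr]
  exact (Nat.card_congr (MonoidHom.ofInjective hinj).toEquiv).symm

end Cfsg.Agent.Helper53.GD
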