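import Mathlib
import Cfsg.Prelude.Def_GeometricClasses
import Cfsg.Agent.Helper43.EB.Defs

/-!
Helper53 for helper43 (S5877), piece (B2) `hasPow_concGroup`.
The definition `concGroup` below is a verbatim copy of the one in helper43's `SkelC` (not yet on main when this file
was written); the two are definitionally equal, so `hasPow_concGroup` applies to either.
-/

set_option autoImplicit false

namespace Cfsg.Agent.Helper53.EBB2

open Cfsg.Agent.Helper43.EB Module

variable {F : Type*} [Field F] {n : ℕ}

/-- the image in the units of `End (Fin n → F)` of the product of `R` with the scalars -/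
def concGroup (R : Subgroup (Matrix.GeneralLinearGroup (Fin n) F)) :
    Subgroup (Module.End F (Fin n → F))ˣ :=
  (R ⊔ Cfsg.Geo.scalars (Fin n) F).map
    (Matrix.GeneralLinearGroup.toLin (n := Fin n) (R := F)).toMonoidHom

/-- the image of a scalar matrix is the scalar unit -/
theorem toLin_scalar (d : Fˣ) :
    Matrix.GeneralLinearGroup.toLin (n := Fin n) (R := F)
      (Units.map (Matrix.scalar (Fin n) : F →+* Matrix (Fin n) (Fin n) F).toMonoidHom d) =
      (sc d : (Module.End F (Fin n → F))ˣ) := by
  apply Units.ext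
  apply LinearMap.ext
  intro v
  rw [sc_apply]
  show Matrix.toLin' (Matrix.scalar (Fin n) (d : F)) v = _
  rw [Matrix.toLin'_apply, Matrix.scalar_apply, ← Matrix.smul_one_eq_diagonal, Matrix.smul_mulVec,
    Matrix.one_mulVec]

/-- (B2) exponent `r` gives `HasPow`, in explicit form -/
theorem hasPow_map {r : ℕ} (R : Subgroup (Matrix.GeneralLinearGroup (Fin n) F))
    (hexp : Monoid.exponent R = r) :
    HasPow r ((R ⊔ Cfsg.Geo.scalars (Fin n) F).map
      (Matrix.GeneralLinearGroup.toLin (n := Fin n) (R := F)).toMonoidHom) := by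
  rintro a ⟨g, hg, rfl⟩
  obtain ⟨x, hx, s, hs, rfl⟩ := Subgroup.mem_sup_of_normal_right.mp hg
  obtain ⟨d, rfl⟩ := hs
  refine ⟨d⁻¹, ?_⟩
  have hxr : x ^ r = 1 := by
    have h1 : (⟨x, hx⟩ : ↥R) ^ r = 1 := by rw [← hexp]; exact Monoid.pow_exponent_eq_one _
    exact congrArg Subtype.val h1
  have e : (sc d⁻¹ : (Module.End F (Fin n → F))ˣ) *
      (Matrix.GeneralLinearGroup.toLin (n := Fin n) (R := F)).toMonoidHom
        (x * Units.map (Matrix.scalar (Fin n) : F →+* Matrix (Fin n) (Fin n) F).toMonoidHom d) =
      Matrix.GeneralLinearGroup.toLin (n := Fin n) (R := F) x := by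
    show (sc d⁻¹ : (Module.End F (Fin n → F))ˣ) *
      Matrix.GeneralLinearGroup.toLin (n := Fin n) (R := F)
        (x * Units.map (Matrix.scalar (Fin n) : F →+* Matrix (Fin n) (Fin n) F).toMonoidHom d) = _
    rw [map_mul, toLin_scalar]
    apply Units.ext
    apply LinearMap.ext
    intro v
    rw [Units.val_mul, Units.val_mul, Module.End.mul_apply, Module.End.mul_apply, sc_apply, sc_apply,
      map_smul, smul_smul]
    simp
  rw [e, ← map_pow, hxr, map_one]

/-- (B2) exponent `r` gives `HasPow` -/
theorem hasPow_concGroup {r : ℕ} (R : Subgroup (Matrix.GeneralLinearGroup (Fin n) F))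
    (hexp : Monoid.exponent R = r) : HasPow r (concGroup R) :=
  hasPow_map R hexp

end Cfsg.Agent.Helper53.EBB2
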