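import Mathlib
import Cfsg.Prelude.Def_GeometricClasses
import Cfsg.Agent.Helper43.EB.Defs

/-!
Helper53 for helper43 (S5877), pieces (B6) `prime_dvd_dim` and (B7) `eq_two_of_exponent_four`.
-/

set_option autoImplicit false

namespace Cfsg.Agent.Helper53.EBB6

open Cfsg.Agent.Helper43.EB Module

variable {F : Type*} [Field F] {n : ℕ}

/-- (B6) `r` divides `n` -/
theorem prime_dvd_dim {r : ℕ} (R : Subgroup (Matrix.GeneralLinearGroup (Fin n) F)) (hr : r.Prime)
    (hZ : Nat.card (Subgroup.center R) = r) (hext : commutator R = Subgroup.center R)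
    (hirr : Cfsg.Geo.ActsAbsolutelyIrreducibly (Cfsg.Geo.matrixSet R)) : r ∣ n := by
  have : Fact r.Prime := ⟨hr⟩
  have hfin : Finite (Subgroup.center R) := Nat.finite_of_card_ne_zero (by rw [hZ]; exact hr.ne_zero)
  have hnt : Nontrivial (Subgroup.center R) := by
    rw [← Finite.one_lt_card_iff_nontrivial, hZ]
    exact hr.one_lt
  obtain ⟨z, hz1⟩ := exists_ne (1 : Subgroup.center R)
  have hzr : z ^ r = 1 := by
    rw [← hZ]; exact pow_card_eq_one'
  -- the matrix of `z`
  set M : Matrix (Fin n) (Fin n) F := (((z : ↥R) : Matrix.GeneralLinearGroup (Fin n) F) : Matrix (Fin n) (Fin n) F)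
    with hM
  have hcomm : ∀ s ∈ Cfsg.Geo.matrixSet R, M * s = s * M := by
    rintro _ ⟨g, hg, rfl⟩
    have h1 : (z : ↥R) * ⟨g, hg⟩ = ⟨g, hg⟩ * (z : ↥R) :=
      ((Subgroup.mem_center_iff.mp z.2) ⟨g, hg⟩).symm
    have h2 := congrArg (fun x : ↥R => ((x : Matrix.GeneralLinearGroup (Fin n) F) : Matrix (Fin n) (Fin n) F)) h1
    simpa using h2
  obtain ⟨c, hc⟩ := hirr.2 M hcomm
  -- `det z = 1`
  have hdet : M.det = 1 := by
    let φ : ↥R →* Fˣ := (Matrix.GeneralLinearGroup.det).comp R.subtype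
    have hker : commutator ↥R ≤ φ.ker := Abelianization.commutator_subset_ker φ
    have hzc : (z : ↥R) ∈ commutator ↥R := by rw [hext]; exact z.2
    have h1 : φ (z : ↥R) = 1 := hker hzc
    have h2 := congrArg (fun u : Fˣ => (u : F)) h1
    simpa [φ] using h2
  have hcn : c ^ n = 1 := by
    rw [hc, Matrix.det_smul, Matrix.det_one, mul_one, Fintype.card_fin] at hdet
    exact hdet
  have hMr : M ^ r = 1 := by
    have h1 := congrArg (fun x : Subgroup.center R =>
      (((x : ↥R) : Matrix.GeneralLinearGroup (Fin n) F) : Matrix (Fin n) (Fin n) F)) hzr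
    simpa using h1
  have hM1 : M ≠ 1 := by
    intro h
    apply hz1
    apply Subtype.ext
    apply Subtype.ext
    apply Units.ext
    exact h
  have hc1 : c ≠ 1 := by
    rintro rfl
    apply hM1
    rw [hc, one_smul]
  have hcr : c ^ r = 1 := by
    rcases Nat.eq_zero_or_pos n with hn | hn
    · subst hn
      exact absurd (Subsingleton.elim M 1) hM1
    · have h1 : (M ^ r) ⟨0, hn⟩ ⟨0, hn⟩ = (1 : Matrix (Fin n) (Fin n) F) ⟨0, hn⟩ ⟨0, hn⟩ := by rw [hMr]
      rw [hc, smul_pow, one_pow, Matrix.smul_apply, Matrix.one_apply_eq, smul_eq_mul, mul_one] at h1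
      exact h1
  have hord : orderOf c = r := orderOf_eq_prime hcr hc1
  rw [← hord]
  exact orderOf_dvd_of_pow_eq_one hcn

/-- (B7) an `r`-group of exponent `4` has `r = 2` -/
theorem eq_two_of_exponent_four {r : ℕ} (R : Subgroup (Matrix.GeneralLinearGroup (Fin n) F)) (hr : r.Prime)
    (hR : IsPGroup r R) (hexp : Monoid.exponent R = 4) : r = 2 := by
  have hex : ∃ g : ↥R, g ≠ 1 := by
    by_contra hcon
    push Not at hcon
    have h1 : Monoid.exponent ↥R = 1 := by
      have : Subsingleton ↥R := ⟨fun a b => (hcon a).trans (hcon b).symm⟩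
      exact Monoid.exp_eq_one_of_subsingleton
    rw [h1] at hexp
    norm_num at hexp
  obtain ⟨g, hg⟩ := hex
  obtain ⟨k, hk⟩ := hR g
  have hord : orderOf g ∣ 4 := by
    rw [← hexp]; exact Monoid.order_dvd_exponent g
  have hk' : orderOf g ∣ r ^ k := orderOf_dvd_of_pow_eq_one hk
  have hne1 : orderOf g ≠ 1 := by
    rw [Ne, orderOf_eq_one_iff]; exact hg
  obtain ⟨j, hj, hoj⟩ := (Nat.dvd_prime_pow hr).mp hk'
  have hj0 : j ≠ 0 := by
    rintro rfl
    rw [pow_zero] at hoj
    exact hne1 hoj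
  have hr4 : r ∣ 4 := by
    refine dvd_trans ?_ hord
    rw [hoj]
    exact dvd_pow_self r hj0
  have h4 : (4 : ℕ) = 2 ^ 2 := by norm_num
  rw [h4] at hr4
  exact (Nat.prime_dvd_prime_iff_eq hr Nat.prime_two).mp (hr.dvd_of_dvd_pow hr4)

end Cfsg.Agent.Helper53.EBB6
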