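import Mathlib
import Cfsg.Agent.Helper44.AltSylDefs

set_option autoImplicit false

/-!
# S2221, piece (W3): the wreath product of a group of order two with `C2` is `Good`

`D` is a group with a faithful character `s` to `ℤˣ` taking the value `-1`, so `D` has order two
and `D ≀ᵣ C2` is dihedral of order eight.
-/

namespace Cfsg.Agent.Helper53.AltSyl

open Cfsg.Agent.Helper44.AltSyl
open scoped RegularWreathProduct

theorem w3_c2_cases (c : C2) : c = 1 ∨ c = gC2 := by revert c; decide

theorem w3_gC2_ne_one : gC2 ≠ 1 := by decide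

theorem w3_gC2_inv : gC2⁻¹ = gC2 := by decide

theorem w3_units_eq_of_mul {x y : ℤˣ} (h : x * y = 1) : x = y := by
  have hy := Int.units_mul_self y
  calc x = x * (y * y) := by rw [hy, mul_one]
    _ = (x * y) * y := by rw [mul_assoc]
    _ = y := by rw [h, one_mul]

section base

variable {D : Type*} [Group D] (s : D →* ℤˣ) (hinj : ∀ w : D, s w = 1 → w = 1)

include hinj

theorem w3_s_inj {a b : D} (h : s a = s b) : a = b := by
  have h1 : s (a * b⁻¹) = 1 := by rw [map_mul, map_inv, h, mul_inv_cancel]
  exact mul_inv_eq_one.mp (hinj _ h1)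

theorem w3_comm (a b : D) : a * b = b * a := by
  apply w3_s_inj s hinj
  rw [map_mul, map_mul, mul_comm]

theorem w3_left_eq (w : D ≀ᵣ C2) (h : wrSign s w = 1) : w.left 1 = w.left gC2 :=
  w3_s_inj s hinj (w3_units_eq_of_mul h)

theorem w3_left_const (w : D ≀ᵣ C2) (h : wrSign s w = 1) (p q : C2) : w.left p = w.left q := by
  have h1 := w3_left_eq s hinj w h
  rcases w3_c2_cases p with rfl | rfl <;> rcases w3_c2_cases q with rfl | rfl
  · rfl
  · exact h1
  · exact h1.symm
  · rfl

theorem w3_mem_center (x : D ≀ᵣ C2) (hr : x.right = 1) (hx : wrSign s x = 1) :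
    x ∈ Subgroup.center (D ≀ᵣ C2) := by
  rw [Subgroup.mem_center_iff]
  intro w
  ext q
  · simp only [RegularWreathProduct.mul_left, Pi.mul_apply, hr, inv_one, one_mul]
    rw [w3_left_const s hinj x hx (w.right⁻¹ * q) q]
    exact w3_comm s hinj _ _
  · simp only [RegularWreathProduct.mul_right, hr, mul_one, one_mul]

theorem w3_comm_mem_center (a b : D ≀ᵣ C2) :
    a * b * a⁻¹ * b⁻¹ ∈ Subgroup.center (D ≀ᵣ C2) := by
  apply w3_mem_center s hinj
  · simp only [RegularWreathProduct.mul_right, RegularWreathProduct.inv_right]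
    rw [mul_comm a.right b.right, mul_inv_cancel_right, mul_inv_cancel]
  · rw [map_mul, map_mul, map_mul, map_inv, map_inv, mul_comm (wrSign s a) (wrSign s b),
      mul_inv_cancel_right, mul_inv_cancel]

end base

section main

variable {D : Type*} [Group D] (s : D →* ℤˣ) (hinj : ∀ w : D, s w = 1 → w = 1)

/-- the reflection `(1, 1; g)` -/
def w3T : D ≀ᵣ C2 := ⟨1, gC2⟩

/-- the element `(u, 1; 1)` -/
noncomputable def w3E (u : D) : D ≀ᵣ C2 := ⟨fun x => if x = 1 then u else 1, 1⟩

/-- the central element `(u, u; 1)` -/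
def w3Z (u : D) : D ≀ᵣ C2 := ⟨fun _ => u, 1⟩

theorem w3_wrSign_T : wrSign s (w3T : D ≀ᵣ C2) = 1 := by
  show s ((1 : C2 → D) 1) * s ((1 : C2 → D) gC2) = 1
  simp

theorem w3_wrSign_E (u : D) : wrSign s (w3E u) = s u := by
  show s (if (1 : C2) = 1 then u else 1) * s (if gC2 = 1 then u else 1) = s u
  rw [if_pos rfl, if_neg w3_gC2_ne_one, map_one, mul_one]

theorem w3_wrSign_Z (u : D) : wrSign s (w3Z u) = 1 := by
  show s u * s u = 1
  exact Int.units_mul_self _

include hinj in
/-- an element commuting with the reflection has a constant left part -/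
theorem w3_left_eq_of_commute_T (c : D ≀ᵣ C2) (h : Commute c w3T) : c.left 1 = c.left gC2 := by
  have h1 : (c * w3T).left gC2 = (w3T * c).left gC2 := by rw [h.eq]
  simp only [RegularWreathProduct.mul_left, Pi.mul_apply, w3T, Pi.one_apply, mul_one, one_mul,
    w3_gC2_inv] at h1
  have h2 : (gC2 * gC2 : C2) = 1 := by decide
  rw [h2] at h1
  exact h1.symm

include hinj in
theorem w3_wrSign_of_commute_T (c : D ≀ᵣ C2) (h : Commute c w3T) : wrSign s c = 1 := by
  have h1 := w3_left_eq_of_commute_T s hinj c h
  show s (c.left 1) * s (c.left gC2) = 1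
  rw [← h1]
  exact Int.units_mul_self _

/-- an element commuting with `(u, 1; 1)`, `u ≠ 1`, and with constant left part has trivial right
part -/
theorem w3_right_of_commute_E (u : D) (hu : u ≠ 1) (c : D ≀ᵣ C2) (hc : c.left 1 = c.left gC2)
    (h : Commute c (w3E u)) : c.right = 1 := by
  rcases w3_c2_cases c.right with hr | hr
  · exact hr
  · exfalso
    have h1 : (c * w3E u).left 1 = (w3E u * c).left 1 := by rw [h.eq]
    simp only [RegularWreathProduct.mul_left, Pi.mul_apply, w3E, hr, w3_gC2_inv, mul_one,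
      inv_one, if_neg w3_gC2_ne_one] at h1
    apply hu
    have h2 : c.left 1 = u * c.left 1 := h1
    calc u = u * c.left 1 * (c.left 1)⁻¹ := by rw [mul_inv_cancel_right]
      _ = c.left 1 * (c.left 1)⁻¹ := by rw [← h2]
      _ = 1 := mul_inv_cancel _

end main

/-- (W3) `C2 ≀ C2` (dihedral of order 8) with the product character -/
theorem good_base {D : Type*} [Group D] [Finite D] (s : D →* ℤˣ)
    (hinj : ∀ w : D, s w = 1 → w = 1) (hodd : ∃ u : D, s u = -1) :
    Good (D ≀ᵣ C2) (wrSign s) := by
  obtain ⟨u, hu⟩ := hodd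
  have hu1 : u ≠ 1 := by
    intro h
    rw [h, map_one] at hu
    exact absurd hu (by decide)
  have huu : u * u = 1 := by
    apply hinj
    rw [map_mul, hu]
    rfl
  have hD : ∀ d : D, d = 1 ∨ d = u := by
    intro d
    rcases Int.units_eq_one_or (s d) with h | h
    · exact Or.inl (hinj d h)
    · right
      apply w3_s_inj s hinj
      rw [h, hu]
  have hcardD : Nat.card D = 2 := by
    rw [Nat.card_eq_two_iff]
    refine ⟨1, u, fun h => hu1 h.symm, ?_⟩
    ext d
    simp only [Set.mem_insert_iff, Set.mem_singleton_iff, Set.mem_univ, iff_true]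
    exact hD d
  have hcardC : Nat.card C2 = 2 := by
    rw [Nat.card_eq_fintype_card]
    rfl
  have hcentT : ∀ c : D ≀ᵣ C2, (∀ v : D ≀ᵣ C2, wrSign s v = 1 → Commute c v) → Commute c w3T :=
    fun c hc => hc _ (w3_wrSign_T s)
  have hcent_sign : ∀ c : D ≀ᵣ C2, (∀ v : D ≀ᵣ C2, wrSign s v = 1 → Commute c v) →
      wrSign s c = 1 := fun c hc => w3_wrSign_of_commute_T s hinj c (hcentT c hc)
  have hcenter_comm : ∀ c ∈ Subgroup.center (D ≀ᵣ C2), ∀ v : D ≀ᵣ C2, Commute c v := by
    intro c hc v
    exact (Subgroup.mem_center_iff.mp hc v).symm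
  refine
    { finite := inferInstance
      pgroup := ?_
      card_center := ?_
      exists_odd := ⟨w3E u, by rw [w3_wrSign_E, hu]⟩
      center_le := fun c hc => hcent_sign c (fun v _ => hcenter_comm c hc v)
      cent_sign := hcent_sign
      cent_comm := fun c _ w => w3_comm_mem_center s hinj c w
      cent_commute := fun c c' hc hc' => hc c' (hcent_sign c' hc')
      exists_comm := ?_ }
  · -- a group of order eight
    apply IsPGroup.of_card (n := 3)
    rw [RegularWreathProduct.card, hcardD, hcardC]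
    norm_num
  · -- the centre is `{1, (u, u; 1)}`
    have hz : w3Z u ∈ Subgroup.center (D ≀ᵣ C2) :=
      w3_mem_center s hinj _ rfl (w3_wrSign_Z s u)
    rw [Nat.card_eq_two_iff]
    refine ⟨1, ⟨w3Z u, hz⟩, ?_, ?_⟩
    · intro h
      have h1 : (w3Z u : D ≀ᵣ C2) = 1 := (congrArg Subtype.val h).symm
      have h2 : (w3Z u : D ≀ᵣ C2).left 1 = (1 : D ≀ᵣ C2).left 1 := by rw [h1]
      exact hu1 h2
    · ext ⟨c, hc⟩
      simp only [Set.mem_insert_iff, Set.mem_singleton_iff, Set.mem_univ, iff_true]
      have hcT : Commute c w3T := hcenter_comm c hc _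
      have hl := w3_left_eq_of_commute_T s hinj c hcT
      have hr := w3_right_of_commute_E u hu1 c hl (hcenter_comm c hc _)
      rcases hD (c.left 1) with h | h
      · left
        apply Subtype.ext
        show c = 1
        ext q
        · rcases w3_c2_cases q with rfl | rfl
          · exact h
          · rw [← hl]; exact h
        · exact hr
      · right
        apply Subtype.ext
        show c = w3Z u
        ext q
        · rcases w3_c2_cases q with rfl | rfl
          · exact h
          · rw [← hl]; exact h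
        · exact hr
  · -- the commutator of the reflection and `(u, 1; 1)`
    refine ⟨w3T, w3E u, w3_wrSign_T s, ?_, w3_comm_mem_center s hinj _ _⟩
    intro h
    have hcomm : Commute (w3T : D ≀ᵣ C2) (w3E u) := by
      have h1 : w3T * w3E u * (w3T : D ≀ᵣ C2)⁻¹ = w3E u := by
        have := mul_inv_eq_one.mp h
        exact this
      have h2 : w3T * w3E u = w3E u * (w3T : D ≀ᵣ C2) := mul_inv_eq_iff_eq_mul.mp h1
      exact h2
    have h3 : ((w3T : D ≀ᵣ C2) * w3E u).left 1 = (w3E u * w3T).left 1 := by rw [hcomm.eq]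
    simp only [RegularWreathProduct.mul_left, Pi.mul_apply, w3E, w3T, w3_gC2_inv, mul_one,
      if_neg w3_gC2_ne_one, Pi.one_apply] at h3
    exact hu1 h3.symm

end Cfsg.Agent.Helper53.AltSyl
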