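import Mathlib
import Cfsg.Agent.Helper44.AltSylDefs
import Cfsg.Agent.Helper53.AltSylW3

set_option autoImplicit false

/-!
# S2221, piece (W5): the kernel of the character of `C2 ≀ C2` is a four-group, hence decomposable
-/

namespace Cfsg.Agent.Helper53.AltSyl

open Cfsg.Agent.Helper44.AltSyl
open scoped RegularWreathProduct

/-- (W5) the kernel of the character of `C2 ≀ C2` is a four-group -/
theorem decomp_ker_base {D : Type*} [Group D] [Finite D] (s : D →* ℤˣ)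
    (hinj : ∀ w : D, s w = 1 → w = 1) (hodd : ∃ u : D, s u = -1) :
    Decomp ↥(wrSign s).ker := by
  obtain ⟨u, hu⟩ := hodd
  have hu1 : u ≠ 1 := by
    intro h
    rw [h, map_one] at hu
    exact absurd hu (by decide)
  -- the two factors: trivial right part, resp. trivial left part
  let K : Subgroup (D ≀ᵣ C2) := (wrSign s).ker
  let S₁ : Subgroup ↥K :=
    (RegularWreathProduct.rightHom : D ≀ᵣ C2 →* C2).ker.subgroupOf K
  let S₂ : Subgroup ↥K :=
    (RegularWreathProduct.inl : C2 →* D ≀ᵣ C2).range.subgroupOf K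
  have hS₁ : ∀ k : ↥K, k ∈ S₁ ↔ (k : D ≀ᵣ C2).right = 1 := by
    intro k
    show (k : D ≀ᵣ C2) ∈ (RegularWreathProduct.rightHom : D ≀ᵣ C2 →* C2).ker ↔ _
    rw [MonoidHom.mem_ker]
    rfl
  have hS₂ : ∀ k : ↥K, k ∈ S₂ ↔ (k : D ≀ᵣ C2).left = 1 := by
    intro k
    show (k : D ≀ᵣ C2) ∈ (RegularWreathProduct.inl : C2 →* D ≀ᵣ C2).range ↔ _
    rw [MonoidHom.mem_range]
    constructor
    · rintro ⟨q, hq⟩
      rw [← hq]
      rfl
    · intro h
      refine ⟨(k : D ≀ᵣ C2).right, ?_⟩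
      ext q
      · rw [h]; rfl
      · rfl
  have hzK : (w3Z u : D ≀ᵣ C2) ∈ K := MonoidHom.mem_ker.mpr (w3_wrSign_Z s u)
  have htK : (w3T : D ≀ᵣ C2) ∈ K := MonoidHom.mem_ker.mpr (w3_wrSign_T s)
  refine ⟨S₁, S₂, ?_, ?_, ?_, ?_, ?_⟩
  · -- `S₁` contains `(u, u; 1)`
    intro h
    have h1 : (⟨w3Z u, hzK⟩ : ↥K) ∈ S₁ := (hS₁ _).mpr rfl
    rw [h, Subgroup.mem_bot] at h1
    have h2 : (w3Z u : D ≀ᵣ C2) = 1 := congrArg Subtype.val h1
    have h3 : (w3Z u : D ≀ᵣ C2).left 1 = (1 : D ≀ᵣ C2).left 1 := by rw [h2]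
    exact hu1 h3
  · -- `S₂` contains the reflection
    intro h
    have h1 : (⟨w3T, htK⟩ : ↥K) ∈ S₂ := (hS₂ _).mpr rfl
    rw [h, Subgroup.mem_bot] at h1
    have h2 : (w3T : D ≀ᵣ C2) = 1 := congrArg Subtype.val h1
    have h3 : (w3T : D ≀ᵣ C2).right = (1 : D ≀ᵣ C2).right := by rw [h2]
    exact w3_gC2_ne_one h3
  · -- the factors commute
    intro a ha b hb
    have har := (hS₁ a).mp ha
    have hbl := (hS₂ b).mp hb
    have hak : wrSign s (a : D ≀ᵣ C2) = 1 := MonoidHom.mem_ker.mp a.2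
    apply Subtype.ext
    show (a : D ≀ᵣ C2) * (b : D ≀ᵣ C2) = (b : D ≀ᵣ C2) * (a : D ≀ᵣ C2)
    ext q
    · simp only [RegularWreathProduct.mul_left, Pi.mul_apply, hbl, har, Pi.one_apply, mul_one,
        one_mul]
      exact w3_left_const s hinj _ hak _ _
    · simp only [RegularWreathProduct.mul_right, har, one_mul, mul_one]
  · -- trivial intersection
    rw [eq_bot_iff]
    intro k hk
    rw [Subgroup.mem_bot]
    have h1 := (hS₁ k).mp hk.1
    have h2 := (hS₂ k).mp hk.2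
    apply Subtype.ext
    show (k : D ≀ᵣ C2) = 1
    ext q
    · rw [h2]; rfl
    · exact h1
  · -- the factors generate
    rw [eq_top_iff]
    intro k _
    have hk : wrSign s (k : D ≀ᵣ C2) = 1 := MonoidHom.mem_ker.mp k.2
    have h1K : (⟨(k : D ≀ᵣ C2).left, 1⟩ : D ≀ᵣ C2) ∈ K := by
      apply MonoidHom.mem_ker.mpr
      exact hk
    have h2K : (⟨1, (k : D ≀ᵣ C2).right⟩ : D ≀ᵣ C2) ∈ K := by
      apply MonoidHom.mem_ker.mpr
      show s ((1 : C2 → D) 1) * s ((1 : C2 → D) gC2) = 1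
      simp
    have hprod : k = (⟨_, h1K⟩ : ↥K) * (⟨_, h2K⟩ : ↥K) := by
      apply Subtype.ext
      show (k : D ≀ᵣ C2) = (⟨(k : D ≀ᵣ C2).left, 1⟩ : D ≀ᵣ C2) * ⟨1, (k : D ≀ᵣ C2).right⟩
      ext q
      · simp only [RegularWreathProduct.mul_left, Pi.mul_apply, Pi.one_apply, mul_one]
      · simp only [RegularWreathProduct.mul_right, one_mul]
    rw [hprod]
    exact Subgroup.mul_mem_sup ((hS₁ _).mpr rfl) ((hS₂ _).mpr rfl)

end Cfsg.Agent.Helper53.AltSyl
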