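import Mathlib
import Cfsg.Agent.Helper5.SuBN.Defs

set_option autoImplicit false

/-!
# S2546, piece (N1): the reflections of the special unitary group are monomial
-/

namespace Cfsg.Agent.Helper53.SuBNN1

open Matrix Cfsg.Agent.Helper5.SuBN

variable {F : Type*} [Field F] {n : ℕ} {σ : F →+* F}

theorem Sset_subset_Mono (c : F) : Sset n σ c ⊆ (Mono n σ : Set (UG n σ)) := by
  rintro g ⟨k, hg⟩
  rw [SetLike.mem_coe, mem_Mono_iff]
  refine ⟨sPerm k, fun a b hab => ?_⟩
  rw [hg, sMat_apply, if_neg hab]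

end Cfsg.Agent.Helper53.SuBNN1
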