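import Cfsg.Agent.Helper45.PronBL3.Defs

/-!
# helper45 PRON BL3 (block of helper99's S2225/S2226), leaf (B) `exists_eM_of_comm_J0`
-/

set_option autoImplicit false

namespace Cfsg.Agent.Helper53.Pron

open Matrix Cfsg.Agent.Helper99.Pron Cfsg.Agent.Helper45.Pron

variable {F : Type*} [Field F]

/-- (B) -/
theorem exists_eM_of_comm_J0 (X : Matrix (Fin 2) (Fin 2) F) (h : eM 0 1 * X = X * eM 0 1) :
    ∃ u v : F, X = eM u v := by
  refine ⟨X 0 0, X 1 0, ?_⟩
  have h00 := congrFun (congrFun h 0) 0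
  have h01 := congrFun (congrFun h 0) 1
  have h10 := congrFun (congrFun h 1) 0
  have h11 := congrFun (congrFun h 1) 1
  simp [eM, Matrix.mul_apply, Fin.sum_univ_two] at h00 h01 h10 h11
  ext i j
  fin_cases i <;> fin_cases j <;> simp [eM]
  · -- X 0 1 = - X 1 0
    linear_combination (-1 : F) * h00
  · -- X 1 1 = X 0 0
    linear_combination (-1 : F) * h10
end Cfsg.Agent.Helper53.Pron
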