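import Cfsg.Agent.Helper45.PronBL3.Defs

/-!
# helper45 PRON BL3 (block of helper99's S2225/S2226), leaf (C) `eq_zero_of_comm_phiM_mul`
-/

set_option autoImplicit false

namespace Cfsg.Agent.Helper53.Pron

open Matrix Cfsg.Agent.Helper99.Pron Cfsg.Agent.Helper45.Pron

variable {F : Type*} [Field F]

/-- (C) -/
theorem eq_zero_of_comm_phiM_mul (h2 : (2 : F) ≠ 0) (a b x y : F) (hab : a ^ 2 + b ^ 2 ≠ 0)
    (h : (phiM * eM a b) * eM x y = eM x y * (phiM * eM a b)) : y = 0 := by
  have h00 := congrFun (congrFun h 0) 0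
  have h01 := congrFun (congrFun h 0) 1
  simp [eM, phiM, Matrix.mul_apply, Fin.sum_univ_two] at h00 h01
  -- h00 : a * x - b * y = x * a + y * b  (up to form), h01: ...
  by_contra hy
  have hb : b = 0 := by
    have : (2 : F) * y * b = 0 := by linear_combination (-1 : F) * h00
    rcases mul_eq_zero.1 this with h3 | h3
    · rcases mul_eq_zero.1 h3 with h4 | h4
      · exact absurd h4 h2
      · exact absurd h4 hy
    · exact h3
  have ha : a = 0 := by
    have : (2 : F) * y * a = 0 := by linear_combination (-1 : F) * h01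
    rcases mul_eq_zero.1 this with h3 | h3
    · rcases mul_eq_zero.1 h3 with h4 | h4
      · exact absurd h4 h2
      · exact absurd h4 hy
    · exact h3
  apply hab
  rw [ha, hb]; ring

end Cfsg.Agent.Helper53.Pron
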