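import Mathlib
import Cfsg.Agent.Helper99.P4Defs

/-!
# S6000, piece (E4): the relations of the Clifford element `M0 ⊗ 1`
-/

set_option autoImplicit false
open scoped MatrixGroups

namespace Cfsg.Agent.Helper53.P4

open Matrix Polynomial Cfsg.Agent.Helper99.P4 Cfsg.Geo

variable {F : Type*} [Field F]

theorem e4aux_pw_0100 : (pw (0, 1, 0, 0) : Matrix (Fin 4) (Fin 4) F) = mZ1 := by
  simp [pw, z2_v1]

theorem e4aux_pw_1100 : (pw (1, 1, 0, 0) : Matrix (Fin 4) (Fin 4) F) = mX1 * mZ1 := by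
  simp [pw, z2_v1]

theorem e4aux_pw_0010 : (pw (0, 0, 1, 0) : Matrix (Fin 4) (Fin 4) F) = mX2 := by
  simp [pw, z2_v1]

theorem e4aux_pw_0001 : (pw (0, 0, 0, 1) : Matrix (Fin 4) (Fin 4) F) = mZ2 := by
  simp [pw, z2_v1]

theorem e4aux_sq {i : F} (hi : i ^ 2 = -1) :
    M1m i * M1m i = !![1 + i, 0, 1 - i, 0; 0, 1 + i, 0, 1 - i; 1 + i, 0, -1 + i, 0;
      0, 1 + i, 0, -1 + i] := by
  ext a b
  fin_cases a <;> fin_cases b <;>
    simp [M1m, Matrix.mul_apply, Fin.sum_univ_four] <;> grind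

/-- (E4) -/
theorem M1_rel {i : F} (hi : i ^ 2 = -1) :
    (M1m i) ^ 3 = (2 + 2 * i) • (1 : Matrix (Fin 4) (Fin 4) F) ∧
    M1m i * mX1 = pw (0, 1, 0, 0) * M1m i ∧
    M1m i * mZ1 = i • (pw (1, 1, 0, 0) * M1m i) ∧
    M1m i * mX2 = pw (0, 0, 1, 0) * M1m i ∧
    M1m i * mZ2 = pw (0, 0, 0, 1) * M1m i ∧
    Matrix.trace (M1m i) = 2 - 2 * i := by
  refine ⟨?_, ?_, ?_, ?_, ?_, ?_⟩
  · rw [pow_succ, pow_two, e4aux_sq hi]
    ext a b
    fin_cases a <;> fin_cases b <;>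
      simp [M1m, Matrix.mul_apply, Fin.sum_univ_four] <;> grind
  · rw [e4aux_pw_0100]
    ext a b
    fin_cases a <;> fin_cases b <;>
      simp [M1m, mX1, mZ1, Matrix.mul_apply, Fin.sum_univ_four]
  · rw [e4aux_pw_1100]
    ext a b
    fin_cases a <;> fin_cases b <;>
      simp [M1m, mX1, mZ1, Matrix.mul_apply, Fin.sum_univ_four] <;> grind
  · rw [e4aux_pw_0010]
    ext a b
    fin_cases a <;> fin_cases b <;>
      simp [M1m, mX2, Matrix.mul_apply, Fin.sum_univ_four]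
  · rw [e4aux_pw_0001]
    ext a b
    fin_cases a <;> fin_cases b <;>
      simp [M1m, mZ2, Matrix.mul_apply, Fin.sum_univ_four]
  · simp [M1m, Matrix.trace, Fin.sum_univ_four]
    ring

end Cfsg.Agent.Helper53.P4
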