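import Mathlib
import Cfsg.Agent.Helper99.P4Defs

/-!
# S6000, piece (E5): the relations of the Clifford element of order 5 modulo scalars
-/

set_option autoImplicit false
open scoped MatrixGroups

namespace Cfsg.Agent.Helper53.P4

open Matrix Polynomial Cfsg.Agent.Helper99.P4 Cfsg.Geo

variable {F : Type*} [Field F]

theorem e5aux_pw_1110 : (pw (1, 1, 1, 0) : Matrix (Fin 4) (Fin 4) F) = mX1 * mZ1 * mX2 := by
  simp [pw, z2_v1]

theorem e5aux_pw_1000 : (pw (1, 0, 0, 0) : Matrix (Fin 4) (Fin 4) F) = mX1 := by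
  simp [pw, z2_v1]

theorem e5aux_pw_1001 : (pw (1, 0, 0, 1) : Matrix (Fin 4) (Fin 4) F) = mX1 * mZ2 := by
  simp [pw, z2_v1]

theorem e5aux_pw_0010 : (pw (0, 0, 1, 0) : Matrix (Fin 4) (Fin 4) F) = mX2 := by
  simp [pw, z2_v1]

theorem e5aux_sq {i : F} (hi : i ^ 2 = -1) :
    G5m i * G5m i = !![2, 2 * i, 2 * i, -2; 2 * i, 2, 2, -(2 * i); 2, -(2 * i), 2 * i, 2;
      -(2 * i), 2, -2, -(2 * i)] := by
  ext a b
  fin_cases a <;> fin_cases b <;>
    simp [G5m, Matrix.mul_apply, Fin.sum_univ_four] <;> grind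

theorem e5aux_four {i : F} (hi : i ^ 2 = -1) :
    (!![2, 2 * i, 2 * i, -2; 2 * i, 2, 2, -(2 * i); 2, -(2 * i), 2 * i, 2;
      -(2 * i), 2, -2, -(2 * i)] : Matrix (Fin 4) (Fin 4) F) *
      !![2, 2 * i, 2 * i, -2; 2 * i, 2, 2, -(2 * i); 2, -(2 * i), 2 * i, 2;
      -(2 * i), 2, -2, -(2 * i)] =
    !![8 * i, 8 * i, 8 * i, 8 * i; 8 * i, -(8 * i), 8 * i, -(8 * i); 8, 8, -8, -8;
      -8, 8, 8, -8] := by
  ext a b
  fin_cases a <;> fin_cases b <;>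
    simp [Matrix.mul_apply, Fin.sum_univ_four] <;> grind

theorem e5aux_five {i : F} (hi : i ^ 2 = -1) :
    (!![8 * i, 8 * i, 8 * i, 8 * i; 8 * i, -(8 * i), 8 * i, -(8 * i); 8, 8, -8, -8;
      -8, 8, 8, -8] : Matrix (Fin 4) (Fin 4) F) * G5m i =
    (32 * i) • (1 : Matrix (Fin 4) (Fin 4) F) := by
  ext a b
  fin_cases a <;> fin_cases b <;>
    simp [G5m, Matrix.mul_apply, Fin.sum_univ_four] <;> grind

/-- (E5) -/
theorem G5_rel {i : F} (hi : i ^ 2 = -1) :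
    (G5m i) ^ 5 = (32 * i) • (1 : Matrix (Fin 4) (Fin 4) F) ∧
    G5m i * mX1 = i ^ 3 • (pw (1, 1, 1, 0) * G5m i) ∧
    G5m i * mZ1 = pw (1, 0, 0, 0) * G5m i ∧
    G5m i * mX2 = pw (1, 0, 0, 1) * G5m i ∧
    G5m i * mZ2 = pw (0, 0, 1, 0) * G5m i ∧
    Matrix.trace (G5m i) = -2 * i := by
  refine ⟨?_, ?_, ?_, ?_, ?_, ?_⟩
  · have h5 : (G5m i) ^ 5 = (G5m i * G5m i) * (G5m i * G5m i) * G5m i := by
      simp only [pow_succ, pow_zero, one_mul, Matrix.mul_assoc]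
    rw [h5, e5aux_sq hi, e5aux_four hi, e5aux_five hi]
  · rw [e5aux_pw_1110]
    ext a b
    fin_cases a <;> fin_cases b <;>
      simp [G5m, mX1, mZ1, mX2, Matrix.mul_apply, Fin.sum_univ_four] <;> grind
  · rw [e5aux_pw_1000]
    ext a b
    fin_cases a <;> fin_cases b <;>
      simp [G5m, mX1, mZ1, Matrix.mul_apply, Fin.sum_univ_four]
  · rw [e5aux_pw_1001]
    ext a b
    fin_cases a <;> fin_cases b <;>
      simp [G5m, mX1, mX2, mZ2, Matrix.mul_apply, Fin.sum_univ_four]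
  · rw [e5aux_pw_0010]
    ext a b
    fin_cases a <;> fin_cases b <;>
      simp [G5m, mX2, mZ2, Matrix.mul_apply, Fin.sum_univ_four]
  · simp [G5m, Matrix.trace, Fin.sum_univ_four]
    ring

end Cfsg.Agent.Helper53.P4
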