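import Mathlib
import Cfsg.Agent.S0143
import Cfsg.Agent.Lib.Hall

set_option autoImplicit false

namespace Cfsg.Agent.Helper53

open scoped Pointwise

universe u

/-- The group has an abelian subgroup of odd order and `2`-power index (an abelian Hall
`2'`-subgroup). -/
def HasAbOddHall (G : Type*) [Group G] : Prop :=
  ∃ C : Subgroup G, IsMulCommutative ↥C ∧ Odd (Nat.card ↥C) ∧ ∃ a : ℕ, C.index = 2 ^ a

/-- For a normal subgroup `N`, the index of `C ⊓ N` in `N` divides the index of `C`. -/
theorem relIndex_dvd_index_of_normal_right {G : Type*} [Group G] [Finite G] (C N : Subgroup G)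
    [N.Normal] : C.relIndex N ∣ C.index := by
  have h1 : Nat.card ↥N = Nat.card ↥(C ⊓ N) * C.relIndex N := by
    rw [← Subgroup.inf_relIndex_right, Subgroup.relIndex,
      ← Subgroup.card_mul_index ((C ⊓ N).subgroupOf N)]
    congr 1
    exact (Nat.card_congr (Subgroup.subgroupOfEquivOfLe (inf_le_right : C ⊓ N ≤ N)).toEquiv)
  have h2 : Nat.card ↥C = Nat.card ↥(C ⊓ N) * N.relIndex C := by
    rw [← Subgroup.inf_relIndex_left, Subgroup.relIndex,
      ← Subgroup.card_mul_index ((C ⊓ N).subgroupOf C)]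
    congr 1
    exact (Nat.card_congr (Subgroup.subgroupOfEquivOfLe (inf_le_left : C ⊓ N ≤ C)).toEquiv)
  obtain ⟨t, ht⟩ : N.relIndex C ∣ N.index := Subgroup.relIndex_dvd_index_of_normal N C
  have h3 := Subgroup.card_mul_index N
  have h4 := Subgroup.card_mul_index C
  have hpos : 0 < Nat.card ↥(C ⊓ N) := Nat.card_pos
  have hpos2 : 0 < N.relIndex C := by
    rcases Nat.eq_zero_or_pos (N.relIndex C) with h | h
    · rw [h, mul_zero] at h2
      have : 0 < Nat.card ↥C := Nat.card_pos
      omega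
    · exact h
  have key : C.relIndex N * t = C.index := by
    have e : Nat.card ↥(C ⊓ N) * N.relIndex C * (C.relIndex N * t) =
        Nat.card ↥(C ⊓ N) * N.relIndex C * C.index := by
      calc Nat.card ↥(C ⊓ N) * N.relIndex C * (C.relIndex N * t)
          = (Nat.card ↥(C ⊓ N) * C.relIndex N) * (N.relIndex C * t) := by ring
        _ = Nat.card G := by rw [← h1, ← ht, h3]
        _ = Nat.card ↥(C ⊓ N) * N.relIndex C * C.index := by rw [← h2, h4]
    exact Nat.eq_of_mul_eq_mul_left (Nat.mul_pos hpos hpos2) e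
  exact ⟨t, key.symm⟩

theorem HasAbOddHall.normal {G : Type*} [Group G] [Finite G] (h : HasAbOddHall G)
    (N : Subgroup G) [N.Normal] : HasAbOddHall ↥N := by
  obtain ⟨C, hC, hodd, a, ha⟩ := h
  refine ⟨C.subgroupOf N, ?_, ?_, ?_⟩
  · apply IsMulCommutative.of_comm
    intro x y
    apply Subtype.ext
    apply Subtype.ext
    have := mul_comm' (⟨(x : ↥N), x.2⟩ : ↥C) ⟨(y : ↥N), y.2⟩
    exact congrArg (fun z : ↥C => (z : G)) this
  · have h1 : Nat.card ↥(C.subgroupOf N) ∣ Nat.card ↥C := by
      have : Nat.card ↥(C.subgroupOf N) = Nat.card ↥(C ⊓ N) := by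
        rw [← Subgroup.inf_subgroupOf_right]
        exact Nat.card_congr (Subgroup.subgroupOfEquivOfLe (inf_le_right : C ⊓ N ≤ N)).toEquiv
      rw [this]
      exact Subgroup.card_dvd_of_le inf_le_left
    exact Odd.of_dvd_nat hodd h1
  · have h1 : (C.subgroupOf N).index ∣ 2 ^ a := by
      rw [← ha]; exact relIndex_dvd_index_of_normal_right C N
    obtain ⟨j, -, hj⟩ := (Nat.dvd_prime_pow Nat.prime_two).mp h1
    exact ⟨j, hj⟩

theorem HasAbOddHall.quotient {G : Type*} [Group G] [Finite G] (h : HasAbOddHall G)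
    (N : Subgroup G) [N.Normal] : HasAbOddHall (G ⧸ N) := by
  obtain ⟨C, hC, hodd, a, ha⟩ := h
  refine ⟨C.map (QuotientGroup.mk' N), ?_, ?_, ?_⟩
  · apply IsMulCommutative.of_comm
    rintro ⟨x, x', hx', rfl⟩ ⟨y, y', hy', rfl⟩
    apply Subtype.ext
    show QuotientGroup.mk' N x' * QuotientGroup.mk' N y' =
      QuotientGroup.mk' N y' * QuotientGroup.mk' N x'
    have := mul_comm' (⟨x', hx'⟩ : ↥C) ⟨y', hy'⟩
    have h2 : x' * y' = y' * x' := congrArg (fun z : ↥C => (z : G)) this
    rw [← map_mul, ← map_mul, h2]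
  · exact Odd.of_dvd_nat hodd (Subgroup.card_map_dvd C _)
  · have h1 : (C.map (QuotientGroup.mk' N)).index ∣ 2 ^ a := by
      rw [← ha]; exact Subgroup.index_map_dvd C (QuotientGroup.mk'_surjective N)
    obtain ⟨j, -, hj⟩ := (Nat.dvd_prime_pow Nat.prime_two).mp h1
    exact ⟨j, hj⟩

/-- A group with an abelian Hall `2'`-subgroup is solvable. -/
theorem HasAbOddHall.isSolvable_aux : ∀ (n : ℕ) (G : Type u) [Group G] [Finite G],
    Nat.card G = n → HasAbOddHall G → Group.IsSolvable G := by
  intro n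
  induction n using Nat.strong_induction_on with
  | _ n ih =>
    intro G _ _ hn h
    rcases subsingleton_or_nontrivial G with hsub | hnt
    · infer_instance
    by_cases hs : IsSimpleGroup G
    · obtain ⟨C, hC, hodd, a, ha⟩ := h
      by_cases hCb : C = ⊥
      · have hcard : Nat.card G = 2 ^ a := by
          rw [← Subgroup.card_mul_index C, hCb, Subgroup.card_bot, one_mul, ← ha, hCb]
        have : Fact (Nat.Prime 2) := ⟨Nat.prime_two⟩
        have hp : IsPGroup 2 G := IsPGroup.of_card hcard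
        have := hp.isNilpotent
        infer_instance
      · obtain ⟨c', hc'⟩ := (Subgroup.ne_bot_iff_exists_ne_one).mp hCb
        obtain ⟨c, hcC, hc1⟩ : ∃ c : G, c ∈ C ∧ c ≠ 1 :=
          ⟨(c' : G), c'.2, fun h0 => hc' (Subtype.ext h0)⟩
        have hle : C ≤ Subgroup.centralizer ({c} : Set G) := by
          intro x hx
          rw [Subgroup.mem_centralizer_singleton_iff]
          have := mul_comm' (⟨x, hx⟩ : ↥C) ⟨c, hcC⟩
          exact congrArg (fun z : ↥C => (z : G)) this
        have h1 : (Subgroup.centralizer ({c} : Set G)).index ∣ 2 ^ a := by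
          rw [← ha]; exact Subgroup.index_dvd_of_le hle
        obtain ⟨j, -, hj⟩ := (Nat.dvd_prime_pow Nat.prime_two).mp h1
        have hprime : (Nat.card G).Prime := Cfsg.Agent.S0143.result 2 j Nat.prime_two c hc1 hj
        have : Fact (Nat.card G).Prime := ⟨hprime⟩
        have hcyc : IsCyclic G := isCyclic_of_prime_card rfl
        have hcm : IsMulCommutative G := IsCyclic.isMulCommutative
        exact Group.isSolvable_of_comm (fun x y => mul_comm' x y)
    · -- a proper nontrivial normal subgroup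
      obtain ⟨N, hNn, hNb, hNt⟩ : ∃ N : Subgroup G, N.Normal ∧ N ≠ ⊥ ∧ N ≠ ⊤ := by
        by_contra hne
        apply hs
        refine ⟨fun N hN => ?_⟩
        by_contra hcon
        exact hne ⟨N, hN, fun hb => hcon (Or.inl hb), fun ht => hcon (Or.inr ht)⟩
      have hN1 : 1 < Nat.card ↥N := by
        rw [Ne, ← Subgroup.card_eq_one] at hNb
        have : 0 < Nat.card ↥N := Nat.card_pos
        omega
      have hNlt : Nat.card ↥N < n := by
        rw [← hn]
        rcases lt_or_eq_of_le (Subgroup.card_le_card_group N) with hlt | heq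
        · exact hlt
        · exact absurd (Subgroup.card_eq_iff_eq_top N |>.mp heq) hNt
      have hQlt : Nat.card (G ⧸ N) < n := by
        rw [← hn, ← Subgroup.card_mul_index N, ← Subgroup.index_eq_card]
        have : 0 < N.index := Nat.pos_of_ne_zero Subgroup.index_ne_zero_of_finite
        nlinarith
      have h1 : Group.IsSolvable ↥N := ih _ hNlt ↥N rfl (h.normal N)
      have h2 : Group.IsSolvable (G ⧸ N) := ih _ hQlt (G ⧸ N) rfl (h.quotient N)
      exact Group.isSolvable_of_ker_le_range N.subtype (QuotientGroup.mk' N) (by simp)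

theorem HasAbOddHall.isSolvable {G : Type u} [Group G] [Finite G] (h : HasAbOddHall G) :
    Group.IsSolvable G :=
  HasAbOddHall.isSolvable_aux _ G rfl h

/-- An odd-order subgroup of `2`-power index is a complement to every Sylow `2`-subgroup. -/
theorem isComplement'_sylow_two_of_odd {G : Type*} [Group G] [Finite G] (D : Subgroup G)
    (hodd : Odd (Nat.card ↥D)) (j : ℕ) (hj : D.index = 2 ^ j) (P : Sylow 2 G) :
    Subgroup.IsComplement' (P : Subgroup G) D := by
  have : Fact (Nat.Prime 2) := ⟨Nat.prime_two⟩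
  have hG : Nat.card G = Nat.card ↥D * 2 ^ j := by rw [← hj, Subgroup.card_mul_index]
  have hnd : ¬ 2 ∣ Nat.card ↥D := by
    rw [← even_iff_two_dvd, Nat.not_even_iff_odd]; exact hodd
  have hPcard : Nat.card ↥(P : Subgroup G) = 2 ^ j := by
    rw [P.card_eq_multiplicity, hG,
      Nat.factorization_mul (Nat.card_pos.ne') (pow_ne_zero _ (by norm_num))]
    simp only [Finsupp.coe_add, Pi.add_apply]
    rw [Nat.factorization_eq_zero_of_not_dvd hnd, Nat.prime_two.factorization_pow]
    simp
  apply Subgroup.isComplement'_of_coprime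
  · rw [hPcard, hG, mul_comm]
  · rw [hPcard]
    apply Nat.Coprime.pow_left
    rw [Nat.coprime_comm, Nat.coprime_two_right]  
    exact hodd

theorem HasAbOddHall.of_isComplement' {G : Type*} [Group G] [Finite G] (S : Sylow 2 G)
    (C : Subgroup G) (hC : IsMulCommutative ↥C)
    (hSC : Subgroup.IsComplement' (S : Subgroup G) C) : HasAbOddHall G := by
  have : Fact (Nat.Prime 2) := ⟨Nat.prime_two⟩
  refine ⟨C, hC, ?_, ?_⟩
  · rw [← Nat.not_even_iff_odd, even_iff_two_dvd, ← hSC.symm.index_eq_card]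
    exact S.not_dvd_index
  · obtain ⟨a, ha⟩ := S.2.exists_card_eq
    exact ⟨a, by rw [hSC.index_eq_card, ha]⟩

/-- In a group with an abelian Hall `2'`-subgroup every subgroup has one. -/
theorem HasAbOddHall.subgroup {G : Type u} [Group G] [Finite G] (h : HasAbOddHall G)
    (L : Subgroup G) : HasAbOddHall ↥L := by
  have hsol : Group.IsSolvable G := h.isSolvable
  obtain ⟨C, hC, hodd, a, ha⟩ := h
  have hcardL : Nat.card ↥L ≠ 0 := Nat.card_pos.ne'
  set m := ordCompl[2] (Nat.card ↥L) with hm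
  set k := (Nat.card ↥L).factorization 2 with hk
  have hLmk : Nat.card ↥L = m * 2 ^ k := by
    rw [mul_comm]; exact (Nat.ordProj_mul_ordCompl_eq_self (Nat.card ↥L) 2).symm
  have hcop : m.Coprime (2 ^ k) := by
    apply Nat.Coprime.pow_right
    exact (Nat.coprime_ordCompl Nat.prime_two hcardL).symm
  have hmodd : Odd m := by
    rw [← Nat.coprime_two_right]
    exact (Nat.coprime_ordCompl Nat.prime_two hcardL).symm
  obtain ⟨D, hD⟩ := Cfsg.Agent.Lib.hall_exists (G := ↥L) m (2 ^ k) hLmk hcop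
  have hDidx : D.index = 2 ^ k := by
    have h1 := Subgroup.card_mul_index D
    rw [hD, hLmk] at h1
    have hmpos : 0 < m := Nat.pos_of_ne_zero (fun h0 => by rw [h0] at hmodd; exact (by decide : ¬ Odd 0) hmodd)
    exact Nat.eq_of_mul_eq_mul_left hmpos h1
  refine ⟨D, ?_, hD ▸ hmodd, k, hDidx⟩
  -- `D` is abelian, being conjugate into `C`
  have hG : Nat.card G = Nat.card ↥C * 2 ^ a := by rw [← ha, Subgroup.card_mul_index]
  have hcopC : (Nat.card ↥C).Coprime (2 ^ a) := by
    apply Nat.Coprime.pow_right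
    rw [Nat.coprime_two_right]; exact hodd
  have hcardD' : Nat.card ↥(D.map L.subtype) = m := by
    rw [Subgroup.card_map_of_injective L.subtype_injective, hD]
  obtain ⟨g, hg⟩ := (Cfsg.Agent.Lib.hall_main _ G rfl (Nat.card ↥C) (2 ^ a) hG hcopC).2 C
    (D.map L.subtype) rfl (by
      rw [hcardD']
      apply Nat.Coprime.pow_right
      rw [Nat.coprime_two_right]; exact hmodd)
  apply IsMulCommutative.of_comm
  intro x y
  have hx : ((x : ↥L) : G) ∈ MulAut.conj g • C := hg ⟨(x : ↥L), x.2, rfl⟩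
  have hy : ((y : ↥L) : G) ∈ MulAut.conj g • C := hg ⟨(y : ↥L), y.2, rfl⟩
  rw [Subgroup.mem_pointwise_smul_iff_inv_smul_mem] at hx hy
  have hc := mul_comm' (⟨_, hx⟩ : ↥C) ⟨_, hy⟩
  have hc2 : ((MulAut.conj g)⁻¹ • ((x : ↥L) : G)) * ((MulAut.conj g)⁻¹ • ((y : ↥L) : G)) =
      ((MulAut.conj g)⁻¹ • ((y : ↥L) : G)) * ((MulAut.conj g)⁻¹ • ((x : ↥L) : G)) :=
    congrArg (fun z : ↥C => (z : G)) hc
  rw [← smul_mul', ← smul_mul'] at hc2
  have hc3 : ((x : ↥L) : G) * ((y : ↥L) : G) = ((y : ↥L) : G) * ((x : ↥L) : G) :=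
    smul_left_cancel _ hc2
  apply Subtype.ext
  apply Subtype.ext
  exact hc3

end Cfsg.Agent.Helper53
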