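import Mathlib
import Cfsg.Agent.Helper35.Asch.Setup
import Cfsg.Agent.Helper53.AschS5

set_option autoImplicit false

/-!
# S3401, piece (S5), stated about the structure `Cfsg.Agent.Helper35.Asch.Setup`
-/

namespace Cfsg.Agent.Helper53.Asch

open MulAction Cfsg.Agent.Helper35.Asch

variable {G : Type*} [Group G] [Finite G] {Ω : Type*} [Fintype Ω] [MulAction G Ω]

/-- (S5) `t` fixes no fixed point `γ` of `Q` (else `S = Q ∪ tQ ≤ N_γ`, too big),
given that `Q` is Sylow in `N_γ`. -/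
theorem t_smul_ne_of (D : Setup G Ω) {γ : Ω} (hγ : γ ∈ fix D.Q Ω)
    (h6 : ¬ 2 ∣ D.Q.relIndex (stabIn D.N γ)) : D.t • γ ≠ γ :=
  t_smul_ne_of_fields D.hQS D.hSN D.hcard D.htS D.htQ hγ h6

end Cfsg.Agent.Helper53.Asch
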