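import Mathlib
import Cfsg.Prelude.Def_OddOrderLocal
import Cfsg.Agent.Helper67.CyclicSub
import Cfsg.Agent.Helper71.ShultNil
import Cfsg.Agent.Helper1.FpfThompson

/-!
# B-G section 14, CASE A of Theorem 14.2: pure group theory used by the assembly (helper53)
-/

set_option autoImplicit false
set_option linter.unusedVariables false
set_option linter.unusedSectionVars false
set_option linter.style.haveILetI false

namespace Cfsg.Agent.Helper53.BG14A

open Subgroup
open scoped commutatorElement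

variable {G : Type*} [Group G]

/-- a subgroup of prime order `p` of `M` with `p ∤ |M'|` is centralized by its normalizer in
`M` -/
theorem mem_centralizer_of_mem_normalizer_of_not_dvd [Finite G] {M X : Subgroup G} {p : ℕ}
    (hp : p.Prime) (hXM : X ≤ M) (hXc : Nat.card X = p) (hpd : ¬ p ∣ Nat.card ↥⁅M, M⁆)
    {m : G} (hm : m ∈ M) (hmN : m ∈ normalizer (X : Set G)) :
    m ∈ centralizer (X : Set G) := by
  have hdisj : X ⊓ ⁅M, M⁆ = ⊥ := by
    apply (Subgroup.disjoint_of_coprime_natCard _).eq_bot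
    rw [hXc]; exact (Nat.Prime.coprime_iff_not_dvd hp).2 hpd
  rw [mem_centralizer_iff]
  intro x hx
  have h1 : m * x * m⁻¹ ∈ X := (mem_normalizer_iff.1 hmN x).1 hx
  have h2 : m * x * m⁻¹ * x⁻¹ ∈ X ⊓ ⁅M, M⁆ := by
    refine ⟨X.mul_mem h1 (X.inv_mem hx), ?_⟩
    have e : m * x * m⁻¹ * x⁻¹ = ⁅m, x⁆ := by rw [commutatorElement_def]
    rw [e]
    exact Subgroup.commutator_mem_commutator hm (hXM hx)
  rw [hdisj, mem_bot, mul_inv_eq_one] at h2
  calc x * m = m * x * m⁻¹ * m := by rw [h2]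
    _ = m * x := by group

/-- an element of `M = E S` (`S` normal in `M`, `E ∩ S = 1`) centralizing `X ≤ E` is a product of
an element of `C_E(X)` and an element of `C_S(X)` -/
theorem exists_mul_of_mem_centralizer_of_isComplIn {E S M X : Subgroup G}
    (hE : Cfsg.IsComplIn E S M) (hSn : M ≤ normalizer (S : Set G)) (hXE : X ≤ E)
    {m : G} (hm : m ∈ M) (hmC : m ∈ centralizer (X : Set G)) :
    ∃ e ∈ E ⊓ centralizer (X : Set G), ∃ s ∈ S ⊓ centralizer (X : Set G), m = e * s := by
  obtain ⟨hEM, hSM, hES, hprod⟩ := hE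
  obtain ⟨e, he, s, hs, rfl⟩ := hprod m hm
  have key : ∀ x ∈ X, s * x = x * s := by
    intro x hx
    have hxE : x ∈ E := hXE hx
    have hxm : x * (e * s) = e * s * x := mem_centralizer_iff.1 hmC x hx
    have hc1 : s * x * s⁻¹ * x⁻¹ ∈ S := by
      have h1 : x * s⁻¹ * x⁻¹ ∈ S :=
        (mem_normalizer_iff.1 (hSn (hEM hxE)) s⁻¹).1 (S.inv_mem hs)
      have e1 : s * x * s⁻¹ * x⁻¹ = s * (x * s⁻¹ * x⁻¹) := by group
      rw [e1]; exact S.mul_mem hs h1
    have hc2 : s * x * s⁻¹ = e⁻¹ * x * e := by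
      calc s * x * s⁻¹ = e⁻¹ * (e * s * x) * s⁻¹ := by group
        _ = e⁻¹ * (x * (e * s)) * s⁻¹ := by rw [hxm]
        _ = e⁻¹ * x * e := by group
    have hc3 : s * x * s⁻¹ * x⁻¹ ∈ E := by
      rw [hc2]
      exact E.mul_mem (E.mul_mem (E.mul_mem (E.inv_mem he) hxE) he) (E.inv_mem hxE)
    have hc : s * x * s⁻¹ * x⁻¹ ∈ E ⊓ S := ⟨hc3, hc1⟩
    rw [hES, mem_bot, mul_inv_eq_one] at hc
    calc s * x = s * x * s⁻¹ * s := by group
      _ = x * s := by rw [hc]
  have hsC : s ∈ centralizer (X : Set G) := by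
    rw [mem_centralizer_iff]; intro x hx; exact (key x hx).symm
  have heC : e ∈ centralizer (X : Set G) := by
    have e1 : e = (e * s) * s⁻¹ := by group
    rw [e1]
    exact (centralizer _).mul_mem hmC ((centralizer _).inv_mem hsC)
  exact ⟨e, ⟨he, heC⟩, s, ⟨hs, hsC⟩, rfl⟩

/-- a `π`-subgroup of `M` containing a Hall `π`-subgroup of `M` equals it -/
theorem eq_of_isPiHallOf_of_le [Finite G] {π : Set ℕ} {K M C : Subgroup G}
    (hK : Cfsg.IsPiHallOf π K M) (hKC : K ≤ C) (hCM : C ≤ M)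
    (hC : ∀ q : ℕ, q.Prime → q ∣ Nat.card C → q ∈ π) : C = K := by
  apply le_antisymm _ hKC
  rw [← Subgroup.relIndex_eq_one]
  by_contra hne
  obtain ⟨q, hq, hqd⟩ := Nat.exists_prime_and_dvd hne
  have h1 : q ∣ Nat.card C := hqd.trans (Subgroup.relIndex_dvd_card K C)
  have h2 : K.relIndex C ∣ K.relIndex M :=
    Dvd.intro _ (Subgroup.relIndex_mul_relIndex K C M hKC hCM)
  exact hK.2.2 q hq (hC q hq h1) (hqd.trans h2)

/-- in a cyclic `p`-group, the subgroup of order `p` lies in every nontrivial subgroup -/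
theorem le_of_card_prime_of_isCyclic [Finite G] {p : ℕ} [hp : Fact p.Prime] {P X Z : Subgroup G}
    [IsCyclic P] (hP : IsPGroup p P) (hXP : X ≤ P) (hXc : Nat.card X = p) (hZP : Z ≤ P)
    (hZ1 : Z ≠ ⊥) : X ≤ Z := by
  have hZp : IsPGroup p Z := hP.to_le hZP
  have hd : p ∣ Nat.card Z := by
    rcases hZp.card_eq_or_dvd with h | h
    · exact absurd (Subgroup.card_eq_one.1 h) hZ1
    · exact h
  obtain ⟨z, hz⟩ := exists_prime_orderOf_dvd_card' (G := ↥Z) p hd
  have h1 : zpowers (z : G) ≤ Z := by rw [zpowers_le]; exact z.2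
  have h2 : Nat.card (zpowers (z : G)) = p := by
    rw [Nat.card_zpowers, Subgroup.orderOf_coe, hz]
  have h3 : X = zpowers (z : G) :=
    Cfsg.Agent.Helper67.eq_of_card_eq_of_le_cyclic P X _ hXP (h1.trans hZP) (by rw [hXc, h2])
  rw [h3]; exact h1

/-- a subgroup of a cyclic subgroup is cyclic -/
theorem isCyclic_of_le {K E₁ : Subgroup G} (h : K ≤ E₁) (hc : IsCyclic E₁) : IsCyclic K := by
  haveI := hc
  haveI : IsCyclic (K.subgroupOf E₁) := Subgroup.isCyclic _
  exact isCyclic_of_surjective (Subgroup.subgroupOfEquivOfLe h).toMonoidHom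
    (Subgroup.subgroupOfEquivOfLe h).surjective

/-- elements of a cyclic subgroup commute -/
theorem comm_of_isCyclic {K : Subgroup G} (hK : IsCyclic K) :
    ∀ a ∈ K, ∀ b ∈ K, a * b = b * a := by
  intro a ha b hb
  haveI := hK
  have h := (IsCyclic.isMulCommutative (α := K)).is_comm.comm ⟨a, ha⟩ ⟨b, hb⟩
  exact congrArg Subtype.val h

/-- `C({y}) ≤ C(⟨y⟩)` -/
theorem centralizer_singleton_le_centralizer_zpowers (y : G) :
    centralizer ({y} : Set G) ≤ centralizer ((zpowers y : Subgroup G) : Set G) := by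
  intro g hg
  rw [mem_centralizer_iff] at hg ⊢
  intro z hz
  obtain ⟨k, rfl⟩ := mem_zpowers_iff.1 hz
  have h1 : Commute y g := hg y (Set.mem_singleton y)
  exact (h1.zpow_left k)

/-- `C(X) ≤ C({x})` for `x ∈ X` -/
theorem centralizer_le_centralizer_singleton {X : Subgroup G} {x : G} (hx : x ∈ X) :
    centralizer (X : Set G) ≤ centralizer ({x} : Set G) :=
  Subgroup.centralizer_le (Set.singleton_subset_iff.2 hx)

/-- a nontrivial element has a power of prime order -/
theorem exists_pow_prime_order [Finite G] {y : G} (hy : y ≠ 1) :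
    ∃ (q : ℕ) (n : ℕ), q.Prime ∧ orderOf (y ^ n) = q := by
  have h1 : orderOf y ≠ 1 := fun h => hy (orderOf_eq_one_iff.1 h)
  obtain ⟨q, hq, hqd⟩ := Nat.exists_prime_and_dvd h1
  refine ⟨q, orderOf y / q, hq, ?_⟩
  have hpos : 0 < orderOf y := orderOf_pos y
  rw [orderOf_pow' y (by
    intro h
    have := Nat.div_eq_zero_iff.1 h
    rcases this with h0 | hlt
    · exact hq.ne_zero h0
    · exact absurd (Nat.le_of_dvd hpos hqd) (not_le.2 hlt)),
    Nat.gcd_eq_right (Nat.div_dvd_of_dvd hqd), Nat.div_div_self hqd hpos.ne']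

/-- conjugation by an element of order dividing `p` normalizing `U` and acting fixed point freely
makes `U` nilpotent (Thompson) -/
theorem isNilpotent_of_fpf_conj [Finite G] {U : Subgroup G} {x : G} {p : ℕ} (hp : p.Prime)
    (hxp : x ^ p = 1) (hxU : x ∈ normalizer (U : Set G))
    (hfpf : U ⊓ centralizer ({x} : Set G) = ⊥) : Group.IsNilpotent ↥U := by
  set φ := Cfsg.Agent.Helper71.ShultNil.conjEquiv U x hxU with hφ
  have hpow : ∀ n : ℕ, ∀ u : ↥U, (((φ ^ n) u : ↥U) : G) = x ^ n * u * (x ^ n)⁻¹ := by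
    intro n
    induction n with
    | zero => intro u; simp
    | succ n ih =>
      intro u
      rw [pow_succ', MulAut.mul_apply, hφ, Cfsg.Agent.Helper71.ShultNil.conjEquiv_coe, ← hφ, ih u,
        pow_succ']
      group
  apply Cfsg.Agent.Helper1.fpf_prime_nilpotent hp φ
  · intro u hu
    have h1 : x * (u : G) * x⁻¹ = u := by
      have := congrArg Subtype.val hu
      simpa [hφ, Cfsg.Agent.Helper71.ShultNil.conjEquiv_coe] using this
    have h2 : (u : G) ∈ U ⊓ centralizer ({x} : Set G) := by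
      refine Subgroup.mem_inf.2 ⟨u.2, ?_⟩
      rw [mem_centralizer_iff]
      intro y hy
      rw [Set.mem_singleton_iff.1 hy]
      calc x * (u : G) = x * u * x⁻¹ * x := by group
        _ = u * x := by rw [h1]
    rw [hfpf, mem_bot] at h2
    exact Subtype.ext h2
  · ext u
    rw [hpow p u, hxp]
    simp

end Cfsg.Agent.Helper53.BG14A
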