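import Cfsg.Agent.Helper53.BG14A1
import Cfsg.Agent.Helper54.BG14K1
import Cfsg.Agent.Helper48.BG142B
import Cfsg.Agent.S1404
import Cfsg.Agent.S1420
import Cfsg.Agent.S1425
import Cfsg.Agent.S1427
import Cfsg.Agent.S1428

/-!
# B-G Theorem 14.2 (S1430/S1431), CASE A of helper70's reduction (board #3506/#3585), piece [P9]

CASE A for a maximal subgroup `M`: no subgroup of prime order of a Hall `τ₃(M)`-subgroup of a
complement of `M_σ` centralizes a nonidentity element of `M_σ`.  Then `κ(M) ⊆ τ₁(M)` and a Hall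
`κ(M)`-subgroup `K` is cyclic.  Inputs (statement shaped): `StepI G` (B-G 13.6), `K1 G`,
`N3Z4 G` (part (Z4) of Theorem N3, used for another maximal subgroup) and `T6 G`.
-/

set_option autoImplicit false
set_option linter.unusedVariables false
set_option linter.unusedSectionVars false
set_option linter.style.haveILetI false

namespace Cfsg.Agent.Helper53.BG14A

open Cfsg Cfsg.Agent.Helper29 Cfsg.Agent.Helper29.BG10
open Cfsg.Agent.Helper54.BG14K1
open scoped commutatorElement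

variable {G : Type*} [Group G] [Finite G]

/-- CASE A for `M` -/
def CaseA (M : Subgroup G) : Prop :=
  ∀ E E3 Y0 : Subgroup G, Cfsg.IsComplIn E (Cfsg.sigmaCore M) M →
    Cfsg.IsPiHallOf (Cfsg.tau3 M) E3 E → Y0 ≤ E3 → (Nat.card Y0).Prime →
      Cfsg.sigmaCore M ⊓ Subgroup.centralizer (Y0 : Set G) = ⊥

/-- part (Z4) (second half) of helper70's Theorem N3 -/
def N3Z4 (G : Type*) [Group G] : Prop :=
  ∀ (H EH : Subgroup G), IsCoatom H → Cfsg.IsComplIn EH (Cfsg.sigmaCore H) H →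
    ∀ E3 : Subgroup G, Cfsg.IsPiHallOf (Cfsg.tau3 H) E3 EH → ∀ R : Subgroup G, R ≤ E3 →
      (Nat.card R).Prime → Cfsg.sigmaCore H ⊓ Subgroup.centralizer (R : Set G) ≠ ⊥ →
        ∀ Ms : Subgroup G, IsCoatom Ms → Subgroup.normalizer (R : Set G) ≤ Ms →
          R ≤ Cfsg.sigmaCore Ms

/-- (T6) of #3506, statement shaped (helper70's form #3620 plus the non-containment) -/
def T6 (G : Type*) [Group G] : Prop :=
  ∀ (M E : Subgroup G), IsCoatom M → Cfsg.IsComplIn E (Cfsg.sigmaCore M) M →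
    ∀ p : ℕ, p ∈ Cfsg.tau1 M → ∀ P : Subgroup G, P ≤ E → Nat.card P = p →
      ∀ q : ℕ, q.Prime →
        q ∣ Nat.card ↥(Cfsg.sigmaCore M ⊓ Subgroup.centralizer (P : Set G)) →
        ∀ Q : Sylow q ↥(Cfsg.sigmaCore M),
          Cfsg.InUniqueMaximal
            ((Q : Subgroup ↥(Cfsg.sigmaCore M)).map (Cfsg.sigmaCore M).subtype) ∧
          ¬ (Q : Subgroup ↥(Cfsg.sigmaCore M)).map (Cfsg.sigmaCore M).subtype ≤
            Cfsg.sigmaCore M ⊓ Subgroup.centralizer (P : Set G)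

theorem uniq (hG : Cfsg.IsMinSimpleOddOrder G) : UniquenessThm G :=
  fun K hK hK2 hK3 => Cfsg.Agent.S1403.result hG K hK hK2 hK3

/-- a subgroup of order `p ∈ κ(M)` of `M` centralizes a nonidentity element of `M_σ` -/
theorem cent_ne_bot_of_mem_kappa {M X : Subgroup G} {p : ℕ} (hp : p ∈ Cfsg.kappa M)
    (hXM : X ≤ M) (hXc : Nat.card X = p) :
    Cfsg.sigmaCore M ⊓ Subgroup.centralizer (X : Set G) ≠ ⊥ := by
  classical
  obtain ⟨hpp, hpM, hpσ, hsyl⟩ := hp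
  haveI : Fact p.Prime := ⟨hpp⟩
  have hXp : IsPGroup p X := isPGroup_of_card_eq hXc
  obtain ⟨P, hP⟩ : ∃ P : Sylow p ↥M, X.subgroupOf M ≤ (P : Subgroup ↥M) :=
    (hXp.comap_subtype (K := M)).exists_le_sylow
  obtain ⟨hPc, x, hxP, hx1, z, hz, hz1, hxz⟩ := hsyl P
  haveI := hPc
  have hle : X.subgroupOf M ≤ Subgroup.zpowers x := by
    apply le_of_card_prime_of_isCyclic (P := (P : Subgroup M)) P.2 hP ?_ ?_ ?_
    · rw [Nat.card_congr (Subgroup.subgroupOfEquivOfLe hXM).toEquiv, hXc]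
    · rw [Subgroup.zpowers_le]; exact hxP
    · intro h
      apply hx1
      have := Subgroup.mem_zpowers x
      rw [h, Subgroup.mem_bot] at this
      exact this
  intro hbot
  apply hz1
  have hmem : z ∈ Cfsg.sigmaCore M ⊓ Subgroup.centralizer (X : Set G) := by
    refine Subgroup.mem_inf.2 ⟨hz, ?_⟩
    rw [Subgroup.mem_centralizer_iff]
    intro y hy
    have h1 : (⟨y, hXM hy⟩ : M) ∈ Subgroup.zpowers x := hle (Subgroup.mem_subgroupOf.2 hy)
    obtain ⟨k, hk⟩ := Subgroup.mem_zpowers_iff.1 h1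
    have h2 : y = (x : G) ^ k := by
      have := congrArg Subtype.val hk
      simpa using this.symm
    rw [h2]
    have hc : Commute (x : G) z := hxz
    exact (hc.zpow_left k).eq
  rw [hbot, Subgroup.mem_bot] at hmem
  exact hmem

/-- in CASE A, `κ(M) ⊆ τ₁(M)` -/
theorem mem_tau1_of_mem_kappa (hG : Cfsg.IsMinSimpleOddOrder G) {M : Subgroup G}
    (hM : IsCoatom M) (hA : CaseA M) {p : ℕ} (hp : p ∈ Cfsg.kappa M) : p ∈ Cfsg.tau1 M := by
  classical
  have hU := uniq hG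
  have hp' := hp
  obtain ⟨hpp, hpM, hpσ, hsyl⟩ := hp
  haveI : Fact p.Prime := ⟨hpp⟩
  have hrk : Cfsg.PRankLE p 1 ↥M :=
    Cfsg.Agent.Helper48.BG142.pRankLE_one_of_cyclic_sylow (fun P => (hsyl P).1)
  refine ⟨hpp, hpσ, hpM, ?_, hrk⟩
  intro hd
  have hτ3 : p ∈ Cfsg.tau3 M := ⟨hpp, hpσ, hd, hrk⟩
  obtain ⟨E, hE⟩ := Cfsg.Agent.Helper71.BGHall.exists_isComplIn_sigmaCore hG hU hM
  have hctx := Cfsg.Agent.Helper68.BG12.eCtx_of hG hU hM hE
  haveI : Group.IsSolvable ↥E := hctx.solvable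
  obtain ⟨E3, hE3⟩ := Cfsg.Agent.Helper62.exists_isPiHallOf (Cfsg.tau3 M) E
  have hcard := Cfsg.Agent.Helper68.BG12.card_mul_card_of_isComplIn hE
  have hpS : ¬ p ∣ Nat.card (Cfsg.sigmaCore M) := fun h => hpσ (hctx.sigma_of_dvd p hpp h)
  have hpE : p ∣ Nat.card E := by
    rw [← hcard] at hpM
    exact ((Nat.Prime.dvd_mul hpp).1 hpM).resolve_right hpS
  have hpE3 : p ∣ Nat.card E3 := by
    rw [← Cfsg.Agent.Helper62.isPiHallOf_card_mul_relIndex hE3] at hpE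
    exact ((Nat.Prime.dvd_mul hpp).1 hpE).resolve_right (hE3.2.2 p hpp hτ3)
  obtain ⟨y, hy⟩ := exists_prime_orderOf_dvd_card' (G := ↥E3) p hpE3
  have hY0E3 : Subgroup.zpowers (y : G) ≤ E3 := by rw [Subgroup.zpowers_le]; exact y.2
  have hY0c : Nat.card (Subgroup.zpowers (y : G)) = p := by
    rw [Nat.card_zpowers, Subgroup.orderOf_coe, hy]
  have hne := cent_ne_bot_of_mem_kappa hp' (hY0E3.trans (hE3.1.trans hE.1)) hY0c
  exact hne (hA E E3 _ hE hE3 hY0E3 (by rw [hY0c]; exact hpp))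

/-- **TAU2-EXCLUSION** (#3506, with the `τ₃(H)` sub-case by N3(Z4), #3585) -/
theorem tau2_exclusion (hG : Cfsg.IsMinSimpleOddOrder G) (hK1 : K1 G) (hZ4 : N3Z4 G)
    {M E : Subgroup G} (hM : IsCoatom M) (hE : Cfsg.IsComplIn E (Cfsg.sigmaCore M) M)
    {p : ℕ} (hp : p ∈ Cfsg.tau1 M) {P : Subgroup G} (hPE : P ≤ E) (hPc : Nat.card P = p)
    (hD : Cfsg.sigmaCore M ⊓ Subgroup.centralizer (P : Set G) ≠ ⊥)
    {r : ℕ} (hr : r ∈ Cfsg.tau2 M) {y : G} (hyE : y ∈ E) (hyo : orderOf y = r)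
    (hyP : y ∈ Subgroup.centralizer (P : Set G)) : False := by
  classical
  haveI : IsSimpleGroup G := hG.2.1
  have hU := uniq hG
  have h1416 : Cfsg.Agent.Helper23.BG13.H1416 G :=
    fun L hL q _ A hAL hAe hAc => (Cfsg.Agent.S1416.result hG L hL q A ⟨hAL, hAe, hAc⟩).1
  have h1417 : Cfsg.Agent.Helper23.BG13.H1417 G := by
    intro L hL q _ hq A hAL hAe hAc
    have h := Cfsg.Agent.S1417.result hG L hL q hq A ⟨hAL, hAe, hAc⟩
    exact ⟨h.1, fun P => (h.2.1 P).1, h.2.2.1, h.2.2.2.2.1⟩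
  have hpp : p.Prime := hp.1
  haveI : Fact p.Prime := ⟨hpp⟩
  have hrp : r.Prime := hr.1
  haveI : Fact r.Prime := ⟨hrp⟩
  have hPp : IsPGroup p P := isPGroup_of_card_eq hPc
  have hP1 : P ≠ ⊥ := ne_bot_of_card_prime (by rw [hPc]; exact hpp)
  have hNtop : Subgroup.normalizer (P : Set G) ≠ ⊤ :=
    Cfsg.Agent.Helper31.bgt_normalizer_ne_top_of_simple hP1 (isPGroup_ne_top hG hPp)
  obtain ⟨H, hH, hNPH⟩ := (eq_top_or_exists_le_coatom _).resolve_left hNtop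
  have hpH : p ∈ Cfsg.sigma H := hK1 M E hM hE p hp P hPE hPc hD H hH hNPH
  have hPH : P ≤ H := Subgroup.le_normalizer.trans hNPH
  have hPsH : P ≤ Cfsg.sigmaCore H :=
    Cfsg.Agent.Helper29.BG11.le_sigmaCore_of_isPGroup hG hU hH hpH hPp hPH
  have hHM : H ≠ M := by
    rintro rfl
    exact hp.2.1 hpH
  obtain ⟨R, hRdef⟩ : ∃ R : Subgroup G, R = Subgroup.zpowers y := ⟨_, rfl⟩
  have hyR : y ∈ R := by rw [hRdef]; exact Subgroup.mem_zpowers y
  have hRc : Nat.card R = r := by rw [hRdef, Nat.card_zpowers, hyo]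
  have hRE : R ≤ E := by rw [hRdef, Subgroup.zpowers_le]; exact hyE
  have hRP : R ≤ Subgroup.centralizer (P : Set G) := by
    rw [hRdef, Subgroup.zpowers_le]; exact hyP
  have hRr : IsPGroup r R := isPGroup_of_card_eq hRc
  have hR1 : R ≠ ⊥ := ne_bot_of_card_prime (by rw [hRc]; exact hrp)
  have hRH : R ≤ H := (hRP.trans (Subgroup.centralizer_le_normalizer _)).trans hNPH
  have hy1 : y ≠ 1 := by
    intro h
    rw [h, orderOf_one] at hyo
    exact hrp.one_lt.ne hyo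
  have hctx := Cfsg.Agent.Helper68.BG12.eCtx_of hG hU hM hE
  obtain ⟨A, hAE, hAe, hAc⟩ :=
    Cfsg.Agent.Helper71.BGHall.exists_elementaryAbelian_sq_le_compl hctx hr.2.1 hr.2.2.1 hr.2.2.2
  have h18 := Cfsg.Agent.S1418.result hG M hM E hE r hr A ⟨hAE, hAe, hAc⟩
  have hRA : R ≤ A := h18.1.2 R hRE hRc
  have h28 := Cfsg.Agent.S1428.result hG M hM E hE p hp P hPE hPc R (le_inf hRE hRP)
    (by rw [hRc]; exact hrp)
  have hDR : Cfsg.sigmaCore M ⊓ Subgroup.centralizer (R : Set G) ≠ ⊥ :=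
    fun hb => hD (eq_bot_iff.2 (hb ▸ h28))
  obtain ⟨hCRM, huniq⟩ := h18.2.2 R hRA hRc hDR
  have hNRtop : Subgroup.normalizer (R : Set G) ≠ ⊤ :=
    Cfsg.Agent.Helper31.bgt_normalizer_ne_top_of_simple hR1 (isPGroup_ne_top hG hRr)
  obtain ⟨L, hL, hNRL⟩ := (eq_top_or_exists_le_coatom _).resolve_left hNRtop
  have hLM : L = M := huniq L hL ((Subgroup.centralizer_le_normalizer _).trans hNRL)
  have hNRM : Subgroup.normalizer (R : Set G) ≤ M := hLM ▸ hNRL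
  have hDH : Cfsg.sigmaCore M ⊓ Subgroup.centralizer (P : Set G) ≤ H :=
    (inf_le_right.trans (Subgroup.centralizer_le_normalizer _)).trans hNPH
  have hrσM : r ∉ Cfsg.sigma M := hr.2.1
  by_cases hrσH : r ∈ Cfsg.sigma H
  · have hc := Cfsg.Agent.Helper23.BG13.lemma_12_17_e hG hU h1416 h1417 hH hM hHM.symm hrσH hRr
      hR1 hRH hNRM hrσM
    apply hD
    rw [eq_bot_iff, ← hc.2.2.1]
    exact le_inf (le_inf hDH (inf_le_left.trans (Cfsg.Agent.Helper68.BG12.sigmaCore_le M)))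
      inf_le_left
  obtain ⟨EH, hEH, hREH⟩ := Cfsg.Agent.Helper71.BGHall.exists_isComplIn_sigmaCore_ge hG hU hH
    hRH (fun q hq hd => by
      rw [Cfsg.Agent.Helper23.BG13.eq_of_prime_dvd_card_pgroup hRr hq hd]; exact hrσH)
  have hne : Cfsg.sigmaCore H ⊓ Subgroup.centralizer (R : Set G) ≠ ⊥ :=
    fun hb => hP1 (eq_bot_iff.2
      (hb ▸ le_inf hPsH (Cfsg.Agent.Helper23.BG13.le_centralizer_symm hRP)))
  have hrH : r ∣ Nat.card ↥H := hRc ▸ Subgroup.card_dvd_of_le hRH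
  by_cases hr1 : Cfsg.PRankLE r 1 ↥H
  · by_cases hd : r ∣ Nat.card ↥⁅H, H⁆
    · have hτ3 : r ∈ Cfsg.tau3 H := ⟨hrp, hrσH, hd, hr1⟩
      have hctxH := Cfsg.Agent.Helper68.BG12.eCtx_of hG hU hH hEH
      haveI : Group.IsSolvable ↥EH := hctxH.solvable
      obtain ⟨E3, hE3, hRE3⟩ := Cfsg.Agent.Helper71.BGHall.exists_isPiHallOf_ge (Cfsg.tau3 H) EH
        hREH (fun q hq hd' => by
          rw [Cfsg.Agent.Helper23.BG13.eq_of_prime_dvd_card_pgroup hRr hq hd']; exact hτ3)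
      have hRs := hZ4 H EH hH hEH E3 hE3 R hRE3 (by rw [hRc]; exact hrp) hne M hM hNRM
      exact hrσM (hctx.sigma_of_dvd r hrp (hRc ▸ Subgroup.card_dvd_of_le hRs))
    · have hτ1 : r ∈ Cfsg.tau1 H := ⟨hrp, hrσH, hrH, hd, hr1⟩
      exact hrσM (hK1 H EH hH hEH r hτ1 R hREH hRc hne M hM hNRM)
  by_cases hr2 : Cfsg.PRankLE r 2 ↥H
  · have hτ2 : r ∈ Cfsg.tau2 H := ⟨hrp, hrσH, hr2, hr1⟩
    obtain ⟨⟨z, hz⟩, hz1⟩ := (Subgroup.ne_bot_iff_exists_ne_one).1 hP1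
    have hz1' : z ≠ 1 := fun h => hz1 (Subtype.ext h)
    have h20 := (Cfsg.Agent.S1420.result hG H hH EH hEH).2.2.2 y (hRH hyR) hy1
      (fun q hq hd => by
        rw [hyo] at hd
        rw [(Nat.prime_dvd_prime_iff_eq hq hrp).1 hd]; exact hτ2)
      ⟨hRH hyR, z, hPsH hz, hz1', ((Subgroup.mem_centralizer_iff.1 hyP) z hz).symm⟩
    have hCyM : Subgroup.centralizer ({y} : Set G) ≤ M := by
      refine (centralizer_singleton_le_centralizer_zpowers y).trans ?_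
      rw [← hRdef]; exact hCRM
    exact hHM (h20.2 M hM hCyM).symm
  · exact hrσH (alpha_subset_sigma hG hU hH ⟨hrp, hr2⟩)

end Cfsg.Agent.Helper53.BG14A
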