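import Cfsg.Agent.Helper53.BG14A2

/-!
# B-G Theorem 14.2 (S1430/S1431), CASE A: the structure of `K`, `K*`, `N_M(X)` and `U`
-/

set_option autoImplicit false
set_option linter.unusedVariables false
set_option linter.unusedSectionVars false
set_option linter.style.haveILetI false

namespace Cfsg.Agent.Helper53.BG14A

open Cfsg Cfsg.Agent.Helper29 Cfsg.Agent.Helper29.BG10
open Cfsg.Agent.Helper54.BG14K1
open scoped commutatorElement Pointwise

variable {G : Type*} [Group G] [Finite G]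

/-- the setting of CASE A: `K ≠ 1` a Hall `κ(M)`-subgroup inside the complement `E` of `M_σ` -/
structure Ctx (M K E : Subgroup G) : Prop where
  hG : Cfsg.IsMinSimpleOddOrder G
  hM : IsCoatom M
  hK : Cfsg.IsPiHallOf (Cfsg.kappa M) K M
  hK1 : K ≠ ⊥
  hE : Cfsg.IsComplIn E (Cfsg.sigmaCore M) M
  hKE : K ≤ E
  hA : CaseA M
  hk1 : K1 G
  hZ4 : N3Z4 G

theorem exists_ctx (hG : Cfsg.IsMinSimpleOddOrder G) (hk1 : K1 G) (hZ4 : N3Z4 G)
    {M K : Subgroup G} (hM : IsCoatom M) (hK : Cfsg.IsPiHallOf (Cfsg.kappa M) K M)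
    (hK1 : K ≠ ⊥) (hA : CaseA M) : ∃ E : Subgroup G, Ctx M K E := by
  obtain ⟨E, hE, hKE⟩ := Cfsg.Agent.Helper71.BGHall.exists_isComplIn_sigmaCore_ge hG (uniq hG) hM
    hK.1 (fun q hq hd => (hK.2.1 q hq hd).2.2.1)
  exact ⟨E, ⟨hG, hM, hK, hK1, hE, hKE, hA, hk1, hZ4⟩⟩

namespace Ctx

variable {M K E : Subgroup G} (h : Ctx M K E)
include h

theorem ectx : Cfsg.Agent.Helper68.BG12.ECtx M E :=
  Cfsg.Agent.Helper68.BG12.eCtx_of h.hG (uniq h.hG) h.hM h.hE

theorem kappa_tau1 {q : ℕ} (hq : q ∈ Cfsg.kappa M) : q ∈ Cfsg.tau1 M :=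
  mem_tau1_of_mem_kappa h.hG h.hM h.hA hq

theorem mem_kappa_of_dvd {q : ℕ} (hq : q.Prime) (hd : q ∣ Nat.card K) : q ∈ Cfsg.kappa M :=
  h.hK.2.1 q hq hd

/-- a `q`-subgroup of `E`, `q ∈ τ₁(M)`, is cyclic -/
theorem isCyclic_of_tau1 {q : ℕ} [Fact q.Prime] (hq : q ∈ Cfsg.tau1 M) {T : Subgroup G}
    (hTE : T ≤ E) (hT : IsPGroup q T) : IsCyclic T := by
  have hctx := h.ectx
  haveI : Group.IsSolvable ↥E := hctx.solvable
  obtain ⟨E1, hE1, hTE1⟩ := Cfsg.Agent.Helper71.BGHall.exists_isPiHallOf_ge (Cfsg.tau1 M) E hTE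
    (fun r hr hd => by
      rw [Cfsg.Agent.Helper23.BG13.eq_of_prime_dvd_card_pgroup hT hr hd]; exact hq)
  exact isCyclic_of_le hTE1 (hctx.isCyclic_tau1 hE1)

theorem isCyclic : IsCyclic K := by
  have hctx := h.ectx
  haveI : Group.IsSolvable ↥E := hctx.solvable
  obtain ⟨E1, hE1, hKE1⟩ := Cfsg.Agent.Helper71.BGHall.exists_isPiHallOf_ge (Cfsg.tau1 M) E h.hKE
    (fun q hq hd => h.kappa_tau1 (h.mem_kappa_of_dvd hq hd))
  exact isCyclic_of_le hKE1 (hctx.isCyclic_tau1 hE1)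

theorem comm : ∀ a ∈ K, ∀ b ∈ K, a * b = b * a := comm_of_isCyclic h.isCyclic

theorem le_centralizer_of_le {X : Subgroup G} (hXK : X ≤ K) :
    K ≤ Subgroup.centralizer (X : Set G) := by
  intro k hk
  rw [Subgroup.mem_centralizer_iff]
  intro x hx
  exact h.comm x (hXK hx) k hk

/-- `C_{M_σ}(P) ≤ C(K)` for `P ≤ K` of prime order -/
theorem cent_prime {P : Subgroup G} {p : ℕ} (hPK : P ≤ K) (hPc : Nat.card P = p)
    (hpp : p.Prime) :
    Cfsg.sigmaCore M ⊓ Subgroup.centralizer (P : Set G) ≤ Subgroup.centralizer (K : Set G) := by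
  classical
  have hpκ : p ∈ Cfsg.kappa M := h.mem_kappa_of_dvd hpp (hPc ▸ Subgroup.card_dvd_of_le hPK)
  have hpτ : p ∈ Cfsg.tau1 M := h.kappa_tau1 hpκ
  obtain ⟨D, hDdef⟩ : ∃ D : Subgroup G,
    D = Cfsg.sigmaCore M ⊓ Subgroup.centralizer (P : Set G) := ⟨_, rfl⟩
  have hAK : K ⊓ Subgroup.centralizer (D : Set G) = K := by
    apply Cfsg.Agent.Helper64.BG1217D.eq_of_forall_not_dvd_relIndex inf_le_left
    intro q hq hqd
    haveI : Fact q.Prime := ⟨hq⟩
    have hqK : q ∣ Nat.card K := hqd.trans (Subgroup.relIndex_dvd_card _ _)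
    have hqτ : q ∈ Cfsg.tau1 M := h.kappa_tau1 (h.mem_kappa_of_dvd hq hqK)
    obtain ⟨R, -, hR⟩ := exists_isSylowIn_ge (p := q) (N := K) (Y := ⊥) bot_le IsPGroup.of_bot
    have hR1 : R ≠ ⊥ := by
      intro hb
      apply hR.2.2
      rw [hb, Subgroup.relIndex_bot_left]; exact hqK
    have hqR : q ∣ Nat.card R := Cfsg.Agent.Helper23.BG13.dvd_card_of_isPGroup_ne_bot hR.2.1 hR1
    obtain ⟨x, hx⟩ := exists_prime_orderOf_dvd_card' (G := ↥R) q hqR
    have hxR : (x : G) ∈ R := x.2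
    have hxK : (x : G) ∈ K := hR.1 hxR
    have hxo : orderOf (x : G) = q := by rw [Subgroup.orderOf_coe, hx]
    have hx1 : (x : G) ≠ 1 := by
      intro h1
      rw [h1, orderOf_one] at hxo
      exact hq.one_lt.ne hxo
    have h28 := Cfsg.Agent.S1428.result h.hG M h.hM E h.hE p hpτ P (hPK.trans h.hKE) hPc
      (Subgroup.zpowers (x : G))
      (le_inf (by rw [Subgroup.zpowers_le]; exact h.hKE hxK) (by
        rw [Subgroup.zpowers_le, Subgroup.mem_centralizer_iff]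
        intro y hy
        exact h.comm y (hPK hy) x hxK))
      (by rw [Nat.card_zpowers, hxo]; exact hq)
    obtain ⟨T, hT⟩ : ∃ T : Sylow q ↥E, R.subgroupOf E ≤ (T : Subgroup ↥E) :=
      (hR.2.1.comap_subtype (K := E)).exists_le_sylow
    have hRT : R ≤ (T : Subgroup E).map E.subtype := by
      intro r hr
      exact ⟨⟨r, h.hKE (hR.1 hr)⟩, hT (Subgroup.mem_subgroupOf.2 hr), rfl⟩
    have hT1 : (T : Subgroup E) ≠ ⊥ := by
      intro hb
      apply hR1
      rw [eq_bot_iff]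
      intro r hr
      obtain ⟨t, ht, rfl⟩ := hRT hr
      have ht' : t ∈ (T : Subgroup E) := ht
      rw [hb, Subgroup.mem_bot] at ht'
      rw [ht']; simp
    have hTc : IsCyclic (T : Subgroup E) := by
      have hTp : IsPGroup q ((T : Subgroup E).map E.subtype) := T.2.map _
      have hc := h.isCyclic_of_tau1 hqτ (Subgroup.map_subtype_le _) hTp
      haveI := hc
      exact isCyclic_of_surjective
        ((T : Subgroup E).equivMapOfInjective E.subtype E.subtype_injective).symm.toMonoidHom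
        (MulEquiv.surjective _)
    have h27 := Cfsg.Agent.S1427.result h.hG M h.hM E h.hE q T hT1 hTc (x : G) (hRT hxR) hx1
    have hDR : D ≤ Subgroup.centralizer (R : Set G) := by
      intro d hd
      rw [hDdef] at hd
      have h1 := h28 hd
      have h2 : d ∈ Cfsg.sigmaCore M ⊓ Subgroup.centralizer ({(x : G)} : Set G) :=
        Subgroup.mem_inf.2 ⟨(Subgroup.mem_inf.1 h1).1,
          centralizer_le_centralizer_singleton (Subgroup.mem_zpowers _) (Subgroup.mem_inf.1 h1).2⟩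
      rw [h27] at h2
      exact Subgroup.centralizer_le (fun r hr => hRT hr) (Subgroup.mem_inf.1 h2).2
    exact Cfsg.Agent.Helper64.BG1217D.not_dvd_relIndex_of_isSylowIn_le hR
      (le_inf hR.1 (Cfsg.Agent.Helper23.BG13.le_centralizer_symm hDR)) hqd
  have hKD : K ≤ Subgroup.centralizer (D : Set G) := by
    rw [← hAK]; exact inf_le_right
  rw [← hDdef]
  exact Cfsg.Agent.Helper23.BG13.le_centralizer_symm hKD

/-- S1430(1) in CASE A -/
theorem cent_eq : ∀ k ∈ K, k ≠ 1 →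
    Cfsg.sigmaCore M ⊓ Subgroup.centralizer ({k} : Set G) =
      Cfsg.sigmaCore M ⊓ Subgroup.centralizer (K : Set G) := by
  intro k hk hk1
  apply le_antisymm
  · obtain ⟨q, n, hq, hqn⟩ := exists_pow_prime_order hk1
    have hPK : Subgroup.zpowers (k ^ n) ≤ K := by
      rw [Subgroup.zpowers_le]; exact K.pow_mem hk n
    have hPc : Nat.card (Subgroup.zpowers (k ^ n)) = q := by rw [Nat.card_zpowers, hqn]
    refine le_inf inf_le_left ?_
    refine le_trans ?_ (h.cent_prime hPK hPc hq)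
    refine inf_le_inf_left _ ?_
    intro g hg
    have h1 := centralizer_singleton_le_centralizer_zpowers k hg
    refine Subgroup.centralizer_le ?_ h1
    intro z hz
    exact (Subgroup.zpowers_le.2 (Subgroup.pow_mem _ (Subgroup.mem_zpowers k) n)) hz
  · exact inf_le_inf_left _ (centralizer_le_centralizer_singleton hk)

/-- every element of prime order of `C_E(X)`, `X ≤ K` of prime order, has order in `κ(M)` -/
theorem mem_kappa_of_mem_cent {X : Subgroup G} {p : ℕ} (hXK : X ≤ K) (hXc : Nat.card X = p)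
    (hpp : p.Prime) {y : G} {r : ℕ} (hrp : r.Prime) (hyE : y ∈ E) (hyo : orderOf y = r)
    (hyX : y ∈ Subgroup.centralizer (X : Set G)) : r ∈ Cfsg.kappa M := by
  classical
  have hU := uniq h.hG
  haveI : Fact r.Prime := ⟨hrp⟩
  have hpκ : p ∈ Cfsg.kappa M := h.mem_kappa_of_dvd hpp (hXc ▸ Subgroup.card_dvd_of_le hXK)
  have hpτ : p ∈ Cfsg.tau1 M := h.kappa_tau1 hpκ
  have hXE : X ≤ E := hXK.trans h.hKE
  have hD : Cfsg.sigmaCore M ⊓ Subgroup.centralizer (X : Set G) ≠ ⊥ :=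
    cent_ne_bot_of_mem_kappa hpκ (hXE.trans h.hE.1) hXc
  have hctx := h.ectx
  obtain ⟨R, hRdef⟩ : ∃ R : Subgroup G, R = Subgroup.zpowers y := ⟨_, rfl⟩
  have hyR : y ∈ R := by rw [hRdef]; exact Subgroup.mem_zpowers y
  have hRc : Nat.card R = r := by rw [hRdef, Nat.card_zpowers, hyo]
  have hRE : R ≤ E := by rw [hRdef, Subgroup.zpowers_le]; exact hyE
  have hRX : R ≤ Subgroup.centralizer (X : Set G) := by
    rw [hRdef, Subgroup.zpowers_le]; exact hyX
  have hRr : IsPGroup r R := isPGroup_of_card_eq hRc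
  have hrE : r ∣ Nat.card E := hRc ▸ Subgroup.card_dvd_of_le hRE
  have hrσ : r ∉ Cfsg.sigma M := hctx.not_sigma_of_dvd r hrp hrE
  have hrM : r ∣ Nat.card ↥M := hrE.trans (Subgroup.card_dvd_of_le h.hE.1)
  have h28 := Cfsg.Agent.S1428.result h.hG M h.hM E h.hE p hpτ X hXE hXc R (le_inf hRE hRX)
    (by rw [hRc]; exact hrp)
  have hDR : Cfsg.sigmaCore M ⊓ Subgroup.centralizer (R : Set G) ≠ ⊥ :=
    fun hb => hD (eq_bot_iff.2 (hb ▸ h28))
  by_cases hr1 : Cfsg.PRankLE r 1 ↥M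
  · by_cases hd : r ∣ Nat.card ↥⁅M, M⁆
    · exfalso
      have hτ3 : r ∈ Cfsg.tau3 M := ⟨hrp, hrσ, hd, hr1⟩
      haveI : Group.IsSolvable ↥E := hctx.solvable
      obtain ⟨E3, hE3, hRE3⟩ := Cfsg.Agent.Helper71.BGHall.exists_isPiHallOf_ge (Cfsg.tau3 M) E
        hRE (fun q hq hd' => by
          rw [Cfsg.Agent.Helper23.BG13.eq_of_prime_dvd_card_pgroup hRr hq hd']; exact hτ3)
      exact hDR (h.hA E E3 R h.hE hE3 hRE3 (by rw [hRc]; exact hrp))
    · refine ⟨hrp, hrM, hrσ, fun Q => ⟨?_, ?_⟩⟩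
      · exact Cfsg.Agent.Helper23.BG13.isCyclic_of_isPGroup_of_pRankLE_one (G := ↥M)
          hctx.odd_card_M Q.2 (Cfsg.Agent.Lib.pRankLE_subgroup hr1 _)
      · have hRM : R ≤ M := hRE.trans h.hE.1
        obtain ⟨Q', hQ'⟩ : ∃ Q' : Sylow r ↥M, R.subgroupOf M ≤ (Q' : Subgroup ↥M) :=
          (hRr.comap_subtype (K := M)).exists_le_sylow
        obtain ⟨g, hg⟩ := MulAction.exists_smul_eq ↥M Q' Q
        obtain ⟨⟨z, hz⟩, hz1⟩ := (Subgroup.ne_bot_iff_exists_ne_one).1 hDR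
        have hz1' : z ≠ 1 := fun h' => hz1 (Subtype.ext h')
        have hy1 : y ≠ 1 := by
          intro h'
          rw [h', orderOf_one] at hyo
          exact hrp.one_lt.ne hyo
        have hyM : y ∈ M := hRM hyR
        refine ⟨g * ⟨y, hyM⟩ * g⁻¹, ?_, ?_, (g : G) * z * (g : G)⁻¹, ?_, ?_, ?_⟩
        · have h1 : (⟨y, hyM⟩ : ↥M) ∈ (Q' : Subgroup ↥M) := hQ' (Subgroup.mem_subgroupOf.2 hyR)
          have h2 : MulAut.conj g • (⟨y, hyM⟩ : ↥M) ∈ MulAut.conj g • (Q' : Subgroup ↥M) :=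
            Subgroup.smul_mem_pointwise_smul _ _ _ h1
          rw [← Sylow.coe_subgroup_smul, hg] at h2
          simpa [MulAut.smul_def, MulAut.conj_apply] using h2
        · intro h'
          apply hy1
          have h2 : (⟨y, hyM⟩ : ↥M) = 1 := by
            have : (⟨y, hyM⟩ : ↥M) = g⁻¹ * (g * ⟨y, hyM⟩ * g⁻¹) * g := by group
            rw [this, h']; group
          exact congrArg Subtype.val h2
        · exact Cfsg.Agent.Helper68.BG12.conj_mem_sigmaCore g.2 (Subgroup.mem_inf.1 hz).1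
        · intro h'
          apply hz1'
          have : z = (g : G)⁻¹ * ((g : G) * z * (g : G)⁻¹) * (g : G) := by group
          rw [this, h']; group
        · have hyz : y * z = z * y :=
            ((Subgroup.mem_centralizer_iff.1 (Subgroup.mem_inf.1 hz).2) y hyR)
          show ((g * ⟨y, hyM⟩ * g⁻¹ : ↥M) : G) * ((g : G) * z * (g : G)⁻¹) =
            (g : G) * z * (g : G)⁻¹ * ((g * ⟨y, hyM⟩ * g⁻¹ : ↥M) : G)
          have e : ((g * ⟨y, hyM⟩ * g⁻¹ : ↥M) : G) = (g : G) * y * (g : G)⁻¹ := by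
            simp
          rw [e]
          calc (g : G) * y * (g : G)⁻¹ * ((g : G) * z * (g : G)⁻¹)
              = (g : G) * (y * z) * (g : G)⁻¹ := by group
            _ = (g : G) * (z * y) * (g : G)⁻¹ := by rw [hyz]
            _ = (g : G) * z * (g : G)⁻¹ * ((g : G) * y * (g : G)⁻¹) := by group
  · by_cases hr2 : Cfsg.PRankLE r 2 ↥M
    · exfalso
      exact tau2_exclusion h.hG h.hk1 h.hZ4 h.hM h.hE hpτ hXE hXc hD ⟨hrp, hrσ, hr2, hr1⟩ hyE
        hyo hyX
    · exact absurd (alpha_subset_sigma h.hG hU h.hM ⟨hrp, hr2⟩) hrσ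

end Ctx

end Cfsg.Agent.Helper53.BG14A
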