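import Cfsg.Agent.Helper53.BG14A3

/-!
# B-G Theorem 14.2 (S1430/S1431), CASE A: `N_M(X)`, the complement `U`, and the four clauses of
S1431; final theorem `caseA`.
-/

set_option autoImplicit false
set_option linter.unusedVariables false
set_option linter.unusedSectionVars false
set_option linter.style.haveILetI false

namespace Cfsg.Agent.Helper53.BG14A

open Cfsg Cfsg.Agent.Helper29 Cfsg.Agent.Helper29.BG10
open Cfsg.Agent.Helper54.BG14K1
open scoped commutatorElement Pointwise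

variable {G : Type*} [Group G] [Finite G]

namespace Ctx

variable {M K E : Subgroup G} (h : Ctx M K E)
include h

/-- `C_E(X) = K` for `X ≤ K` of prime order -/
theorem cent_compl_eq {X : Subgroup G} {p : ℕ} (hXK : X ≤ K) (hXc : Nat.card X = p)
    (hpp : p.Prime) : E ⊓ Subgroup.centralizer (X : Set G) = K := by
  apply eq_of_isPiHallOf_of_le h.hK (le_inf h.hKE (h.le_centralizer_of_le hXK))
    (inf_le_left.trans h.hE.1)
  intro r hr hd
  haveI : Fact r.Prime := ⟨hr⟩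
  obtain ⟨y, hy⟩ := exists_prime_orderOf_dvd_card'
    (G := ↥(E ⊓ Subgroup.centralizer (X : Set G))) r hd
  exact h.mem_kappa_of_mem_cent hXK hXc hpp hr (Subgroup.mem_inf.1 y.2).1
    (by rw [Subgroup.orderOf_coe, hy]) (Subgroup.mem_inf.1 y.2).2

/-- S1430(3), first part, in CASE A -/
theorem normalizer_eq {X : Subgroup G} (hXK : X ≤ K) (hXp : (Nat.card X).Prime) :
    M ⊓ Subgroup.normalizer (X : Set G) =
      K ⊔ (Cfsg.sigmaCore M ⊓ Subgroup.centralizer (K : Set G)) := by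
  classical
  obtain ⟨p, hXc⟩ : ∃ p, Nat.card X = p := ⟨_, rfl⟩
  have hpp : p.Prime := hXc ▸ hXp
  have hpκ : p ∈ Cfsg.kappa M := h.mem_kappa_of_dvd hpp (hXc ▸ Subgroup.card_dvd_of_le hXK)
  have hpτ : p ∈ Cfsg.tau1 M := h.kappa_tau1 hpκ
  have hKM : K ≤ M := h.hK.1
  have hXE : X ≤ E := hXK.trans h.hKE
  have hXM : X ≤ M := hXK.trans hKM
  apply le_antisymm
  · intro m hm
    obtain ⟨hmM, hmN⟩ := Subgroup.mem_inf.1 hm
    have hmC := mem_centralizer_of_mem_normalizer_of_not_dvd hpp hXM hXc hpτ.2.2.2.1 hmM hmN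
    obtain ⟨e, he, s, hs, rfl⟩ := exists_mul_of_mem_centralizer_of_isComplIn h.hE
      (Cfsg.Agent.Helper29.BG11.le_normalizer_sigmaCore M) hXE hmM hmC
    refine Subgroup.mul_mem _ (Subgroup.mem_sup_left ?_) (Subgroup.mem_sup_right ?_)
    · rw [← h.cent_compl_eq hXK hXc hpp]; exact he
    · exact Subgroup.mem_inf.2 ⟨(Subgroup.mem_inf.1 hs).1, h.cent_prime hXK hXc hpp hs⟩
  · refine sup_le (le_inf hKM ?_) (le_inf (inf_le_left.trans
      (Cfsg.Agent.Helper68.BG12.sigmaCore_le M)) ?_)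
    · exact (h.le_centralizer_of_le hXK).trans (Subgroup.centralizer_le_normalizer _)
    · exact (inf_le_right.trans (Subgroup.centralizer_le (fun x hx => hXK hx))).trans
        (Subgroup.centralizer_le_normalizer _)

/-- a subgroup of prime order of `K` is normalized by `N(K)` -/
theorem normalizer_le_normalizer {X : Subgroup G} (hXK : X ≤ K) (hXp : (Nat.card X).Prime) :
    Subgroup.normalizer (K : Set G) ≤ Subgroup.normalizer (X : Set G) := by
  intro m hm
  haveI := h.isCyclic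
  rw [Subgroup.mem_normalizer_iff_map_conj_eq]
  apply Cfsg.Agent.Helper67.eq_of_card_eq_of_le_cyclic K _ X ?_ hXK ?_
  · rintro _ ⟨x, hx, rfl⟩
    exact (Subgroup.mem_normalizer_iff.1 hm x).1 (hXK hx)
  · exact Subgroup.card_map_of_injective (MulAut.conj m).injective

/-- S1430(3), second part, in CASE A -/
theorem normalizer_K_eq :
    M ⊓ Subgroup.normalizer (K : Set G) =
      K ⊔ (Cfsg.sigmaCore M ⊓ Subgroup.centralizer (K : Set G)) := by
  obtain ⟨X, hXK, hXp⟩ := exists_card_prime_le h.hK1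
  apply le_antisymm
  · rw [← h.normalizer_eq hXK hXp]
    exact inf_le_inf_left _ (h.normalizer_le_normalizer hXK hXp)
  · refine sup_le (le_inf h.hK.1 Subgroup.le_normalizer) (le_inf (inf_le_left.trans
      (Cfsg.Agent.Helper68.BG12.sigmaCore_le M)) ?_)
    exact inf_le_right.trans (Subgroup.centralizer_le_normalizer _)

/-- S1430(3), third part, in CASE A -/
theorem le_sigmaCore_of_normalizer_le {X : Subgroup G} (hXK : X ≤ K) (hXp : (Nat.card X).Prime)
    {Ms : Subgroup G} (hMs : IsCoatom Ms) (hN : Subgroup.normalizer (X : Set G) ≤ Ms) :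
    X ≤ Cfsg.sigmaCore Ms := by
  obtain ⟨p, hXc⟩ : ∃ p, Nat.card X = p := ⟨_, rfl⟩
  have hpp : p.Prime := hXc ▸ hXp
  haveI : Fact p.Prime := ⟨hpp⟩
  have hpκ : p ∈ Cfsg.kappa M := h.mem_kappa_of_dvd hpp (hXc ▸ Subgroup.card_dvd_of_le hXK)
  have hpτ : p ∈ Cfsg.tau1 M := h.kappa_tau1 hpκ
  have hXE : X ≤ E := hXK.trans h.hKE
  have hD := cent_ne_bot_of_mem_kappa hpκ (hXE.trans h.hE.1) hXc
  have hpMs : p ∈ Cfsg.sigma Ms := h.hk1 M E h.hM h.hE p hpτ X hXE hXc hD Ms hMs hN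
  exact Cfsg.Agent.Helper29.BG11.le_sigmaCore_of_isPGroup h.hG (uniq h.hG) hMs hpMs
    (isPGroup_of_card_eq hXc) (Subgroup.le_normalizer.trans hN)

/-- S1430(2) in CASE A -/
theorem exists_U : ∃ U : Subgroup G, IsMulCommutative U ∧
    Cfsg.IsPiHallOf {q | q.Prime ∧ q ∉ Cfsg.kappa M ∧ q ∉ Cfsg.sigma M} U M ∧
    K ≤ Subgroup.normalizer (U : Set G) ∧
    ∀ k ∈ K, k ≠ 1 → U ⊓ Subgroup.centralizer ({k} : Set G) = ⊥ := by
  classical
  have hU' := uniq h.hG
  have hctx := h.ectx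
  haveI : Group.IsSolvable ↥E := hctx.solvable
  obtain ⟨U, hUH⟩ := Cfsg.Agent.Helper62.exists_isPiHallOf
    {q | q.Prime ∧ q ∉ Cfsg.kappa M ∧ q ∉ Cfsg.sigma M} E
  have hUE : U ≤ E := hUH.1
  have hE'E : ⁅E, E⁆ ≤ E := Subgroup.commutator_le.2 (fun a ha b hb =>
    E.mul_mem (E.mul_mem (E.mul_mem ha hb) (E.inv_mem ha)) (E.inv_mem hb))
  -- `E' ≤ U`
  have hE'U : ⁅E, E⁆ ≤ U := by
    have hprimes : ∀ q : ℕ, q.Prime → q ∣ Nat.card ↥(U ⊔ ⁅E, E⁆) →
        q ∈ {q | q.Prime ∧ q ∉ Cfsg.kappa M ∧ q ∉ Cfsg.sigma M} := by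
      intro q hq hd
      by_contra hqπ
      refine Cfsg.Agent.Helper22.not_dvd_card_sup_of_le_normalizer q hq U ⁅E, E⁆
        (hUE.trans (Cfsg.Agent.Helper23.BG13.le_normalizer_commutator_self E))
        (fun hqU => hqπ (hUH.2.1 q hq hqU)) ?_ hd
      intro hqE'
      apply hqπ
      refine ⟨hq, fun hκ => ?_, ?_⟩
      · exact (h.kappa_tau1 hκ).2.2.2.1
          (hqE'.trans (Subgroup.card_dvd_of_le (Subgroup.commutator_mono h.hE.1 h.hE.1)))
      · exact hctx.not_sigma_of_dvd q hq (hqE'.trans (Subgroup.card_dvd_of_le hE'E))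
    have := eq_of_isPiHallOf_of_le hUH le_sup_left (sup_le hUE hE'E) hprimes
    rw [← this]; exact le_sup_right
  -- `E ≤ N(U)`
  have hEU : E ≤ Subgroup.normalizer (U : Set G) := by
    intro e he
    rw [Subgroup.mem_normalizer_iff]
    intro u
    constructor
    · intro hu
      have e1 : e * u * e⁻¹ = ⁅e, u⁆ * u := by rw [commutatorElement_def]; group
      rw [e1]
      exact U.mul_mem (hE'U (Subgroup.commutator_mem_commutator he (hUE hu))) hu
    · intro hu
      have e1 : u = ⁅e⁻¹, e * u * e⁻¹⁆ * (e * u * e⁻¹) := by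
        rw [commutatorElement_def]; group
      rw [e1]
      exact U.mul_mem (hE'U (Subgroup.commutator_mem_commutator (E.inv_mem he) (hUE hu))) hu
  -- Hall in `M`
  have hUM : Cfsg.IsPiHallOf {q | q.Prime ∧ q ∉ Cfsg.kappa M ∧ q ∉ Cfsg.sigma M} U M := by
    refine ⟨hUE.trans h.hE.1, hUH.2.1, ?_⟩
    intro q hq hqπ hd
    rw [← Subgroup.relIndex_mul_relIndex U E M hUE h.hE.1] at hd
    rcases (Nat.Prime.dvd_mul hq).1 hd with h1 | h1
    · exact hUH.2.2 q hq hqπ h1
    · have e1 : E.relIndex M = Nat.card (Cfsg.sigmaCore M) := by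
        have h2 := Cfsg.Agent.Helper11.card_mul_relIndex h.hE.1
        have h3 := Cfsg.Agent.Helper68.BG12.card_mul_card_of_isComplIn h.hE
        have hpos : 0 < Nat.card E := Nat.card_pos
        exact Nat.eq_of_mul_eq_mul_left hpos (h2.trans h3.symm)
      rw [e1] at h1
      exact hqπ.2.2 (hctx.sigma_of_dvd q hq h1)
  -- fixed point freeness
  have hfpf : ∀ k ∈ K, k ≠ 1 → U ⊓ Subgroup.centralizer ({k} : Set G) = ⊥ := by
    intro k hk hk1
    rw [eq_bot_iff]
    intro u hu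
    rw [Subgroup.mem_bot]
    by_contra hu1
    obtain ⟨huU, huC⟩ := Subgroup.mem_inf.1 hu
    obtain ⟨r, n, hr, hrn⟩ := exists_pow_prime_order hu1
    obtain ⟨p, m, hp, hpm⟩ := exists_pow_prime_order hk1
    have hXK : Subgroup.zpowers (k ^ m) ≤ K := by
      rw [Subgroup.zpowers_le]; exact K.pow_mem hk m
    have hXc : Nat.card (Subgroup.zpowers (k ^ m)) = p := by rw [Nat.card_zpowers, hpm]
    have hyE : u ^ n ∈ E := E.pow_mem (hUE huU) n
    have hyX : u ^ n ∈ Subgroup.centralizer ((Subgroup.zpowers (k ^ m) : Subgroup G) : Set G) := by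
      have h1 : u ^ n ∈ Subgroup.centralizer ({k} : Set G) := Subgroup.pow_mem _ huC n
      have h2 := centralizer_singleton_le_centralizer_zpowers k h1
      refine Subgroup.centralizer_le ?_ h2
      intro z hz
      exact (Subgroup.zpowers_le.2 (Subgroup.pow_mem _ (Subgroup.mem_zpowers k) m)) hz
    have hκ := h.mem_kappa_of_mem_cent hXK hXc hp hr hyE hrn hyX
    have hrU : r ∣ Nat.card U := by
      rw [← hrn]; exact Subgroup.orderOf_dvd_natCard U (U.pow_mem huU n)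
    exact (hUH.2.1 r hr hrU).2.1 hκ
  -- `U` is abelian
  have hab : IsMulCommutative U := by
    obtain ⟨X, hXK, hXp⟩ := exists_card_prime_le h.hK1
    obtain ⟨⟨x, hx⟩, hx1⟩ := (Subgroup.ne_bot_iff_exists_ne_one).1 (ne_bot_of_card_prime hXp)
    have hx1' : x ≠ 1 := fun h' => hx1 (Subtype.ext h')
    have hxp : x ^ Nat.card X = 1 := Cfsg.Agent.Helper48.BG142.pow_card_eq_one_of_mem hx
    have hnil : Group.IsNilpotent ↥U :=
      isNilpotent_of_fpf_conj hXp hxp (hEU (h.hKE (hXK hx))) (hfpf x (hXK hx) hx1')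
    exact (Cfsg.Agent.S1420.result h.hG M h.hM E h.hE).1 U (hUE.trans h.hE.1) hnil
      (fun q hq hd => (hUH.2.1 q hq hd).2.2)
  exact ⟨U, hab, hUM, h.hKE.trans hEU, hfpf⟩

end Ctx

end Cfsg.Agent.Helper53.BG14A
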