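import Cfsg.Agent.Helper53.BG14A4

/-!
# B-G Theorem 14.2 (S1430/S1431), CASE A: the four clauses of S1431 and the final theorem `caseA`
-/

set_option autoImplicit false
set_option linter.unusedVariables false
set_option linter.unusedSectionVars false
set_option linter.style.haveILetI false

namespace Cfsg.Agent.Helper53.BG14A

open Cfsg Cfsg.Agent.Helper29 Cfsg.Agent.Helper29.BG10
open Cfsg.Agent.Helper54.BG14K1
open scoped commutatorElement Pointwise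

variable {G : Type*} [Group G] [Finite G]

/-- a nontrivial subgroup contains a subgroup `⟨y⟩` of prime order -/
theorem exists_zpowers_prime_le {Y : Subgroup G} (hY : Y ≠ ⊥) :
    ∃ (y : G) (q : ℕ), y ∈ Y ∧ q.Prime ∧ orderOf y = q := by
  obtain ⟨⟨y, hy⟩, hy1⟩ := (Subgroup.ne_bot_iff_exists_ne_one).1 hY
  have hy1' : y ≠ 1 := fun h' => hy1 (Subtype.ext h')
  obtain ⟨q, n, hq, hqn⟩ := exists_pow_prime_order hy1'
  exact ⟨y ^ n, q, Y.pow_mem hy n, hq, hqn⟩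

namespace Ctx

variable {M K E : Subgroup G} (h : Ctx M K E)
include h

/-- for `X ≤ K*` of prime order, `N_G(X) ≤ M` (STEP I) -/
theorem normalizer_le_of_le_kstar (hI : StepI G) {X : Subgroup G}
    (hX : X ≤ Cfsg.sigmaCore M ⊓ Subgroup.centralizer (K : Set G)) (hXp : (Nat.card X).Prime) :
    Subgroup.normalizer (X : Set G) ≤ M := by
  haveI : IsSimpleGroup G := h.hG.2.1
  obtain ⟨P, hPK, hPp⟩ := exists_card_prime_le h.hK1
  obtain ⟨p, hPc⟩ : ∃ p, Nat.card P = p := ⟨_, rfl⟩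
  have hpp : p.Prime := hPc ▸ hPp
  have hpτ : p ∈ Cfsg.tau1 M :=
    h.kappa_tau1 (h.mem_kappa_of_dvd hpp (hPc ▸ Subgroup.card_dvd_of_le hPK))
  obtain ⟨t, hXc⟩ : ∃ t, Nat.card X = t := ⟨_, rfl⟩
  have htp : t.Prime := hXc ▸ hXp
  haveI : Fact t.Prime := ⟨htp⟩
  have hXt : IsPGroup t X := isPGroup_of_card_eq hXc
  have hX1 : X ≠ ⊥ := ne_bot_of_card_prime hXp
  have hNtop : Subgroup.normalizer (X : Set G) ≠ ⊤ :=
    Cfsg.Agent.Helper31.bgt_normalizer_ne_top_of_simple hX1 (isPGroup_ne_top h.hG hXt)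
  obtain ⟨L, hL, hNL⟩ := (eq_top_or_exists_le_coatom _).resolve_left hNtop
  have hX' : X ≤ Cfsg.sigmaCore M ⊓ Subgroup.centralizer (P : Set G) :=
    hX.trans (inf_le_inf_left _ (Subgroup.centralizer_le (fun x hx => hPK hx)))
  have e : L = M := hI M E h.hM h.hE p hpτ P (hPK.trans h.hKE) hPc X hX' hXp L hL hNL
  exact e ▸ hNL

/-- if `X ≤ K*` has prime order and `gXg⁻¹ ≤ M` then `g ∈ M` -/
theorem mem_of_map_conj_le (hI : StepI G) {X : Subgroup G}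
    (hX : X ≤ Cfsg.sigmaCore M ⊓ Subgroup.centralizer (K : Set G)) (hXp : (Nat.card X).Prime)
    {g : G} (hg : X.map (MulAut.conj g).toMonoidHom ≤ M) : g ∈ M := by
  obtain ⟨t, hXc⟩ : ∃ t, Nat.card X = t := ⟨_, rfl⟩
  have htp : t.Prime := hXc ▸ hXp
  haveI : Fact t.Prime := ⟨htp⟩
  have hXt : IsPGroup t X := isPGroup_of_card_eq hXc
  have hX1 : X ≠ ⊥ := ne_bot_of_card_prime hXp
  have hXS : X ≤ Cfsg.sigmaCore M := hX.trans inf_le_left
  have htσ : t ∈ Cfsg.sigma M :=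
    h.ectx.sigma_of_dvd t htp (hXc ▸ Subgroup.card_dvd_of_le hXS)
  have hXM : X ≤ M := hXS.trans (Cfsg.Agent.Helper68.BG12.sigmaCore_le M)
  obtain ⟨m, hm, c, hc, rfl⟩ :=
    (Cfsg.Agent.S1404.result h.hG M h.hM t htσ X hXt hX1 hXM).1 g hg
  exact M.mul_mem hm
    (h.normalizer_le_of_le_kstar hI hX hXp (Subgroup.centralizer_le_normalizer _ hc))

/-- S1431(1) in CASE A -/
theorem kstar_inf_conj (hI : StepI G) : ∀ g : G, g ∉ M →
    (Cfsg.sigmaCore M ⊓ Subgroup.centralizer (K : Set G)) ⊓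
      M.map (MulAut.conj g).toMonoidHom = ⊥ := by
  intro g hg
  by_contra hne
  obtain ⟨y, q, hy, hq, hyo⟩ := exists_zpowers_prime_le hne
  obtain ⟨hyK, hyM⟩ := Subgroup.mem_inf.1 hy
  apply hg
  have hX : Subgroup.zpowers y ≤ Cfsg.sigmaCore M ⊓ Subgroup.centralizer (K : Set G) := by
    rw [Subgroup.zpowers_le]; exact hyK
  have hXp : (Nat.card (Subgroup.zpowers y)).Prime := by rw [Nat.card_zpowers, hyo]; exact hq
  have hmap : (Subgroup.zpowers y).map (MulAut.conj g⁻¹).toMonoidHom ≤ M := by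
    rw [MonoidHom.map_zpowers, Subgroup.zpowers_le]
    obtain ⟨m, hm, hmy⟩ := hyM
    have e : (MulAut.conj g⁻¹).toMonoidHom y = m := by
      rw [← hmy]
      simp [MulAut.conj_apply]
      group
    rw [e]; exact hm
  have := h.mem_of_map_conj_le hI hX hXp hmap
  simpa using M.inv_mem this

/-- S1431(2) in CASE A -/
theorem K_inf_conj : ∀ g ∈ M,
    g ∉ K ⊔ (Cfsg.sigmaCore M ⊓ Subgroup.centralizer (K : Set G)) →
      K ⊓ K.map (MulAut.conj g).toMonoidHom = ⊥ := by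
  intro g hgM hg
  by_contra hne
  obtain ⟨y, q, hy, hq, hyo⟩ := exists_zpowers_prime_le hne
  obtain ⟨hyK, hyKg⟩ := Subgroup.mem_inf.1 hy
  apply hg
  haveI := h.isCyclic
  have hXK : Subgroup.zpowers y ≤ K := by rw [Subgroup.zpowers_le]; exact hyK
  have hXc : Nat.card (Subgroup.zpowers y) = q := by rw [Nat.card_zpowers, hyo]
  have hXp : (Nat.card (Subgroup.zpowers y)).Prime := by rw [hXc]; exact hq
  rw [← h.normalizer_eq hXK hXp]
  refine Subgroup.mem_inf.2 ⟨hgM, ?_⟩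
  -- `g⁻¹ ∈ N(X)`
  have hinv : g⁻¹ ∈ Subgroup.normalizer ((Subgroup.zpowers y : Subgroup G) : Set G) := by
    rw [Subgroup.mem_normalizer_iff_map_conj_eq]
    apply Cfsg.Agent.Helper67.eq_of_card_eq_of_le_cyclic K _ (Subgroup.zpowers y) ?_ hXK ?_
    · show (Subgroup.zpowers y).map (MulAut.conj g⁻¹).toMonoidHom ≤ K
      rw [MonoidHom.map_zpowers, Subgroup.zpowers_le]
      obtain ⟨k, hk, hky⟩ := hyKg
      have e : (MulAut.conj g⁻¹).toMonoidHom y = k := by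
        rw [← hky]
        simp [MulAut.conj_apply]
        group
      rw [e]; exact hk
    · exact Subgroup.card_map_of_injective (MulAut.conj g⁻¹).injective
  simpa using Subgroup.inv_mem _ hinv

/-- S1431(3) in CASE A -/
theorem sylow_clause (hT6 : T6 G) : ∀ (p : ℕ), p.Prime →
    p ∣ Nat.card ↥(Cfsg.sigmaCore M ⊓ Subgroup.centralizer (K : Set G)) →
    ∀ S : Sylow p ↥(Cfsg.sigmaCore M),
      Cfsg.InUniqueMaximal ((S : Subgroup ↥(Cfsg.sigmaCore M)).map (Cfsg.sigmaCore M).subtype) ∧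
      (S : Subgroup ↥(Cfsg.sigmaCore M)).map (Cfsg.sigmaCore M).subtype ≤ M ∧
      ¬ (S : Subgroup ↥(Cfsg.sigmaCore M)).map (Cfsg.sigmaCore M).subtype ≤
        (Cfsg.sigmaCore M ⊓ Subgroup.centralizer (K : Set G)) := by
  intro q hq hqd S
  obtain ⟨P, hPK, hPp⟩ := exists_card_prime_le h.hK1
  obtain ⟨p, hPc⟩ : ∃ p, Nat.card P = p := ⟨_, rfl⟩
  have hpp : p.Prime := hPc ▸ hPp
  have hpτ : p ∈ Cfsg.tau1 M :=
    h.kappa_tau1 (h.mem_kappa_of_dvd hpp (hPc ▸ Subgroup.card_dvd_of_le hPK))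
  have e : Cfsg.sigmaCore M ⊓ Subgroup.centralizer (P : Set G) =
      Cfsg.sigmaCore M ⊓ Subgroup.centralizer (K : Set G) :=
    le_antisymm (le_inf inf_le_left (h.cent_prime hPK hPc hpp))
      (inf_le_inf_left _ (Subgroup.centralizer_le (fun x hx => hPK hx)))
  have h6 := hT6 M E h.hM h.hE p hpτ P (hPK.trans h.hKE) hPc q hq (by rw [e]; exact hqd) S
  rw [e] at h6
  exact ⟨h6.1, (Subgroup.map_subtype_le _).trans (Cfsg.Agent.Helper68.BG12.sigmaCore_le M), h6.2⟩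

/-- S1431(4) in CASE A -/
theorem le_sigmaCore_of_inf_ne_bot (hI : StepI G) : ∀ Y : Subgroup G,
    (∀ p : ℕ, p.Prime → p ∣ Nat.card Y → p ∈ Cfsg.sigma M) →
    Y ⊓ (Cfsg.sigmaCore M ⊓ Subgroup.centralizer (K : Set G)) ≠ ⊥ → Y ≤ Cfsg.sigmaCore M := by
  intro Y hYσ hne
  have hY1 : Y ≠ ⊥ := by
    rintro rfl
    exact hne (bot_inf_eq _)
  obtain ⟨g, hg⟩ := Cfsg.Agent.S1425.result h.hG M h.hM Y hY1 hYσ
  obtain ⟨y, q, hy, hq, hyo⟩ := exists_zpowers_prime_le hne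
  obtain ⟨hyY, hyK⟩ := Subgroup.mem_inf.1 hy
  have hX : Subgroup.zpowers y ≤ Cfsg.sigmaCore M ⊓ Subgroup.centralizer (K : Set G) := by
    rw [Subgroup.zpowers_le]; exact hyK
  have hXp : (Nat.card (Subgroup.zpowers y)).Prime := by rw [Nat.card_zpowers, hyo]; exact hq
  have hmap : (Subgroup.zpowers y).map (MulAut.conj g).toMonoidHom ≤ M :=
    (Subgroup.map_mono (Subgroup.zpowers_le.2 hyY)).trans
      (hg.trans (Cfsg.Agent.Helper68.BG12.sigmaCore_le M))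
  have hgM : g ∈ M := h.mem_of_map_conj_le hI hX hXp hmap
  intro z hz
  have h1 : g * z * g⁻¹ ∈ Cfsg.sigmaCore M := hg ⟨z, hz, by simp [MulAut.conj_apply]⟩
  have h2 := Cfsg.Agent.Helper68.BG12.conj_mem_sigmaCore (M.inv_mem hgM) h1
  have e : g⁻¹ * (g * z * g⁻¹) * g⁻¹⁻¹ = z := by group
  rwa [e] at h2

end Ctx

/-- **CASE A** of B-G Theorem 14.2: the conclusions of S1430 and S1431. -/
theorem caseA (hG : Cfsg.IsMinSimpleOddOrder G) (hI : StepI G) (hk1 : K1 G) (hZ4 : N3Z4 G)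
    (hT6 : T6 G) (M : Subgroup G) (hM : IsCoatom M) (K : Subgroup G)
    (hK : Cfsg.IsPiHallOf (Cfsg.kappa M) K M) (hK1 : K ≠ ⊥) (hA : CaseA M) :
    ((∀ k ∈ K, k ≠ 1 → Cfsg.sigmaCore M ⊓ Subgroup.centralizer ({k} : Set G) = (Cfsg.sigmaCore M ⊓ Subgroup.centralizer (K : Set G))) ∧
      (∃ U : Subgroup G, IsMulCommutative U ∧ Cfsg.IsPiHallOf {q | q.Prime ∧ q ∉ Cfsg.kappa M ∧ q ∉ Cfsg.sigma M} U M ∧
        K ≤ Subgroup.normalizer (U : Set G) ∧ ∀ k ∈ K, k ≠ 1 → U ⊓ Subgroup.centralizer ({k} : Set G) = ⊥) ∧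
      ∀ X : Subgroup G, X ≤ K → (Nat.card X).Prime →
        M ⊓ Subgroup.normalizer (X : Set G) = K ⊔ (Cfsg.sigmaCore M ⊓ Subgroup.centralizer (K : Set G)) ∧ M ⊓ Subgroup.normalizer (K : Set G) = K ⊔ (Cfsg.sigmaCore M ⊓ Subgroup.centralizer (K : Set G)) ∧
        ∀ Mstar : Subgroup G, IsCoatom Mstar → Subgroup.normalizer (X : Set G) ≤ Mstar → X ≤ Cfsg.sigmaCore Mstar) ∧
    ((∀ g : G, g ∉ M → (Cfsg.sigmaCore M ⊓ Subgroup.centralizer (K : Set G)) ⊓ M.map (MulAut.conj g).toMonoidHom = ⊥) ∧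
      (∀ g ∈ M, g ∉ K ⊔ (Cfsg.sigmaCore M ⊓ Subgroup.centralizer (K : Set G)) → K ⊓ K.map (MulAut.conj g).toMonoidHom = ⊥) ∧
      (∀ (p : ℕ), p.Prime → p ∣ Nat.card ↥(Cfsg.sigmaCore M ⊓ Subgroup.centralizer (K : Set G)) → ∀ S : Sylow p ↥(Cfsg.sigmaCore M),
        Cfsg.InUniqueMaximal ((S : Subgroup ↥(Cfsg.sigmaCore M)).map (Cfsg.sigmaCore M).subtype) ∧
        (S : Subgroup ↥(Cfsg.sigmaCore M)).map (Cfsg.sigmaCore M).subtype ≤ M ∧
        ¬ (S : Subgroup ↥(Cfsg.sigmaCore M)).map (Cfsg.sigmaCore M).subtype ≤ (Cfsg.sigmaCore M ⊓ Subgroup.centralizer (K : Set G))) ∧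
      ∀ Y : Subgroup G, (∀ p : ℕ, p.Prime → p ∣ Nat.card Y → p ∈ Cfsg.sigma M) → Y ⊓ (Cfsg.sigmaCore M ⊓ Subgroup.centralizer (K : Set G)) ≠ ⊥ → Y ≤ Cfsg.sigmaCore M) := by
  obtain ⟨E, h⟩ := exists_ctx hG hk1 hZ4 hM hK hK1 hA
  refine ⟨⟨h.cent_eq, h.exists_U, fun X hXK hXp => ⟨h.normalizer_eq hXK hXp, h.normalizer_K_eq,
    fun Ms hMs hN => h.le_sigmaCore_of_normalizer_le hXK hXp hMs hN⟩⟩,
    ⟨h.kstar_inf_conj hI, h.K_inf_conj, h.sylow_clause hT6, h.le_sigmaCore_of_inf_ne_bot hI⟩⟩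

end Cfsg.Agent.Helper53.BG14A
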