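import Mathlib
import Cfsg.Agent.Helper70.BG14PU
import Cfsg.Agent.S1427
import Cfsg.Agent.Helper64.BG13W
import Cfsg.Agent.Helper71.BGHall

/-!
# B-G §13/§14, THEOREM N3 (helper70, board #3892): chunk [Z] (backup copy by helper53)

`le_centralizer_C`, `cent_singleton_eq`, `le_centralizer_of_tau1`, `exists_tau1` with the exact
signatures of helper70's skeleton.
-/

set_option autoImplicit false
set_option linter.unusedVariables false
set_option linter.unusedSectionVars false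
set_option linter.style.haveILetI false

namespace Cfsg.Agent.Helper53.BG14

open Cfsg Cfsg.Agent.Helper29 Cfsg.Agent.Helper29.BG10 Cfsg.Agent.Helper29.BG11
open Cfsg.Agent.Helper70.BG14
open scoped commutatorElement

variable {G : Type*} [Group G] [Finite G]

/-- `E` centralizes `C` -/
theorem le_centralizer_C (hG : Cfsg.IsMinSimpleOddOrder G) {M E Y L : Subgroup G} {s : ℕ}
    (h0 : Step0 M E Y s L) (hD : DEq M E Y) :
    E ≤ Subgroup.centralizer
      ((Cfsg.sigmaCore M ⊓ Subgroup.centralizer (Y : Set G) : Subgroup G) : Set G) := by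
  classical
  have hU := bbU hG
  have hM := h0.hyp.coatom
  have hE := h0.hyp.compl
  have hc := ectx hG hM hE
  haveI : Group.IsSolvable ↥E := hc.solvable
  apply le_of_forall_sylow_le
  intro q hq
  haveI : Fact q.Prime := ⟨hq⟩
  obtain ⟨T⟩ : Nonempty (Sylow q ↥E) := inferInstance
  refine ⟨(T : Subgroup E).map E.subtype, isSylowIn_map_sylow T, ?_⟩
  have hTE : (T : Subgroup E).map E.subtype ≤ E := Subgroup.map_subtype_le _
  have hTp : IsPGroup q ((T : Subgroup E).map E.subtype) := T.2.map _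
  by_cases hT1 : (T : Subgroup E) = ⊥
  · rw [hT1, Subgroup.map_bot]; exact bot_le
  have hTm1 : (T : Subgroup E).map E.subtype ≠ ⊥ := by
    intro hb
    exact hT1 ((Subgroup.map_eq_bot_iff_of_injective _ E.subtype_injective).1 hb)
  have hqT : q ∣ Nat.card ↥((T : Subgroup E).map E.subtype) :=
    Cfsg.Agent.Helper23.BG13.dvd_card_of_isPGroup_ne_bot hTp hTm1
  have hqE : q ∣ Nat.card ↥E := hqT.trans (Subgroup.card_dvd_of_le hTE)
  rcases mem_tau_of_dvd_card_compl hG hM hE hq hqE with h1 | h2 | h3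
  · -- `q ∈ τ₁(M)`: S1427
    obtain ⟨x, hx⟩ := exists_prime_orderOf_dvd_card'
      (G := ↥((T : Subgroup E).map E.subtype)) q hqT
    have hxT : (x : G) ∈ (T : Subgroup E).map E.subtype := x.2
    have hxo : orderOf (x : G) = q := by rw [Subgroup.orderOf_coe, hx]
    have hx1 : (x : G) ≠ 1 := by
      intro h1'
      rw [h1', orderOf_one] at hxo
      exact hq.one_lt.ne hxo
    have hTc : IsCyclic (T : Subgroup E) := by
      have hc1 : IsCyclic ↥((T : Subgroup E).map E.subtype) :=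
        Cfsg.Agent.Helper23.BG13.isCyclic_of_isPGroup_of_pRankLE_one hG.1 hTp
          (Cfsg.Agent.Helper23.BG13.pRankLE_mono (hTE.trans hE.1) h1.2.2.2.2)
      haveI := hc1
      exact isCyclic_of_surjective
        ((T : Subgroup E).equivMapOfInjective E.subtype E.subtype_injective).symm.toMonoidHom
        (MulEquiv.surjective _)
    have h27 := Cfsg.Agent.S1427.result hG M hM E hE q T hT1 hTc (x : G) hxT hx1
    have hPE : Subgroup.zpowers (x : G) ≤ E := by
      rw [Subgroup.zpowers_le]; exact hTE hxT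
    have hPc : Nat.card ↥(Subgroup.zpowers (x : G)) = q := by rw [Nat.card_zpowers, hxo]
    have hDP := hD (Subgroup.zpowers (x : G)) q h1 hPE hPc
    apply Cfsg.Agent.Helper23.BG13.le_centralizer_symm
    intro c hcC
    rw [← hDP] at hcC
    have h2 : c ∈ Cfsg.sigmaCore M ⊓ Subgroup.centralizer ({(x : G)} : Set G) :=
      Subgroup.mem_inf.2 ⟨(Subgroup.mem_inf.1 hcC).1,
        Subgroup.centralizer_le (Set.singleton_subset_iff.2 (Subgroup.mem_zpowers _))
          (Subgroup.mem_inf.1 hcC).2⟩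
    rw [h27] at h2
    exact (Subgroup.mem_inf.1 h2).2
  · rw [h0.tau2_empty] at h2; exact absurd h2 (Set.notMem_empty _)
  · -- `q ∈ τ₃(M)`: Lemma A
    obtain ⟨E3, hE3, hTE3⟩ := Cfsg.Agent.Helper71.BGHall.exists_isPiHallOf_ge (Cfsg.tau3 M) E hTE
      (fun r hr hd => by
        rw [Cfsg.Agent.Helper23.BG13.eq_of_prime_dvd_card_pgroup hTp hr hd]; exact h3)
    have hTcomm : (T : Subgroup E).map E.subtype ≤ ⁅L, L⁆ :=
      (hTE3.trans (hc.tau3 hE3).2.1).trans (Subgroup.commutator_mono h0.le_L h0.le_L)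
    have hq1L : q ∉ Cfsg.tau1 L := fun hq1 =>
      hq1.2.2.2.1 (hqT.trans (Subgroup.card_dvd_of_le hTcomm))
    have hA := lemmaA hG hM h0.coatomL h0.not_conj h3.2.1 hTp hTm1 (hTE.trans hE.1)
      (hTE.trans h0.le_L) hq1L
    rw [h0.inf_eq] at hA
    have := Subgroup.commutator_eq_bot_iff_le_centralizer.1 hA
    exact Cfsg.Agent.Helper23.BG13.le_centralizer_symm this

/-- (Z2) -/
theorem cent_singleton_eq (hG : Cfsg.IsMinSimpleOddOrder G) {M E Y L : Subgroup G} {s : ℕ}
    (h0 : Step0 M E Y s L) (hD : DEq M E Y)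
    (hEC : E ≤ Subgroup.centralizer
      ((Cfsg.sigmaCore M ⊓ Subgroup.centralizer (Y : Set G) : Subgroup G) : Set G))
    {x : G} (hx : x ∈ E) (hx1 : x ≠ 1) :
    Cfsg.sigmaCore M ⊓ Subgroup.centralizer ({x} : Set G) =
      Cfsg.sigmaCore M ⊓ Subgroup.centralizer (Y : Set G) := by
  have hM := h0.hyp.coatom
  have hE := h0.hyp.compl
  apply le_antisymm
  · -- a power `z` of `x` of prime order `r`
    have ho1 : orderOf x ≠ 1 := fun h => hx1 (orderOf_eq_one_iff.1 h)
    obtain ⟨r, hr, hrd⟩ := Nat.exists_prime_and_dvd ho1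
    have hpos : 0 < orderOf x := orderOf_pos x
    have hzo : orderOf (x ^ (orderOf x / r)) = r := by
      rw [orderOf_pow' x (by
        intro h
        rcases Nat.div_eq_zero_iff.1 h with h0' | hlt
        · exact hr.ne_zero h0'
        · exact absurd (Nat.le_of_dvd hpos hrd) (not_le.2 hlt)),
        Nat.gcd_eq_right (Nat.div_dvd_of_dvd hrd), Nat.div_div_self hrd hpos.ne']
    have hRE : Subgroup.zpowers (x ^ (orderOf x / r)) ≤ E := by
      rw [Subgroup.zpowers_le]; exact E.pow_mem hx _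
    have hRc : Nat.card ↥(Subgroup.zpowers (x ^ (orderOf x / r))) = r := by
      rw [Nat.card_zpowers, hzo]
    have hle : Subgroup.centralizer ({x} : Set G) ≤
        Subgroup.centralizer ((Subgroup.zpowers (x ^ (orderOf x / r)) : Subgroup G) : Set G) := by
      intro g hg
      rw [Subgroup.mem_centralizer_iff] at hg ⊢
      intro z hz
      obtain ⟨k, rfl⟩ := Subgroup.mem_zpowers_iff.1 hz
      have h1 : Commute x g := hg x (Set.mem_singleton x)
      exact ((h1.pow_left _).zpow_left k)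
    have hrE : r ∣ Nat.card ↥E := hRc ▸ Subgroup.card_dvd_of_le hRE
    refine (inf_le_inf_left _ hle).trans (le_of_eq ?_)
    rcases mem_tau_of_dvd_card_compl hG hM hE hr hrE with h1 | h2 | h3
    · exact hD _ r h1 hRE hRc
    · rw [h0.tau2_empty] at h2; exact absurd h2 (Set.notMem_empty _)
    · exact step0_same hG h0.hyp h3 hRE hRc
  · refine le_inf inf_le_left ?_
    intro c hcC
    rw [Subgroup.mem_centralizer_iff]
    intro y hy
    rw [Set.mem_singleton_iff.1 hy]
    exact (Subgroup.mem_centralizer_iff.1 (hEC hx) c hcC).symm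

/-- `E` has a subgroup of prime order in `τ₁(M)` -/
theorem exists_tau1 (hG : Cfsg.IsMinSimpleOddOrder G) {M E Y : Subgroup G} {s : ℕ}
    (h : N3Hyp M E Y s) :
    ∃ (P : Subgroup G) (p : ℕ), p ∈ Cfsg.tau1 M ∧ P ≤ E ∧ Nat.card ↥P = p := by
  classical
  have hM := h.coatom
  have hE := h.compl
  have hc := ectx hG hM hE
  obtain ⟨L, h0⟩ := exists_step0 hG h
  by_contra hcon
  push Not at hcon
  -- every prime of `|E|` is in `τ₃(M)`
  have hall : Cfsg.IsPiHallOf (Cfsg.tau3 M) E E := by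
    refine ⟨le_rfl, ?_, ?_⟩
    · intro r hr hrE
      rcases mem_tau_of_dvd_card_compl hG hM hE hr hrE with h1 | h2 | h3
      · exfalso
        haveI : Fact r.Prime := ⟨hr⟩
        obtain ⟨x, hx⟩ := exists_prime_orderOf_dvd_card' (G := ↥E) r hrE
        exact hcon (Subgroup.zpowers (x : G)) r h1
          (by rw [Subgroup.zpowers_le]; exact x.2)
          (by rw [Nat.card_zpowers, Subgroup.orderOf_coe, hx])
      · rw [h0.tau2_empty] at h2; exact absurd h2 (Set.notMem_empty _)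
      · exact h3
    · intro r hr _ hd
      rw [Subgroup.relIndex_self] at hd
      exact hr.one_lt.ne' (Nat.dvd_one.1 hd)
  obtain ⟨hcyc, hle, -⟩ := hc.tau3 hall
  -- `E` cyclic, so `⁅E, E⁆ = ⊥`
  have hcomm : ⁅E, E⁆ = ⊥ := by
    rw [Subgroup.commutator_eq_bot_iff_le_centralizer]
    intro a ha
    rw [Subgroup.mem_centralizer_iff]
    intro b hb
    haveI := hcyc
    have := (IsCyclic.isMulCommutative (α := E)).is_comm.comm ⟨b, hb⟩ ⟨a, ha⟩
    exact congrArg Subtype.val this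
  have hY1 : Y ≠ ⊥ := ne_bot_of_card_eq h.mem_tau3.1 h.card
  apply hY1
  rw [eq_bot_iff]
  exact (h.le.trans hle).trans (le_of_eq hcomm)

/-- (Z3) for `τ₁`: the subgroups of order `p ∈ τ₁(M)` of `E` are central in `E` -/
theorem le_centralizer_of_tau1 (hG : Cfsg.IsMinSimpleOddOrder G) {M E Y : Subgroup G} {s : ℕ}
    (h : N3Hyp M E Y s) (hno : NoAlpha M E) {P : Subgroup G} {p : ℕ} (hp : p ∈ Cfsg.tau1 M)
    (hPE : P ≤ E) (hP : Nat.card ↥P = p) : E ≤ Subgroup.centralizer (P : Set G) := by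
  classical
  have hM := h.coatom
  have hE := h.compl
  have hc := ectx hG hM hE
  obtain ⟨L, h0⟩ := exists_step0 hG h
  have hpp : p.Prime := hp.1
  haveI : Fact p.Prime := ⟨hpp⟩
  have hE'E : ⁅E, E⁆ ≤ E := Subgroup.commutator_le.2 (fun a ha b hb =>
    E.mul_mem (E.mul_mem (E.mul_mem ha hb) (E.inv_mem ha)) (E.inv_mem hb))
  have hE'M : ⁅E, E⁆ ≤ ⁅M, M⁆ := Subgroup.commutator_mono hE.1 hE.1
  -- `p ∤ |E'|`
  have hpE' : ¬ p ∣ Nat.card ↥⁅E, E⁆ := fun hd =>
    hp.2.2.2.1 (hd.trans (Subgroup.card_dvd_of_le hE'M))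
  have hcop : (Nat.card ↥P).Coprime (Nat.card ↥⁅E, E⁆) := by
    rw [hP]; exact (Nat.Prime.coprime_iff_not_dvd hpp).2 hpE'
  have hPN : P ≤ Subgroup.normalizer ((⁅E, E⁆ : Subgroup G) : Set G) :=
    hPE.trans (Cfsg.Agent.Helper23.BG13.le_normalizer_commutator_self E)
  -- `P` centralizes `E'`
  have hPE' : ⁅⁅E, E⁆, P⁆ = ⊥ := by
    by_contra hne
    have hsolvP : Group.IsSolvable ↥P := by
      haveI : Group.IsSolvable ↥E := hc.solvable
      exact solvable_of_solvable_injective (Subgroup.inclusion_injective hPE)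
    obtain ⟨q, Q0, hq, hQ0E', hQ0q, hQ01, hPQ0, hQ0P⟩ :=
      Cfsg.Agent.Helper64.BG13W.exists_invariant_pgroup_commutator P ⁅E, E⁆ hPN hcop
        (Or.inl hsolvP) hne
    haveI : Fact q.Prime := ⟨hq⟩
    have hqQ0 : q ∣ Nat.card ↥Q0 := Cfsg.Agent.Helper23.BG13.dvd_card_of_isPGroup_ne_bot hQ0q hQ01
    have hqE' : q ∣ Nat.card ↥⁅E, E⁆ := hqQ0.trans (Subgroup.card_dvd_of_le hQ0E')
    have hqE : q ∣ Nat.card ↥E := hqE'.trans (Subgroup.card_dvd_of_le hE'E)
    have hq3 : q ∈ Cfsg.tau3 M := by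
      rcases mem_tau_of_dvd_card_compl hG hM hE hq hqE with h1 | h2 | h3
      · exact absurd (hqE'.trans (Subgroup.card_dvd_of_le hE'M)) h1.2.2.2.1
      · rw [h0.tau2_empty] at h2; exact absurd h2 (Set.notMem_empty _)
      · exact h3
    have hQ0M : Q0 ≤ M := (hQ0E'.trans hE'E).trans hE.1
    have hQ0c : IsCyclic ↥Q0 :=
      Cfsg.Agent.Helper23.BG13.isCyclic_of_isPGroup_of_pRankLE_one hG.1 hQ0q
        (Cfsg.Agent.Helper23.BG13.pRankLE_mono hQ0M hq3.2.2.2)
    obtain ⟨x, hx⟩ := exists_prime_orderOf_dvd_card' (G := ↥Q0) q hqQ0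
    have hXQ0 : Subgroup.zpowers (x : G) ≤ Q0 := by rw [Subgroup.zpowers_le]; exact x.2
    have hXc : Nat.card ↥(Subgroup.zpowers (x : G)) = q := by
      rw [Nat.card_zpowers, Subgroup.orderOf_coe, hx]
    have hPX : P ≤ Subgroup.centralizer ((Subgroup.zpowers (x : G) : Subgroup G) : Set G) :=
      hno P p hp hPE hP _ q hq3 (hXQ0.trans (hQ0E'.trans hE'E)) hXc
    have hqp : q ≠ p := by
      rintro rfl
      exact hpE' hqE'
    have hcopq : (Nat.card ↥P).Coprime q := by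
      rw [hP]; exact (Nat.coprime_primes hpp hq).2 hqp.symm
    have hPQ0c := le_centralizer_of_cyclic_of_le_centralizer_omega hq hQ0q hQ0c hPQ0 hcopq hXQ0
      hXc hPX
    have hbot : ⁅Q0, P⁆ = ⊥ :=
      Subgroup.commutator_eq_bot_iff_le_centralizer.2
        (Cfsg.Agent.Helper23.BG13.le_centralizer_symm hPQ0c)
    exact hQ01 (hQ0P ▸ hbot)
  have hE'P : ⁅E, E⁆ ≤ Subgroup.centralizer (P : Set G) :=
    Subgroup.commutator_eq_bot_iff_le_centralizer.1 hPE'
  intro e he
  rw [Subgroup.mem_centralizer_iff]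
  intro x hx
  -- `c := ⁅e, x⁆ ∈ E'` commutes with `x`; `(c x)^p = 1` and `x^p = 1` give `c^p = 1`
  have hcE' : ⁅e, x⁆ ∈ ⁅E, E⁆ := Subgroup.commutator_mem_commutator he (hPE hx)
  have hcx : x * ⁅e, x⁆ = ⁅e, x⁆ * x := Subgroup.mem_centralizer_iff.1 (hE'P hcE') x hx
  have hxp : x ^ p = 1 := by
    have h1 : (⟨x, hx⟩ : ↥P) ^ Nat.card ↥P = 1 := pow_card_eq_one'
    have h2 := congrArg Subtype.val h1
    rw [hP] at h2
    simpa using h2
  have hconj : (e * x * e⁻¹) ^ p = 1 := by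
    rw [conj_pow, hxp]; group
  have hmul : e * x * e⁻¹ = ⁅e, x⁆ * x := by rw [commutatorElement_def]; group
  have hcp : ⁅e, x⁆ ^ p = 1 := by
    have h1 : (⁅e, x⁆ * x) ^ p = ⁅e, x⁆ ^ p * x ^ p := (Commute.mul_pow hcx.symm p)
    rw [← hmul, hconj, hxp, mul_one] at h1
    exact h1.symm
  have hc1 : ⁅e, x⁆ = 1 := by
    have h1 : orderOf ⁅e, x⁆ ∣ p := orderOf_dvd_of_pow_eq_one hcp
    have h2 : orderOf ⁅e, x⁆ ∣ Nat.card ↥⁅E, E⁆ := Subgroup.orderOf_dvd_natCard _ hcE'
    rcases (Nat.dvd_prime hpp).1 h1 with h3 | h3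
    · exact orderOf_eq_one_iff.1 h3
    · exact absurd (h3 ▸ h2) hpE'
  rw [commutatorElement_eq_one_iff_mul_comm] at hc1
  exact hc1.symm

end Cfsg.Agent.Helper53.BG14
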