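import Mathlib
import Cfsg.Agent.Helper77.Blk.Defs

/-!
helper53 for helper77, S3888 (Blackburn) piece (BI1): Case I, the chain.
-/

set_option autoImplicit false

universe u

namespace Cfsg.Agent.Helper53.Blk

open Subgroup Cfsg.Agent.Helper77.Blk

theorem BI1_conj_zpow {G : Type u} [Group G] (x a : G) (i : ℤ) : x⁻¹ * a ^ i * x = (x⁻¹ * a * x) ^ i := by
  have h := conj_zpow (i := i) (a := x⁻¹) (b := a)
  rw [inv_inv] at h
  exact h.symm

theorem BI1_conj_pow {G : Type u} [Group G] (x a : G) (k : ℕ) : x⁻¹ * a ^ k * x = (x⁻¹ * a * x) ^ k := by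
  have h := BI1_conj_zpow x a (k : ℤ)
  rw [zpow_natCast, zpow_natCast] at h
  exact h

section beta
variable {G : Type u} [Group G] [Finite G] {p : ℕ} [hp : Fact p.Prime]

/-- (BI1) Case I, the chain. -/
theorem beta_caseI_chain (hp2 : p ≠ 2) (hG : IsPGroup p G) (E : Subgroup G) [E.Normal]
    (hEcard : Nat.card E = p ^ 2) (hEexp : ∀ e ∈ E, e ^ p = 1)
    (hCE : ∀ c ∈ centralizer (E : Set G), c ^ p = 1 → c ∈ E)
    (hK2 : PropK2.{u} p)
    (hCHAIN : ∀ (x u2 u1 f g : G), x⁻¹ * u2 * x = u2 * u1 → x⁻¹ * u1 * x = u1 * f → x⁻¹ * f * x = f * g →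
      x⁻¹ * g * x = g → u1 * f = f * u1 → u1 * g = g * u1 → f * g = g * f → ∀ k : ℕ,
      (x ^ k)⁻¹ * u2 * x ^ k = u2 * u1 ^ k * f ^ (k.choose 2) * g ^ (k.choose 3))
    (x : G) (hx : x ^ p = 1) (hACT : TransvAct E x)
    (u2 : G) (hu2 : u2 ∈ centralizer (E : Set G)) (hu2p : u2 ^ p ∈ E)
    (hne : x⁻¹ * u2 ^ p * x ≠ u2 ^ p) :
    ∃ e1 u1 f g : G, e1 ∈ E ∧ e1 ≠ 1 ∧ x⁻¹ * e1 * x = e1 ∧
      u1 ∈ centralizer (E : Set G) ∧ u1 ^ p = e1 ∧ f ∈ E ∧ x⁻¹ * u1 * x = u1 * f ∧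
      g ∈ zpowers e1 ∧ x⁻¹ * f * x = f * g ∧ e1 * g ^ (p.choose 3) = 1 ∧
      (∀ e ∈ E, x⁻¹ * e * x = e → e ∈ zpowers e1) ∧
      (∀ e ∈ E, e⁻¹ * (x⁻¹ * e * x) ∈ zpowers e1) := by
  have hpp : p.Prime := hp.out
  -- conjugation by `x` preserves `E` and `C`
  have hEx : ∀ e ∈ E, x⁻¹ * e * x ∈ E := by
    intro e he
    have := (inferInstance : E.Normal).conj_mem e he x⁻¹
    rwa [inv_inv] at this
  have hEx' : ∀ e ∈ E, x * e * x⁻¹ ∈ E := fun e he => (inferInstance : E.Normal).conj_mem e he x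
  have hCx : ∀ c ∈ centralizer (E : Set G), x⁻¹ * c * x ∈ centralizer (E : Set G) := by
    intro c hc
    rw [mem_centralizer_iff] at hc ⊢
    intro e he
    have h1 := hc _ (hEx' e he)
    calc e * (x⁻¹ * c * x) = x⁻¹ * ((x * e * x⁻¹) * c) * x := by group
      _ = x⁻¹ * (c * (x * e * x⁻¹)) * x := by rw [h1]
      _ = x⁻¹ * c * x * e := by group
  -- `E` is abelian
  have hEcomm : ∀ a ∈ E, ∀ b ∈ E, a * b = b * a := by
    intro a ha b hb
    have h := IsPGroup.commutative_of_card_eq_prime_sq hEcard (⟨a, ha⟩ : E) ⟨b, hb⟩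
    exact congrArg Subtype.val h
  -- `↥C` is `p`-central
  have hPC : PCentral p ↥(centralizer (E : Set G)) := by
    intro c hc
    rw [mem_center_iff]
    intro d
    have hcE : (c : G) ∈ E := by
      apply hCE _ c.2
      have := congrArg Subtype.val hc
      simpa using this
    have hd : (d : G) ∈ centralizer (E : Set G) := d.2
    rw [mem_centralizer_iff] at hd
    apply Subtype.ext
    simp only [Subgroup.coe_mul]
    exact (hd _ hcE).symm
  have hPG : IsPGroup p ↥(centralizer (E : Set G)) := hG.to_subgroup _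
  -- (K2) in `↥C`
  have key : ∀ a ∈ centralizer (E : Set G), ∀ b ∈ centralizer (E : Set G), a ^ p ∈ E → b ^ p ∈ E →
      (a * b) ^ p = a ^ p * b ^ p := by
    intro a ha b hb hap hbp
    have h := hK2 ↥(centralizer (E : Set G)) hPG hPC ⟨a, ha⟩ ⟨b, hb⟩ (by
      apply Subtype.ext
      simp only [Subgroup.coe_pow, Subgroup.coe_one]
      exact hEexp _ hap) (by
      apply Subtype.ext
      simp only [Subgroup.coe_pow, Subgroup.coe_one]
      exact hEexp _ hbp)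
    have h' := congrArg Subtype.val h
    simpa only [Subgroup.coe_pow, Subgroup.coe_mul] using h'
  -- the data
  set e2 := u2 ^ p with he2
  obtain ⟨hA1, hA2, hA3⟩ := hACT e2 hu2p hne
  set e1 := e2⁻¹ * (x⁻¹ * e2 * x) with he1
  set u1 := u2⁻¹ * (x⁻¹ * u2 * x) with hu1
  set f := u1⁻¹ * (x⁻¹ * u1 * x) with hf
  set g := f⁻¹ * (x⁻¹ * f * x) with hg
  have he1E : e1 ∈ E := mul_mem (inv_mem hu2p) (hEx _ hu2p)
  have he1n : e1 ≠ 1 := by
    intro h
    apply hne
    rw [he1, inv_mul_eq_one] at h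
    exact h.symm
  have hu2x : x⁻¹ * u2 * x ∈ centralizer (E : Set G) := hCx _ hu2
  have hu1C : u1 ∈ centralizer (E : Set G) := mul_mem (inv_mem hu2) hu2x
  have hu1p : u1 ^ p = e1 := by
    rw [hu1, key _ (inv_mem hu2) _ hu2x (by rw [inv_pow]; exact inv_mem hu2p)
      (by rw [← BI1_conj_pow]; exact hEx _ hu2p), inv_pow, ← BI1_conj_pow]
  have hu1x : x⁻¹ * u1 * x ∈ centralizer (E : Set G) := hCx _ hu1C
  have hfC : f ∈ centralizer (E : Set G) := mul_mem (inv_mem hu1C) hu1x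
  have hfp : f ^ p = 1 := by
    rw [hf, key _ (inv_mem hu1C) _ hu1x (by rw [inv_pow, hu1p]; exact inv_mem he1E)
      (by rw [← BI1_conj_pow, hu1p]; exact hEx _ he1E), inv_pow, ← BI1_conj_pow, hu1p, hA1, inv_mul_cancel]
  have hfE : f ∈ E := hCE f hfC hfp
  have hgz : g ∈ zpowers e1 := hA3 f hfE
  have hgE : g ∈ E := by
    have hzE : zpowers e1 ≤ E := by rw [zpowers_le]; exact he1E
    exact hzE hgz
  have hgx : x⁻¹ * g * x = g := by
    obtain ⟨i, hi⟩ := mem_zpowers_iff.mp hgz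
    rw [← hi, BI1_conj_zpow, hA1]
  have c1 : u1 * f = f * u1 := by
    have := hu1C
    rw [mem_centralizer_iff] at this
    exact (this f hfE).symm
  have c2 : u1 * g = g * u1 := by
    have := hu1C
    rw [mem_centralizer_iff] at this
    exact (this g hgE).symm
  have c3 : f * g = g * f := hEcomm f hfE g hgE
  have r2 : x⁻¹ * u2 * x = u2 * u1 := by rw [hu1, mul_inv_cancel_left]
  have r1 : x⁻¹ * u1 * x = u1 * f := by rw [hf, mul_inv_cancel_left]
  have rf : x⁻¹ * f * x = f * g := by rw [hg, mul_inv_cancel_left]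
  have hch := hCHAIN x u2 u1 f g r2 r1 rf hgx c1 c2 c3 p
  have hrel : e1 * g ^ (p.choose 3) = 1 := by
    have hd : p ∣ p.choose 2 := hpp.dvd_choose_self (by norm_num) (by
      have := hpp.two_le
      omega)
    obtain ⟨m, hm⟩ := hd
    rw [hx, inv_one, one_mul, mul_one, hu1p, hm, pow_mul, hfp, one_pow, mul_one, mul_assoc] at hch
    exact (mul_eq_left.mp hch.symm)
  exact ⟨e1, u1, f, g, he1E, he1n, hA1, hu1C, hu1p, hfE, r1, hgz, rf, hrel, hA2, hA3⟩

end beta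

end Cfsg.Agent.Helper53.Blk
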