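import Mathlib
import Cfsg.Agent.Helper77.Blk.Defs

/-!
helper53 for helper77, S3888 (Blackburn) piece (BI2): Case I, conclusion.
-/

set_option autoImplicit false

universe u

namespace Cfsg.Agent.Helper53.Blk

open Subgroup Cfsg.Agent.Helper77.Blk

theorem BI2_conj_zpow {G : Type u} [Group G] (x a : G) (i : ℤ) : x⁻¹ * a ^ i * x = (x⁻¹ * a * x) ^ i := by
  have h := conj_zpow (i := i) (a := x⁻¹) (b := a)
  rw [inv_inv] at h
  exact h.symm

theorem BI2_conj_pow {G : Type u} [Group G] (x a : G) (k : ℕ) : x⁻¹ * a ^ k * x = (x⁻¹ * a * x) ^ k := by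
  have h := BI2_conj_zpow x a (k : ℤ)
  rw [zpow_natCast, zpow_natCast] at h
  exact h

section beta
variable {G : Type u} [Group G] [Finite G] {p : ℕ} [hp : Fact p.Prime]

/-- (BI2) Case I, conclusion: the chain data force `p = 3` and `C_C(x) ≤ E`. -/
theorem beta_caseI_concl (hp2 : p ≠ 2) (hG : IsPGroup p G) (E : Subgroup G) [E.Normal]
    (hEcard : Nat.card E = p ^ 2) (hEexp : ∀ e ∈ E, e ^ p = 1)
    (hCE : ∀ c ∈ centralizer (E : Set G), c ^ p = 1 → c ∈ E)
    (hK2 : PropK2.{u} p)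
    (x : G) (hxC : x ∉ centralizer (E : Set G))
    (e1 u1 f g : G) (he1 : e1 ∈ E) (he1n : e1 ≠ 1) (he1x : x⁻¹ * e1 * x = e1)
    (hfix : ∀ e ∈ E, x⁻¹ * e * x = e → e ∈ zpowers e1)
    (hcomm : ∀ e ∈ E, e⁻¹ * (x⁻¹ * e * x) ∈ zpowers e1)
    (hu1 : u1 ∈ centralizer (E : Set G)) (hu1p : u1 ^ p = e1) (hf : f ∈ E)
    (hu1x : x⁻¹ * u1 * x = u1 * f) (hg : g ∈ zpowers e1) (hfx : x⁻¹ * f * x = f * g)
    (hrel : e1 * g ^ (p.choose 3) = 1) :
    p = 3 ∧ ∀ w ∈ centralizer (E : Set G), x⁻¹ * w * x = w → w ∈ E := by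
  have hpp : p.Prime := hp.out
  have hzE : zpowers e1 ≤ E := by rw [zpowers_le]; exact he1
  have hgE : g ∈ E := hzE hg
  -- `p = 3`
  have hp3 : p = 3 := by
    by_contra h3
    have h5 : 5 ≤ p := hpp.five_le_of_ne_two_of_ne_three hp2 h3
    have hd : p ∣ p.choose 3 := hpp.dvd_choose_self (by norm_num) (by omega)
    obtain ⟨m, hm⟩ := hd
    rw [hm, pow_mul, hEexp g hgE, one_pow, mul_one] at hrel
    exact he1n hrel
  refine ⟨hp3, ?_⟩
  -- `g = e1⁻¹`
  have hge : g = e1⁻¹ := by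
    have h1 : p.choose 3 = 1 := by rw [hp3]; rfl
    rw [h1, pow_one] at hrel
    exact (eq_inv_of_mul_eq_one_right hrel)
  -- `E` is abelian and contained in `C`
  have hEcomm : ∀ a ∈ E, ∀ b ∈ E, a * b = b * a := by
    intro a ha b hb
    have h := IsPGroup.commutative_of_card_eq_prime_sq hEcard (⟨a, ha⟩ : E) ⟨b, hb⟩
    exact congrArg Subtype.val h
  have hEC : E ≤ centralizer (E : Set G) := by
    intro a ha
    rw [mem_centralizer_iff]
    intro b hb
    exact hEcomm b hb a ha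
  -- `↥C` is `p`-central
  have hPC : PCentral p ↥(centralizer (E : Set G)) := by
    intro c hc
    rw [mem_center_iff]
    intro d
    have hcE : (c : G) ∈ E := by
      apply hCE _ c.2
      have := congrArg Subtype.val hc
      simpa using this
    have hd : (d : G) ∈ centralizer (E : Set G) := d.2
    rw [mem_centralizer_iff] at hd
    apply Subtype.ext
    simp only [Subgroup.coe_mul]
    exact (hd _ hcE).symm
  have hPG : IsPGroup p ↥(centralizer (E : Set G)) := hG.to_subgroup _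
  intro w hw hwx
  by_contra hwE
  -- the order of `w`
  obtain ⟨k, hk⟩ := hG w
  have hord : orderOf w ∣ p ^ k := orderOf_dvd_of_pow_eq_one hk
  obtain ⟨j, -, hj⟩ := (Nat.dvd_prime_pow hpp).mp hord
  have hj2 : 2 ≤ j := by
    by_contra hlt
    rw [not_le] at hlt
    apply hwE
    apply hCE w hw
    have : orderOf w ∣ p := by
      rw [hj]
      interval_cases j
      · simp
      · simp
    exact orderOf_dvd_iff_pow_eq_one.mp this
  obtain ⟨l, rfl⟩ : ∃ l, j = l + 2 := ⟨j - 2, by omega⟩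
  set w' := w ^ (p ^ l) with hw'
  have hw'C : w' ∈ centralizer (E : Set G) := pow_mem hw _
  have hw'x : x⁻¹ * w' * x = w' := by rw [hw', BI2_conj_pow, hwx]
  have hw'pp : (w' ^ p) ^ p = 1 := by
    have e : (w' ^ p) ^ p = w ^ (p ^ (l + 2)) := by
      rw [hw', ← pow_mul, ← pow_mul]
      congr 1
      ring
    rw [e, ← hj, pow_orderOf_eq_one]
  have hw'p : w' ^ p ≠ 1 := by
    intro h
    have e : w' ^ p = w ^ (p ^ (l + 1)) := by
      rw [hw', ← pow_mul, ← pow_succ]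
    rw [e] at h
    have hd := orderOf_dvd_of_pow_eq_one h
    rw [hj] at hd
    have := (Nat.pow_dvd_pow_iff_le_right hpp.one_lt).mp hd
    omega
  have hw'pC : w' ^ p ∈ centralizer (E : Set G) := pow_mem hw'C _
  have hw'pE : w' ^ p ∈ E := hCE _ hw'pC hw'pp
  have hw'px : x⁻¹ * w' ^ p * x = w' ^ p := by rw [BI2_conj_pow, hw'x]
  obtain ⟨i, hi⟩ := mem_zpowers_iff.mp (hfix _ hw'pE hw'px)
  -- `e1 ^ i ≠ 1`
  have he1i : e1 ^ i ≠ 1 := by rw [hi]; exact hw'p
  have he1p : e1 ^ p = 1 := hEexp e1 he1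
  -- apply (K2) in `↥C`
  have hK := hK2 ↥(centralizer (E : Set G)) hPG hPC ((⟨u1, hu1⟩ : ↥(centralizer (E : Set G))) ^ i)
    ((⟨w', hw'C⟩ : ↥(centralizer (E : Set G)))⁻¹) (by
    apply Subtype.ext
    simp only [Subgroup.coe_pow, Subgroup.coe_zpow, Subgroup.coe_one]
    rw [← zpow_natCast (u1 ^ i), ← zpow_mul, mul_comm, zpow_mul, zpow_natCast, hu1p, ← zpow_natCast (e1 ^ i),
      ← zpow_mul, mul_comm, zpow_mul, zpow_natCast, he1p, one_zpow]) (by
    apply Subtype.ext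
    simp only [Subgroup.coe_pow, Subgroup.coe_inv, Subgroup.coe_one]
    rw [inv_pow, inv_pow, hw'pp, inv_one])
  have hK' : (u1 ^ i * w'⁻¹) ^ p = 1 := by
    have h := congrArg Subtype.val hK
    simp only [Subgroup.coe_pow, Subgroup.coe_mul, Subgroup.coe_zpow, Subgroup.coe_inv] at h
    rw [h, ← zpow_natCast (u1 ^ i), ← zpow_mul, mul_comm, zpow_mul, zpow_natCast, hu1p, hi, inv_pow, mul_inv_cancel]
  set e := u1 ^ i * w'⁻¹ with he
  have heC : e ∈ centralizer (E : Set G) := mul_mem (zpow_mem hu1 _) (inv_mem hw'C)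
  have heE : e ∈ E := hCE e heC hK'
  -- conjugating by `x`
  have hfiE : f ^ i ∈ E := zpow_mem hf _
  have hu1f : Commute u1 f := by
    have := hu1
    rw [mem_centralizer_iff] at this
    exact (this f hf).symm
  have hw'f : w'⁻¹ * f ^ i = f ^ i * w'⁻¹ := by
    have := inv_mem hw'C
    rw [mem_centralizer_iff] at this
    exact (this _ hfiE).symm
  have hex : x⁻¹ * e * x = e * f ^ i := by
    have h1 : x⁻¹ * e * x = (x⁻¹ * u1 ^ i * x) * (x⁻¹ * w'⁻¹ * x) := by rw [he]; group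
    have h2 : x⁻¹ * w'⁻¹ * x = w'⁻¹ := by
      have : x⁻¹ * w'⁻¹ * x = (x⁻¹ * w' * x)⁻¹ := by group
      rw [this, hw'x]
    rw [h1, h2, BI2_conj_zpow, hu1x, hu1f.mul_zpow, he, mul_assoc, mul_assoc, hw'f]
  have hfi : f ^ i ∈ zpowers e1 := by
    have h := hcomm e heE
    rw [hex, inv_mul_cancel_left] at h
    exact h
  -- `f ^ i` is fixed by `x`
  have hfix_fi : x⁻¹ * f ^ i * x = f ^ i := by
    obtain ⟨l', hl'⟩ := mem_zpowers_iff.mp hfi
    rw [← hl', BI2_conj_zpow, he1x]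
  have hfg : Commute f g := hEcomm f hf g hgE
  rw [BI2_conj_zpow, hfx, hfg.mul_zpow] at hfix_fi
  have hgi : g ^ i = 1 := by
    have := mul_left_cancel (hfix_fi.trans (mul_one _).symm)
    exact this
  rw [hge, inv_zpow, inv_eq_one] at hgi
  exact he1i hgi

end beta

end Cfsg.Agent.Helper53.Blk
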