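import Cfsg.Agent.Helper78.Brandt.ClassMat
import Cfsg.Agent.Helper74.CharBasic

/-!
# (B-GC1) of S4607 (Brandt): the matrix of right multiplication by the block idempotent on `ℂ G`

Delivered to helper78 (board #6521).
-/

set_option autoImplicit false

namespace Cfsg.Agent.Helper53.Brandt

open Module Cfsg Cfsg.Agent.Helper78 Cfsg.Agent.Helper78.Brandt
open scoped ComplexConjugate

universe u

variable {G : Type u} [Group G] [Fintype G] (M : Ideal AlgInt) [M.IsPrime]

/-- (B-GC1) the matrix of right multiplication by the block idempotent on `ℂ G`. -/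
theorem regMat_props {B : Set (IrrCharacter G)} (hB : IsPBlock M B) :
    (∀ g x, MemLocalRing M (regMat B g x)) ∧ regMat B * regMat B = regMat B ∧
      (regMat B).trace = ((∑ᶠ χ ∈ B, charDegree (χ : G → ℂ) ^ 2 : ℕ) : ℂ) := by
  classical
  refine ⟨?_, ?_, ?_⟩
  · intro g x
    exact Cfsg.Agent.Helper16.osima hB _
  · ext g x
    rw [Matrix.mul_apply]
    show ∑ y : G, blockCoeff B (y⁻¹ * g) * blockCoeff B (x⁻¹ * y) = blockCoeff B (x⁻¹ * g)
    have h1 := congrFun (Cfsg.Agent.Helper77.blockCoeff_conv_self (M := M) hB) (x⁻¹ * g)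
    rw [Cfsg.Agent.Helper16.conv_apply] at h1
    rw [← h1]
    symm
    refine Fintype.sum_equiv (Equiv.mulLeft x) _ _ (fun t => ?_)
    simp only [Equiv.coe_mulLeft]
    rw [mul_comm]
    congr 2
    · group
    · group
  · have hcard : (Nat.card G : ℂ) ≠ 0 := by
      have : Nat.card G ≠ 0 := Nat.card_pos.ne'
      exact_mod_cast this
    have h1 : (regMat B).trace = (Nat.card G : ℂ) * blockCoeff B 1 := by
      rw [Matrix.trace]
      simp only [Matrix.diag_apply]
      have h2 : ∀ g : G, regMat B g g = blockCoeff B 1 := by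
        intro g
        show blockCoeff B (g⁻¹ * g) = blockCoeff B 1
        rw [inv_mul_cancel]
      rw [Finset.sum_congr rfl (fun g _ => h2 g), Finset.sum_const, Finset.card_univ,
        nsmul_eq_mul, Nat.card_eq_fintype_card]
    rw [h1, Cfsg.Agent.Helper16.blockCoeff_eq_sum, ← mul_assoc, mul_inv_cancel₀ hcard, one_mul]
    rw [finsum_mem_def, finsum_eq_sum_of_fintype, Nat.cast_sum]
    refine Finset.sum_congr rfl (fun χ _ => ?_)
    rw [Set.indicator_apply]
    have h3 : (χ : G → ℂ) 1 = (charDegree (χ : G → ℂ) : ℂ) :=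
      (Cfsg.Agent.Helper74.charDegree_cast (Cfsg.Agent.Helper74.irr_isCharacter χ)).symm
    by_cases h : χ ∈ B
    · rw [if_pos h, if_pos h, one_mul, h3, Complex.conj_natCast]
      push_cast
      ring
    · rw [if_neg h, if_neg h, zero_mul, zero_mul, Nat.cast_zero]

end Cfsg.Agent.Helper53.Brandt
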