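import Cfsg.Agent.Helper78.Brandt.ClassMat
import Cfsg.Agent.Helper74.CharBasic

/-!
# (B-GD1) of S4607 (Brandt): the matrix of multiplication by the block idempotent on `Z(ℂ G)`

Delivered to helper78 (board #6522).
-/

set_option autoImplicit false

namespace Cfsg.Agent.Helper53.Brandt

open Module Cfsg Cfsg.Agent.Helper78 Cfsg.Agent.Helper78.Brandt
open scoped ComplexConjugate

universe u

variable {G : Type u} [Group G] [Fintype G] (M : Ideal AlgInt) [M.IsPrime]

open Classical in
/-- (B-GD1) the matrix of multiplication by the block idempotent on the center of `ℂ G`. -/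
theorem classMat_props {B : Set (IrrCharacter G)} (hB : IsPBlock M B) :
    (∀ C C', MemLocalRing M (classMat B C C')) ∧ classMat B * classMat B = classMat B ∧
      (classMat B).rank ≤ Nat.card B := by
  set e : G → ℂ := blockCoeff B with he
  have hecl : IsClassFunction G e := Cfsg.Agent.Helper16.isClassFunction_blockCoeff B
  have hee : Cfsg.Agent.Helper16.conv e e = e :=
    Cfsg.Agent.Helper77.blockCoeff_conv_self (M := M) hB
  -- class functions from vectors
  let F : (ConjClasses G → ℂ) → G → ℂ := fun v g => v (ConjClasses.mk g)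
  have hFcl : ∀ v, IsClassFunction G (F v) := by
    intro v g h
    show v (ConjClasses.mk (h * g * h⁻¹)) = v (ConjClasses.mk g)
    congr 1
    rw [ConjClasses.mk_eq_mk_iff_isConj]
    exact (isConj_iff.mpr ⟨h, rfl⟩).symm
  -- KEY
  have hkey : ∀ v C, (classMat B).mulVec v C =
      Cfsg.Agent.Helper16.conv (F v) e (Quotient.out C) := by
    intro v C
    rw [Cfsg.Agent.Helper16.conv_apply]
    show ∑ C', classMat B C C' * v C' = ∑ x, v (ConjClasses.mk x) * e (x⁻¹ * Quotient.out C)
    simp only [classMat, Finset.sum_mul]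
    rw [Finset.sum_comm]
    refine Finset.sum_congr rfl (fun x _ => ?_)
    rw [Finset.sum_eq_single (ConjClasses.mk x)]
    · rw [if_pos rfl, mul_comm]
    · intro C' _ hne
      rw [if_neg (Ne.symm hne), zero_mul]
    · intro h
      exact absurd (Finset.mem_univ _) h
  have hkey' : ∀ v, F ((classMat B).mulVec v) = Cfsg.Agent.Helper16.conv (F v) e := by
    intro v
    funext g
    show (classMat B).mulVec v (ConjClasses.mk g) = _
    rw [hkey]
    have hcl := Cfsg.Agent.Helper16.isClassFunction_conv (hFcl v) hecl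
    have h1 : ConjClasses.mk (Quotient.out (ConjClasses.mk g)) = ConjClasses.mk g :=
      Quotient.out_eq _
    rw [ConjClasses.mk_eq_mk_iff_isConj, isConj_iff] at h1
    obtain ⟨c, hc⟩ := h1
    have h2 := hcl (Quotient.out (ConjClasses.mk g)) c
    rw [hc] at h2
    exact h2.symm
  refine ⟨?_, ?_, ?_⟩
  · intro C C'
    unfold classMat
    refine Cfsg.Agent.Helper16.memLocalRing_sum _ _ (fun x _ => ?_)
    split_ifs
    · exact Cfsg.Agent.Helper16.osima hB _
    · exact Cfsg.Agent.Helper16.memLocalRing_zero
  · apply Matrix.toLin'.injective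
    apply LinearMap.ext
    intro v
    rw [Matrix.toLin'_mul, LinearMap.comp_apply, Matrix.toLin'_apply, Matrix.toLin'_apply]
    funext C
    rw [hkey, hkey', Cfsg.Agent.Helper16.conv_assoc, hee, ← hkey]
  · have : Fintype ↥B := Fintype.ofFinite ↥B
    let w : ↥B → (ConjClasses G → ℂ) := fun χ C => conj ((χ.1 : G → ℂ) (Quotient.out C))
    have hsub : LinearMap.range (classMat B).mulVecLin ≤ Submodule.span ℂ (Set.range w) := by
      rintro _ ⟨v, rfl⟩
      rw [Matrix.mulVecLin_apply]
      have h1 : (classMat B).mulVec v = ∑ χ : ↥B,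
          ((Nat.card G : ℂ)⁻¹ * (Cfsg.Agent.Helper16.omega (χ.1 : G → ℂ) (F v) *
            (χ.1 : G → ℂ) 1)) • w χ := by
        funext C
        rw [hkey, Cfsg.Agent.Helper16.classFunction_eq_sum_omega
          (Cfsg.Agent.Helper16.isClassFunction_conv (hFcl v) hecl)]
        rw [Finset.sum_apply]
        have h2 : ∀ χ : IrrCharacter G,
            Cfsg.Agent.Helper16.omega (χ : G → ℂ) (Cfsg.Agent.Helper16.conv (F v) e) *
              (χ : G → ℂ) 1 * conj ((χ : G → ℂ) (Quotient.out C)) =
            if χ ∈ B then Cfsg.Agent.Helper16.omega (χ : G → ℂ) (F v) *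
              (χ : G → ℂ) 1 * conj ((χ : G → ℂ) (Quotient.out C)) else 0 := by
          intro χ
          rw [Cfsg.Agent.Helper16.irr_omega_conv χ (hFcl v) hecl, he,
            Cfsg.Agent.Helper16.omega_blockCoeff]
          split_ifs
          · rw [mul_one]
          · rw [mul_zero, zero_mul, zero_mul]
        have h3 : ∑ χ : IrrCharacter G,
            Cfsg.Agent.Helper16.omega (χ : G → ℂ) (Cfsg.Agent.Helper16.conv (F v) e) *
              (χ : G → ℂ) 1 * conj ((χ : G → ℂ) (Quotient.out C)) =
            ∑ χ : ↥B, Cfsg.Agent.Helper16.omega (χ.1 : G → ℂ) (F v) *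
              (χ.1 : G → ℂ) 1 * conj ((χ.1 : G → ℂ) (Quotient.out C)) := by
          rw [Finset.sum_congr rfl (fun χ _ => h2 χ), ← Finset.sum_filter,
            Finset.sum_subtype (Finset.univ.filter (· ∈ B)) (p := (· ∈ B)) (by simp)]
        rw [h3, Finset.mul_sum]
        refine Finset.sum_congr rfl (fun χ _ => ?_)
        simp only [Pi.smul_apply, smul_eq_mul, w]
        ring
      rw [h1]
      exact Submodule.sum_mem _ (fun χ _ =>
        Submodule.smul_mem _ _ (Submodule.subset_span ⟨χ, rfl⟩))
    calc (classMat B).rank = finrank ℂ (LinearMap.range (classMat B).mulVecLin) := rfl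
      _ ≤ finrank ℂ (Submodule.span ℂ (Set.range w)) := Submodule.finrank_mono hsub
      _ ≤ Fintype.card ↥B := finrank_range_le_card w
      _ = Nat.card ↥B := (Nat.card_eq_fintype_card).symm

end Cfsg.Agent.Helper53.Brandt
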