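import Mathlib
import Cfsg.Agent.Helper78.Brandt.Defs

/-!
# (B-R4) of S4607 (Brandt): dimensions over an algebra whose quotient by a nilpotent ideal
is a full matrix algebra

Delivered to helper78 (board #6420).
-/

set_option autoImplicit false

namespace Cfsg.Agent.Helper53.Brandt

open Module Cfsg.Agent.Helper78.Brandt

variable {k : Type*} [Field k] {A : Type*} [Ring A] [Algebra k A]

/-- a family fixed by a "matrix" with entries in a nilpotent ideal vanishes -/
theorem eq_zero_of_eq_sum_mul (J : Ideal A) [J.IsTwoSided] (hJ : ∃ N : ℕ, J ^ N = ⊥)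
    {ι : Type*} [Fintype ι] (q : ι → A) (r : ι → ι → A) (hr : ∀ i j, r i j ∈ J)
    (hq : ∀ i, q i = ∑ j, r i j * q j) : ∀ i, q i = 0 := by
  have hm : ∀ m : ℕ, ∀ i, q i ∈ J ^ m := by
    intro m
    induction m with
    | zero =>
      intro i
      rw [Submodule.pow_zero, Ideal.one_eq_top]
      exact Submodule.mem_top
    | succ m ih =>
      intro i
      rw [hq i, Ideal.IsTwoSided.pow_succ]
      exact Ideal.sum_mem _ (fun j _ => Ideal.mul_mem_mul (hr i j) (ih j))
  obtain ⟨N, hN⟩ := hJ
  intro i
  have := hm N i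
  rw [hN] at this
  exact (Submodule.mem_bot A).mp this

/-- the main dimension count for a `k`-subspace `X` of `A` that is a left ideal -/
theorem finrank_eq_mul_map_mulLeft [FiniteDimensional k A] {n : ℕ} [NeZero n]
    (J : Ideal A) [J.IsTwoSided] (hJ : ∃ N : ℕ, J ^ N = ⊥)
    (φ : (A ⧸ J) ≃ₐ[k] Matrix (Fin n) (Fin n) k) (e : A) (he : IsIdempotentElem e)
    (hφe : φ (Ideal.Quotient.mk J e) = Matrix.single 0 0 1)
    (X : Submodule k A) (hX : ∀ a : A, ∀ x ∈ X, a * x ∈ X) :
    finrank k X = n * finrank k (X.map (LinearMap.mulLeft k e)) := by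
  classical
  -- the ring homomorphism `π : A → Mat_n(k)` with kernel `J`
  let π : A →+* Matrix (Fin n) (Fin n) k :=
    ((φ : (A ⧸ J) →+* Matrix (Fin n) (Fin n) k)).comp (Ideal.Quotient.mk J)
  have hπ : ∀ a : A, π a = 0 → a ∈ J := by
    intro a ha
    have h1 : φ (Ideal.Quotient.mk J a) = 0 := ha
    have h2 : Ideal.Quotient.mk J a = 0 := by
      have := φ.injective (h1.trans (map_zero φ).symm)
      exact this
    exact Ideal.Quotient.eq_zero_iff_mem.mp h2
  have hπe : π e = Matrix.single 0 0 1 := hφe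
  have hlift : ∀ M : Matrix (Fin n) (Fin n) k, ∃ a : A, π a = M := by
    intro M
    obtain ⟨a, ha⟩ := Ideal.Quotient.mk_surjective (φ.symm M)
    refine ⟨a, ?_⟩
    show φ (Ideal.Quotient.mk J a) = M
    rw [ha, AlgEquiv.apply_symm_apply]
  choose u hu using fun i : Fin n => hlift (Matrix.single i 0 1)
  choose v hv using fun i : Fin n => hlift (Matrix.single 0 i 1)
  -- (F1)
  have hF1 : ∀ i j, e * v i * u j * e - (if i = j then e else 0) ∈ J := by
    intro i j
    apply hπ
    rw [map_sub, map_mul, map_mul, map_mul, hπe, hv, hu]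
    by_cases hij : i = j
    · subst hij
      rw [if_pos rfl, hπe]
      simp [Matrix.single_mul_single_same]
    · rw [if_neg hij, map_zero, sub_zero]
      rw [mul_assoc (Matrix.single 0 0 1) (Matrix.single 0 i 1) (Matrix.single j 0 1),
        Matrix.single_mul_single_of_ne (1 : k) 0 i j hij (1 : k)]
      simp
  -- (F2)
  set w : A := ∑ i, u i * e * v i with hw
  have hF2 : 1 - w ∈ J := by
    apply hπ
    rw [map_sub, map_one, hw, map_sum]
    have h1 : ∀ i : Fin n, π (u i * e * v i) = Matrix.single i i 1 := by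
      intro i
      rw [map_mul, map_mul, hπe, hu, hv]
      simp [Matrix.single_mul_single_same]
    rw [Finset.sum_congr rfl (fun i _ => h1 i), Matrix.sum_single_one, sub_self]
  set eX : Submodule k A := X.map (LinearMap.mulLeft k e) with heX
  have heX_le : eX ≤ X := by
    rintro _ ⟨x, hx, rfl⟩
    exact hX e x hx
  have heX_fix : ∀ y ∈ eX, e * y = y := by
    rintro _ ⟨x, hx, rfl⟩
    show e * (e * x) = e * x
    rw [← mul_assoc, he.eq]
  -- the map `Ψ'`
  let Ψ' : ↥X →ₗ[k] (Fin n → ↥eX) :=
    LinearMap.pi (fun i => ((LinearMap.mulLeft k (e * v i)).domRestrict X).codRestrict eX (by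
      intro x
      refine ⟨v i * (x : A), hX _ _ x.2, ?_⟩
      show e * (v i * (x : A)) = (e * v i) * (x : A)
      rw [mul_assoc]))
  have hΨ'_apply : ∀ (x : ↥X) (i : Fin n), ((Ψ' x i : ↥eX) : A) = e * v i * (x : A) :=
    fun x i => rfl
  have hΨ'_inj : Function.Injective Ψ' := by
    rw [← LinearMap.ker_eq_bot, LinearMap.ker_eq_bot']
    intro x hx
    have h1 : ∀ i, e * v i * (x : A) = 0 := by
      intro i
      rw [← hΨ'_apply, hx]
      rfl
    have h2 : w * (x : A) = 0 := by
      rw [hw, Finset.sum_mul]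
      apply Finset.sum_eq_zero
      intro i _
      rw [mul_assoc (u i) e (v i), mul_assoc (u i) (e * v i) (x : A), h1 i, mul_zero]
    have h3 := eq_zero_of_eq_sum_mul J hJ (ι := Unit) (fun _ => (x : A)) (fun _ _ => 1 - w)
      (fun _ _ => hF2) (by
        intro _
        simp only [Finset.univ_unique, Finset.sum_singleton]
        rw [sub_mul, one_mul, h2, sub_zero])
    exact Subtype.ext (h3 ())
  -- the map `Ψ`
  let Ψ : (Fin n → ↥eX) →ₗ[k] ↥X :=
    { toFun := fun q => ⟨∑ i, u i * ((q i : ↥eX) : A),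
        Submodule.sum_mem _ (fun i _ => hX _ _ (heX_le (q i).2))⟩
      map_add' := by
        intro q q'
        apply Subtype.ext
        simp [mul_add, Finset.sum_add_distrib]
      map_smul' := by
        intro c q
        apply Subtype.ext
        simp [Finset.smul_sum] }
  have hΨ_apply : ∀ q : Fin n → ↥eX, ((Ψ q : ↥X) : A) = ∑ i, u i * ((q i : ↥eX) : A) :=
    fun q => rfl
  have hΨ_inj : Function.Injective Ψ := by
    rw [← LinearMap.ker_eq_bot, LinearMap.ker_eq_bot']
    intro q hq
    have h0 : ∑ j, u j * ((q j : ↥eX) : A) = 0 := by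
      rw [← hΨ_apply, hq]
      rfl
    have h1 : ∀ i, ((q i : ↥eX) : A) =
        ∑ j, (-(e * v i * u j * e - (if i = j then e else 0))) * ((q j : ↥eX) : A) := by
      intro i
      have h2 : ∑ j, (e * v i * u j * e) * ((q j : ↥eX) : A) = 0 := by
        have h3 : ∀ j, (e * v i * u j * e) * ((q j : ↥eX) : A) =
            e * v i * (u j * ((q j : ↥eX) : A)) := by
          intro j
          rw [mul_assoc (e * v i * u j) e, heX_fix _ (q j).2, mul_assoc (e * v i) (u j)]
        rw [Finset.sum_congr rfl (fun j _ => h3 j), ← Finset.mul_sum, h0, mul_zero]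
      have h4 : ∑ j, (if i = j then e else 0) * ((q j : ↥eX) : A) = ((q i : ↥eX) : A) := by
        rw [Finset.sum_eq_single i]
        · rw [if_pos rfl, heX_fix _ (q i).2]
        · intro j _ hji
          rw [if_neg (Ne.symm hji), zero_mul]
        · intro h; exact absurd (Finset.mem_univ i) h
      simp only [neg_mul, sub_mul, Finset.sum_neg_distrib, Finset.sum_sub_distrib]
      rw [h2, h4]
      simp
    have h5 := eq_zero_of_eq_sum_mul J hJ (fun i => ((q i : ↥eX) : A))
      (fun i j => -(e * v i * u j * e - (if i = j then e else 0)))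
      (fun i j => J.neg_mem (hF1 i j)) h1
    funext i
    exact Subtype.ext (h5 i)
  -- conclude
  have hle1 : finrank k ↥X ≤ finrank k (Fin n → ↥eX) :=
    LinearMap.finrank_le_finrank_of_injective hΨ'_inj
  have hle2 : finrank k (Fin n → ↥eX) ≤ finrank k ↥X :=
    LinearMap.finrank_le_finrank_of_injective hΨ_inj
  have hpi : finrank k (Fin n → ↥eX) = n * finrank k ↥eX := by
    rw [Module.finrank_pi_fintype]
    simp
  rw [← hpi]
  exact le_antisymm hle1 hle2

/-- (B-R4) dimensions over an algebra whose quotient by a nilpotent ideal is a matrix algebra. -/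
theorem finrank_eq_mul_of_matrix_quotient [FiniteDimensional k A] {n : ℕ} [NeZero n]
    (J : Ideal A) [J.IsTwoSided] (hJ : ∃ N : ℕ, J ^ N = ⊥)
    (φ : (A ⧸ J) ≃ₐ[k] Matrix (Fin n) (Fin n) k) (e : A) (he : IsIdempotentElem e)
    (hφe : φ (Ideal.Quotient.mk J e) = Matrix.single 0 0 1) :
    finrank k A = n * finrank k (rightSpace k e) ∧
      finrank k (leftSpace k e) = n * finrank k (cornerSpace k e) := by
  constructor
  · have h1 := finrank_eq_mul_map_mulLeft J hJ φ e he hφe (⊤ : Submodule k A)
      (fun _ _ _ => Submodule.mem_top)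
    rw [finrank_top, Submodule.map_top] at h1
    exact h1
  · have h1 := finrank_eq_mul_map_mulLeft J hJ φ e he hφe (leftSpace k e) (by
      intro a x hx
      rw [mem_leftSpace] at hx ⊢
      obtain ⟨b, rfl⟩ := hx
      exact ⟨a * b, by rw [mul_assoc]⟩)
    have h2 : (leftSpace k e).map (LinearMap.mulLeft k e) = cornerSpace k e := by
      rw [leftSpace, cornerSpace, LinearMap.range_comp]
    rw [h2] at h1
    exact h1

end Cfsg.Agent.Helper53.Brandt
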