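import Mathlib

set_option autoImplicit false

/-!
# Camina–Herzog: abstract module lemmas

`key_module`: an odd-order automorphism `ρ` of a finite abelian 2-group `V`, inverted by `t`:
there is an involution `a` moved by `t` whose commutator `a⁻¹ t(a)` is not fixed by `ρ`.
-/

namespace Cfsg.Agent.Helper53.CH

section KeyModule

variable {V : Type*} [Group V]

/-- the commutator map `v ↦ v⁻¹ ρ(v)` as a homomorphism (the group is commutative) -/
def delta (hcomm : ∀ a b : V, a * b = b * a) (ρ : MulAut V) : V →* V where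
  toFun v := v⁻¹ * ρ v
  map_one' := by simp
  map_mul' a b := by
    simp only [map_mul, mul_inv_rev]
    rw [hcomm b⁻¹ a⁻¹, mul_assoc, mul_assoc]
    congr 1
    rw [← mul_assoc, ← mul_assoc, hcomm b⁻¹ (ρ a)]

lemma delta_apply (hcomm : ∀ a b : V, a * b = b * a) (ρ : MulAut V) (v : V) :
    delta hcomm ρ v = v⁻¹ * ρ v := rfl

/-- a `ρ`-fixed commutator is killed by the order of `ρ` -/
lemma fixed_delta_pow (ρ : MulAut V) (v : V)
    (hfix : ρ (v⁻¹ * ρ v) = v⁻¹ * ρ v) (n : ℕ) :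
    (v⁻¹ * ρ v) ^ n = v⁻¹ * (ρ ^ n) v := by
  induction n with
  | zero => simp
  | succ n ih =>
    have h1 : ∀ m : ℕ, (ρ ^ m) (v⁻¹ * ρ v) = v⁻¹ * ρ v := by
      intro m
      induction m with
      | zero => simp
      | succ m ihm => rw [pow_succ, MulAut.mul_apply, hfix, ihm]
    have h2 := h1 n
    rw [map_mul, map_inv] at h2
    have h3 : (ρ ^ n) (ρ v) = (ρ ^ (n + 1)) v := by
      rw [pow_succ, MulAut.mul_apply]
    rw [pow_succ, ih, ← h2, h3]
    group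

lemma key_module [Finite V] (hcomm : ∀ a b : V, a * b = b * a)
    (hV : IsPGroup 2 V) (t ρ : MulAut V)
    (hinv : t * ρ * t⁻¹ = ρ⁻¹) (k : ℕ) (hk : Odd k) (hρk : ρ ^ k = 1) (hρ : ρ ≠ 1) :
    ∃ a : V, a * a = 1 ∧ t a ≠ a ∧ ρ (a⁻¹ * t a) ≠ a⁻¹ * t a := by
  classical
  -- fixed commutators are trivial
  have hU0 : ∀ v : V, ρ (v⁻¹ * ρ v) = v⁻¹ * ρ v → v⁻¹ * ρ v = 1 := by
    intro v hfix
    have h1 := fixed_delta_pow ρ v hfix k
    rw [hρk] at h1
    simp only [MulAut.one_apply, inv_mul_cancel] at h1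
    obtain ⟨i, hi⟩ := hV (v⁻¹ * ρ v)
    have h2 : orderOf (v⁻¹ * ρ v) ∣ k := orderOf_dvd_of_pow_eq_one h1
    have h3 : orderOf (v⁻¹ * ρ v) ∣ 2 ^ i := orderOf_dvd_of_pow_eq_one hi
    have h4 : orderOf (v⁻¹ * ρ v) ∣ Nat.gcd k (2 ^ i) := Nat.dvd_gcd h2 h3
    have h5 : Nat.gcd k (2 ^ i) = 1 := by
      apply Nat.Coprime.pow_right
      exact Nat.coprime_two_right.mpr hk
    rw [h5, Nat.dvd_one, orderOf_eq_one_iff] at h4
    exact h4
  -- t ρ = ρ⁻¹ t
  have htρ : ∀ v : V, t (ρ v) = ρ⁻¹ (t v) := by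
    intro v
    have h1 : t * ρ = ρ⁻¹ * t := by
      rw [← hinv]; group
    have := congrArg (fun f : MulAut V => f v) h1
    simpa [MulAut.mul_apply] using this
  -- ρ² w = w → ρ w = w
  have hsq : ∀ w : V, ρ (ρ w) = w → ρ w = w := by
    intro w hw
    obtain ⟨m, hm⟩ := hk
    have h1 : ∀ n : ℕ, (ρ ^ (2 * n)) w = w := by
      intro n
      induction n with
      | zero => simp
      | succ n ih =>
        have : 2 * (n + 1) = 2 * n + 1 + 1 := by ring
        rw [this, pow_succ, pow_succ, MulAut.mul_apply, MulAut.mul_apply, hw, ih]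
    have h2 : (ρ ^ k) (ρ w) = ρ w := by rw [hρk]; simp
    rw [hm, pow_succ, MulAut.mul_apply, hw, h1 m] at h2
    exact h2.symm
  -- the subgroup U
  set δ := delta hcomm ρ with hδ
  -- a nontrivial element of U
  have hne : ∃ v : V, ρ v ≠ v := by
    by_contra hcon
    push Not at hcon
    apply hρ
    ext v
    simpa using hcon v
  obtain ⟨v0, hv0⟩ := hne
  have hw0 : δ v0 ≠ 1 := by
    rw [hδ, delta_apply]
    intro h
    apply hv0
    have : ρ v0 = v0 * (v0⁻¹ * ρ v0) := by group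
    rw [this, h, mul_one]
  -- an involution of U
  obtain ⟨i, hi⟩ := hV (δ v0)
  have hord : ∃ i0 : ℕ, orderOf (δ v0) = 2 ^ i0 := by
    have h3 : orderOf (δ v0) ∣ 2 ^ i := orderOf_dvd_of_pow_eq_one hi
    obtain ⟨i0, _, hi0⟩ := (Nat.dvd_prime_pow Nat.prime_two).mp h3
    exact ⟨i0, hi0⟩
  obtain ⟨i0, hi0⟩ := hord
  have hi0pos : i0 ≠ 0 := by
    intro h
    rw [h, pow_zero, orderOf_eq_one_iff] at hi0
    exact hw0 hi0
  obtain ⟨i1, rfl⟩ := Nat.exists_eq_succ_of_ne_zero hi0pos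
  set v1 := v0 ^ (2 ^ i1) with hv1
  have ha0 : δ v1 = (δ v0) ^ (2 ^ i1) := by rw [hv1, map_pow]
  have ha0sq : δ v1 * δ v1 = 1 := by
    rw [ha0, ← pow_add, ← two_mul, ← pow_succ', ← hi0, pow_orderOf_eq_one]
  have ha0ne : δ v1 ≠ 1 := by
    rw [ha0]
    intro h
    have h1 : orderOf (δ v0) ∣ 2 ^ i1 := orderOf_dvd_of_pow_eq_one h
    rw [hi0] at h1
    have h2 : 2 ^ (i1 + 1) ≤ 2 ^ i1 := Nat.le_of_dvd (by positivity) h1
    have h3 : 2 ^ i1 < 2 ^ (i1 + 1) := Nat.pow_lt_pow_right (by norm_num) (Nat.lt_succ_self _)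
    omega
  -- invariance of U under ρ and t
  have hUρ : ∀ v : V, ρ (δ v) = δ (ρ v) := by
    intro v
    simp [hδ, delta_apply]
  have hUt : ∀ v : V, t (δ v) = (δ (ρ⁻¹ (t v)))⁻¹ := by
    intro v
    simp only [hδ, delta_apply, map_mul, map_inv, htρ]
    simp only [MulAut.apply_inv_self, mul_inv_rev, inv_inv]
  -- finishing: generic step
  have hfin : ∀ v : V, δ v * δ v = 1 → t (δ v) ≠ δ v →
      ∃ a : V, a * a = 1 ∧ t a ≠ a ∧ ρ (a⁻¹ * t a) ≠ a⁻¹ * t a := by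
    intro v hsqv htv
    refine ⟨δ v, hsqv, htv, ?_⟩
    -- the commutator is δ of something
    have h1 : (δ v)⁻¹ * t (δ v) = δ (v⁻¹ * (ρ⁻¹ (t v))⁻¹) := by
      rw [hUt, map_mul, map_inv, map_inv]
    intro hfix
    rw [h1] at hfix
    have h3 : δ (v⁻¹ * (ρ⁻¹ (t v))⁻¹) = 1 := hU0 _ hfix
    rw [← h1] at h3
    apply htv
    have : t (δ v) = δ v * ((δ v)⁻¹ * t (δ v)) := by group
    rw [this, h3, mul_one]
  by_cases h1 : t (δ v1) = δ v1
  · -- use ρ (δ v1) = δ (ρ v1)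
    apply hfin (ρ v1)
    · rw [← hUρ, ← map_mul, ha0sq, map_one]
    · intro h2
      rw [← hUρ, htρ, h1] at h2
      -- ρ⁻¹ a0 = ρ a0 → ρ² a0 = a0
      have h3 : ρ (ρ (δ v1)) = δ v1 := by
        rw [← h2]; simp
      have h4 := hsq _ h3
      exact ha0ne (hU0 v1 h4)
  · exact hfin v1 ha0sq h1

end KeyModule

end Cfsg.Agent.Helper53.CH

namespace Cfsg.Agent.Helper53.CH

section NotTwo

variable {V : Type*} [Group V]

lemma fix_conj (α β : MulAut V) :
    {v | (α * β * α⁻¹) v = v} = α '' {v | β v = v} := by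
  ext v
  constructor
  · intro h
    have h' : α (β (α⁻¹ v)) = v := h
    refine ⟨α⁻¹ v, ?_, by simp⟩
    show β (α⁻¹ v) = α⁻¹ v
    have := congrArg (fun x => (α⁻¹ : MulAut V) x) h'
    simp only [MulAut.inv_apply_self] at this
    exact this
  · rintro ⟨w, hw, rfl⟩
    have hw' : β w = w := hw
    show α (β (α⁻¹ (α w))) = α w
    simp [hw']

lemma isPGroup_zpowers_of_pow {H : Type*} [Group H] (x : H) (k : ℕ) (hx : x ^ (2 ^ k) = 1) :
    IsPGroup 2 ↥(Subgroup.zpowers x) := by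
  rintro ⟨g, hg⟩
  obtain ⟨i, rfl⟩ := Subgroup.mem_zpowers_iff.mp hg
  refine ⟨k, ?_⟩
  apply Subtype.ext
  simp only [Subgroup.coe_pow, Subgroup.coe_one]
  rw [← zpow_natCast, ← zpow_mul, mul_comm, zpow_mul, zpow_natCast, hx, one_zpow]

lemma not_two_elt {N : Type*} [Group N] [Finite N] (θ : N →* MulAut V)
    (Q : Sylow 2 N) (Z' : Set V)
    (hfix : ∀ y ∈ Q, θ y ≠ 1 → {v | θ y v = v} = Z')
    (b : N) (hb : b ∈ Q) (hb1 : θ b ≠ 1) (hb2 : θ b * θ b = 1)
    (n0 : N) (hn0 : (θ n0) '' Z' ≠ Z') (j : ℕ) :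
    (θ b * θ (n0 * b * n0⁻¹)) ^ (2 ^ j) ≠ 1 := by
  intro hpow
  set τ := θ b with hτ
  set υ := θ (n0 * b * n0⁻¹) with hυ
  set π := τ * υ with hπ
  have hυ' : υ = θ n0 * τ * (θ n0)⁻¹ := by
    rw [hυ, map_mul, map_mul, map_inv]
  have hτinv : τ⁻¹ = τ := by
    rw [inv_eq_iff_mul_eq_one]; exact hb2
  have hυ2 : υ * υ = 1 := by
    rw [hυ']
    have : θ n0 * τ * (θ n0)⁻¹ * (θ n0 * τ * (θ n0)⁻¹) = θ n0 * (τ * τ) * (θ n0)⁻¹ := by group
    rw [this, hb2]; group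
  have hυinv : υ⁻¹ = υ := by
    rw [inv_eq_iff_mul_eq_one]; exact hυ2
  have hconj : τ * π * τ⁻¹ = π⁻¹ := by
    rw [hπ, mul_inv_rev, hτinv, hυinv, ← mul_assoc, hb2, one_mul]
  -- the 2-group D
  have hpτ : IsPGroup 2 ↥(Subgroup.zpowers τ) :=
    isPGroup_zpowers_of_pow τ 1 (by rw [pow_one, pow_two]; exact hb2)
  have hpπ : IsPGroup 2 ↥(Subgroup.zpowers π) := isPGroup_zpowers_of_pow π j hpow
  have hnorm : Subgroup.zpowers τ ≤ Subgroup.normalizer (Subgroup.zpowers π : Set (MulAut V)) := by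
    rw [Subgroup.zpowers_le]
    have hfw : ∀ h ∈ Subgroup.zpowers π, τ * h * τ⁻¹ ∈ Subgroup.zpowers π := by
      intro h hh
      obtain ⟨i, rfl⟩ := Subgroup.mem_zpowers_iff.mp hh
      rw [← conj_zpow, hconj]
      exact Subgroup.zpow_mem _ (Subgroup.inv_mem _ (Subgroup.mem_zpowers π)) i
    rw [Subgroup.mem_normalizer_iff]
    intro h
    constructor
    · exact hfw h
    · intro hh
      have := hfw _ hh
      have h2 : τ * (τ * h * τ⁻¹) * τ⁻¹ = h := by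
        rw [hτinv]
        have : τ * (τ * h * τ) * τ = (τ * τ) * h * (τ * τ) := by group
        rw [this, hb2]; group
      rwa [h2] at this
  have hD : IsPGroup 2 ↥(Subgroup.zpowers τ ⊔ Subgroup.zpowers π : Subgroup (MulAut V)) :=
    hpτ.to_sup_of_normal_right' hpπ hnorm
  set D : Subgroup (MulAut V) := Subgroup.zpowers τ ⊔ Subgroup.zpowers π with hDdef
  have hτD : τ ∈ D := (le_sup_left : Subgroup.zpowers τ ≤ D) (Subgroup.mem_zpowers τ)
  have hπD : π ∈ D := (le_sup_right : Subgroup.zpowers π ≤ D) (Subgroup.mem_zpowers π)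
  have hυD : υ ∈ D := by
    have : υ = τ⁻¹ * π := by rw [hπ]; group
    rw [this]
    exact D.mul_mem (D.inv_mem hτD) hπD
  have hDrange : D ≤ θ.range := by
    rw [hDdef]
    apply sup_le
    · rw [Subgroup.zpowers_le]; exact ⟨b, rfl⟩
    · rw [Subgroup.zpowers_le]
      exact ⟨b * (n0 * b * n0⁻¹), by rw [map_mul]⟩
  -- Sylow in the range
  have hf : Function.Surjective θ.rangeRestrict := θ.rangeRestrict_surjective
  have : Finite ↥θ.range := Finite.of_surjective _ hf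
  let Qbar : Sylow 2 ↥θ.range := Q.mapSurjective hf
  obtain ⟨Q', hQ'⟩ := (hD.comap_subtype (K := θ.range)).exists_le_sylow
  obtain ⟨gbar, hgbar⟩ := MulAction.exists_smul_eq ↥θ.range Q' Qbar
  obtain ⟨g, hg⟩ := hf gbar
  -- consequences for elements of D
  have key : ∀ d ∈ D, ∃ y ∈ Q, θ g * d * (θ g)⁻¹ = θ y := by
    intro d hd
    have h1 : (⟨d, hDrange hd⟩ : ↥θ.range) ∈ (Q' : Subgroup ↥θ.range) := hQ' hd
    have h2 : gbar * ⟨d, hDrange hd⟩ * gbar⁻¹ ∈ (Qbar : Subgroup ↥θ.range) := by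
      rw [← hgbar, Sylow.coe_subgroup_smul]
      exact ⟨_, h1, rfl⟩
    rw [Sylow.coe_mapSurjective] at h2
    obtain ⟨y, hy, hy2⟩ := h2
    refine ⟨y, hy, ?_⟩
    have h3 := congrArg Subtype.val hy2
    rw [← hg] at h3
    simpa using h3.symm
  obtain ⟨b1, hb1Q, hb1eq⟩ := key τ hτD
  obtain ⟨b2, hb2Q, hb2eq⟩ := key υ hυD
  have hτfix : {v | τ v = v} = Z' := hfix b hb hb1
  have hb1ne : θ b1 ≠ 1 := by
    rw [← hb1eq]
    intro h
    apply hb1
    have : τ = (θ g)⁻¹ * (θ g * τ * (θ g)⁻¹) * θ g := by group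
    rw [this, h]; group
  have hυne : υ ≠ 1 := by
    rw [hυ']
    intro h
    apply hb1
    have : τ = (θ n0)⁻¹ * (θ n0 * τ * (θ n0)⁻¹) * θ n0 := by group
    rw [this, h]; group
  have hb2ne : θ b2 ≠ 1 := by
    rw [← hb2eq]
    intro h
    apply hυne
    have : υ = (θ g)⁻¹ * (θ g * υ * (θ g)⁻¹) * θ g := by group
    rw [this, h]; group
  have e1 : (θ g) '' Z' = Z' := by
    have h1 := hfix b1 hb1Q hb1ne
    rw [← hb1eq, fix_conj, hτfix] at h1
    exact h1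
  have e2 : (θ g) '' ((θ n0) '' Z') = Z' := by
    have h1 := hfix b2 hb2Q hb2ne
    rw [← hb2eq, fix_conj, hυ', fix_conj, hτfix] at h1
    exact h1
  apply hn0
  have h3 : (θ g) '' ((θ n0) '' Z') = (θ g) '' Z' := by rw [e1, e2]
  exact (Set.image_injective.mpr (θ g).injective) h3

end NotTwo

end Cfsg.Agent.Helper53.CH
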