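import Mathlib
import Cfsg.Agent.Helper53.Cj

set_option autoImplicit false

namespace Cfsg.Agent.Helper53

open scoped Pointwise

variable {G : Type*} [Group G]

/-- Sylow's theorem for a Sylow `p`-subgroup `P` of a subgroup `H`, stated inside `G`: every
`p`-subgroup of `H` lies in an `H`-conjugate of `P`. -/
lemma pgroup_le_conj_sylow_of_subgroup [Finite G] {p : ℕ} [Fact p.Prime] (H : Subgroup G)
    (P : Sylow p ↥H) (B : Subgroup G) (hB : IsPGroup p ↥B) (hBH : B ≤ H) :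
    ∃ m ∈ H, B ≤ MulAut.conj m • ((P : Subgroup ↥H).map H.subtype) := by
  obtain ⟨Q', hQ'⟩ := (hB.comap_subtype (K := H)).exists_le_sylow
  obtain ⟨m, hm⟩ := MulAction.exists_smul_eq ↥H P Q'
  refine ⟨m, m.2, ?_⟩
  intro b hb
  have h1 : (⟨b, hBH hb⟩ : ↥H) ∈ (Q' : Subgroup ↥H) := hQ' hb
  rw [← hm, Sylow.coe_subgroup_smul, mem_conj_smul] at h1
  rw [mem_conj_smul]
  exact ⟨_, h1, by simp⟩

/-- A Sylow `p`-subgroup of a subgroup `D` is maximal among the `p`-subgroups of `D`. -/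
lemma eq_map_sylow_of_le [Finite G] {p : ℕ} [Fact p.Prime] (D : Subgroup G) (Q0 : Sylow p ↥D)
    (T : Subgroup G) (hT : IsPGroup p ↥T) (hTD : T ≤ D)
    (hQT : (Q0 : Subgroup ↥D).map D.subtype ≤ T) : T = (Q0 : Subgroup ↥D).map D.subtype := by
  have h1 : (Q0 : Subgroup ↥D) ≤ T.subgroupOf D := by
    intro x hx
    rw [Subgroup.mem_subgroupOf]
    exact hQT ⟨x, hx, rfl⟩
  have h2 : T.subgroupOf D = (Q0 : Subgroup ↥D) := Q0.3 (hT.comap_subtype (K := D)) h1
  rw [← h2, Subgroup.map_subgroupOf_eq_of_le hTD]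

/-- The image in `G` of a Sylow `p`-subgroup of a subgroup is a `p`-group. -/
lemma isPGroup_map_sylow {p : ℕ} (H : Subgroup G) (P : Sylow p ↥H) :
    IsPGroup p ↥((P : Subgroup ↥H).map H.subtype) := P.2.map _

lemma isPGroup_cj {p : ℕ} {B : Subgroup G} (hB : IsPGroup p ↥B) (g : G) :
    IsPGroup p ↥(MulAut.conj g • B : Subgroup G) := by
  rw [← cj_def]
  exact hB.map _

end Cfsg.Agent.Helper53
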