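import Mathlib
import Cfsg.Agent.Helper53.Cj
import Cfsg.Agent.Helper53.SylowSub
import Cfsg.Agent.Helper53.PGroup

set_option autoImplicit false

/-!
# Camina–Herzog: basic consequences of "every 2-element has odd class size"
-/

namespace Cfsg.Agent.Helper53.CH

open scoped Pointwise

variable {G : Type*} [Group G]

/-- every 2-element has odd class size -/
def OddClass (G : Type*) [Group G] : Prop :=
  ∀ x : G, (∃ k : ℕ, orderOf x = 2 ^ k) → ¬ 2 ∣ (Subgroup.centralizer ({x} : Set G)).index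

/-- `z` lies in the centre of the subgroup `S` -/
def IsCentralIn (S : Subgroup G) (z : G) : Prop := z ∈ S ∧ ∀ s ∈ S, s * z = z * s

lemma IsCentralIn.mul {S : Subgroup G} {z w : G} (hz : IsCentralIn S z) (hw : IsCentralIn S w) :
    IsCentralIn S (z * w) := by
  refine ⟨S.mul_mem hz.1 hw.1, fun s hs => ?_⟩
  rw [← mul_assoc, hz.2 s hs, mul_assoc, hw.2 s hs, mul_assoc]

lemma IsCentralIn.conj {S : Subgroup G} {z n : G} (hz : IsCentralIn S z)
    (hn : n ∈ Subgroup.normalizer (S : Set G)) : IsCentralIn S (n * z * n⁻¹) := by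
  rw [Subgroup.mem_normalizer_iff] at hn
  refine ⟨(hn z).mp hz.1, fun s hs => ?_⟩
  have h1 : n⁻¹ * s * n ∈ S := by
    rw [hn]; simpa [mul_assoc] using hs
  have h2 := hz.2 _ h1
  have e1 : s * (n * z * n⁻¹) = n * ((n⁻¹ * s * n) * z) * n⁻¹ := by group
  have e2 : n * z * n⁻¹ * s = n * (z * (n⁻¹ * s * n)) * n⁻¹ := by group
  rw [e1, e2, h2]

lemma two_elt_of_mem {H : Subgroup G} (hH : IsPGroup 2 ↥H) {x : G} (hx : x ∈ H) :
    ∃ k : ℕ, orderOf x = 2 ^ k := by
  have : Fact (Nat.Prime 2) := ⟨Nat.prime_two⟩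
  obtain ⟨k, hk⟩ := (IsPGroup.iff_orderOf.mp hH) ⟨x, hx⟩
  exact ⟨k, by rw [← hk, Subgroup.orderOf_mk]⟩

lemma pow_two_pow_eq_one {x : G} (hx : ∃ k : ℕ, orderOf x = 2 ^ k) : ∃ k : ℕ, x ^ (2 ^ k) = 1 := by
  obtain ⟨k, hk⟩ := hx
  exact ⟨k, by rw [← hk, pow_orderOf_eq_one]⟩

lemma isPGroup_zpowers {x : G} (hx : ∃ k : ℕ, orderOf x = 2 ^ k) :
    IsPGroup 2 ↥(Subgroup.zpowers x) := by
  obtain ⟨k, hk⟩ := pow_two_pow_eq_one hx
  rintro ⟨g, hg⟩
  obtain ⟨i, rfl⟩ := Subgroup.mem_zpowers_iff.mp hg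
  refine ⟨k, ?_⟩
  apply Subtype.ext
  simp only [Subgroup.coe_pow, Subgroup.coe_one]
  rw [← zpow_natCast, ← zpow_mul, mul_comm, zpow_mul, zpow_natCast, hk, one_zpow]

lemma mem_centralizer_singleton {x g : G} :
    g ∈ Subgroup.centralizer ({x} : Set G) ↔ g * x = x * g := by
  rw [Subgroup.mem_centralizer_iff]
  constructor
  · intro h; exact (h x rfl).symm
  · intro h y hy
    rw [Set.mem_singleton_iff] at hy
    rw [hy]; exact h.symm

variable [Finite G]

/-- a Sylow 2-subgroup of `G` centralizing the 2-element `x` and containing a given 2-subgroup of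
the centralizer -/
lemma exists_sylow_centralizer (hH : OddClass G) {x : G} (hx : ∃ k : ℕ, orderOf x = 2 ^ k)
    (D : Subgroup G) (hD : IsPGroup 2 ↥D) (hDC : D ≤ Subgroup.centralizer ({x} : Set G)) :
    ∃ R : Sylow 2 G, (R : Subgroup G) ≤ Subgroup.centralizer ({x} : Set G) ∧
      D ≤ (R : Subgroup G) ∧ x ∈ (R : Subgroup G) := by
  have : Fact (Nat.Prime 2) := ⟨Nat.prime_two⟩
  set C := Subgroup.centralizer ({x} : Set G) with hC
  have hxC : x ∈ C := by rw [hC, mem_centralizer_singleton]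
  -- D ⊔ ⟨x⟩ is a 2-group
  have hnorm : D ≤ Subgroup.normalizer (Subgroup.zpowers x : Set G) := by
    intro d hd
    have hdx : d * x = x * d := mem_centralizer_singleton.mp (hDC hd)
    rw [Subgroup.mem_normalizer_iff]
    intro h
    have key : ∀ y ∈ Subgroup.zpowers x, d * y * d⁻¹ = y := by
      intro y hy
      obtain ⟨i, rfl⟩ := Subgroup.mem_zpowers_iff.mp hy
      have : Commute d (x ^ i) := (show Commute d x from hdx).zpow_right i
      rw [this.eq]; group
    constructor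
    · intro hh; rw [key h hh]; exact hh
    · intro hh
      have h1 := key _ hh
      have h2 : d * h * d⁻¹ = h := by
        have := congrArg (fun t => d⁻¹ * t * d) h1
        simpa [mul_assoc] using this
      rw [← h2]; exact hh
  have hD1 : IsPGroup 2 ↥(D ⊔ Subgroup.zpowers x : Subgroup G) :=
    hD.to_sup_of_normal_right' (isPGroup_zpowers hx) hnorm
  have hD1C : D ⊔ Subgroup.zpowers x ≤ C := by
    apply sup_le hDC
    rw [Subgroup.zpowers_le]; exact hxC
  obtain ⟨RC, hRC⟩ := (hD1.comap_subtype (K := C)).exists_le_sylow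
  set R : Subgroup G := (RC : Subgroup ↥C).map C.subtype with hR
  have hRp : IsPGroup 2 ↥R := RC.2.map _
  have hRidx : ¬ 2 ∣ R.index := by
    rw [hR, Subgroup.index_map_subtype]
    intro h
    rcases (Nat.Prime.dvd_mul Nat.prime_two).mp h with h1 | h1
    · exact RC.not_dvd_index h1
    · exact hH x hx h1
  refine ⟨hRp.toSylow hRidx, ?_, ?_, ?_⟩
  · show R ≤ C
    rw [hR]; exact Subgroup.map_subtype_le _
  · show D ≤ R
    intro d hd
    have h1 : d ∈ D ⊔ Subgroup.zpowers x := (le_sup_left : D ≤ _) hd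
    exact ⟨⟨d, hD1C h1⟩, hRC h1, rfl⟩
  · show x ∈ R
    have h1 : x ∈ D ⊔ Subgroup.zpowers x :=
      (le_sup_right : Subgroup.zpowers x ≤ _) (Subgroup.mem_zpowers x)
    exact ⟨⟨x, hD1C h1⟩, hRC h1, rfl⟩

/-- conjugating a 2-element into the centre of a given Sylow 2-subgroup, together with a
2-subgroup of its centralizer -/
lemma exists_conj_center (hH : OddClass G) (S : Sylow 2 G) {x : G}
    (hx : ∃ k : ℕ, orderOf x = 2 ^ k)
    (D : Subgroup G) (hD : IsPGroup 2 ↥D) (hDC : D ≤ Subgroup.centralizer ({x} : Set G)) :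
    ∃ g : G, IsCentralIn (S : Subgroup G) (g * x * g⁻¹) ∧ ∀ d ∈ D, g * d * g⁻¹ ∈ (S : Subgroup G) := by
  have : Fact (Nat.Prime 2) := ⟨Nat.prime_two⟩
  obtain ⟨R, hRC, hDR, hxR⟩ := exists_sylow_centralizer hH hx D hD hDC
  obtain ⟨g, hg⟩ := MulAction.exists_smul_eq G R S
  have hS : (S : Subgroup G) = MulAut.conj g • (R : Subgroup G) := by
    rw [← hg, Sylow.coe_subgroup_smul]
  have hmem : ∀ r ∈ (R : Subgroup G), g * r * g⁻¹ ∈ (S : Subgroup G) := by
    intro r hr
    rw [hS]; exact cj_mem'.mpr hr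
  refine ⟨g, ⟨hmem x hxR, ?_⟩, fun d hd => hmem d (hDR hd)⟩
  intro s hs
  rw [hS] at hs
  obtain ⟨r, hr, rfl⟩ := hs
  have hrx : r * x = x * r := mem_centralizer_singleton.mp (hRC hr)
  simp only [MulDistribMulAction.toMonoidEnd_apply, MulDistribMulAction.toMonoidHom_apply,
    MulAut.smul_def, MulAut.conj_apply]
  have e1 : g * r * g⁻¹ * (g * x * g⁻¹) = g * (r * x) * g⁻¹ := by group
  have e2 : g * x * g⁻¹ * (g * r * g⁻¹) = g * (x * r) * g⁻¹ := by group
  rw [e1, e2, hrx]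

/-- no 2-element of order at least 4 is inverted -/
lemma no_invert (hH : OddClass G) {w g : G} (hw : ∃ k : ℕ, orderOf w = 2 ^ k)
    (hg : g * w * g⁻¹ = w⁻¹) : w * w = 1 := by
  by_contra hne
  have hne' : w⁻¹ ≠ w := by
    intro h
    apply hne
    rw [← h] at *
    nth_rewrite 2 [← h]
    simp
  -- the extended centralizer
  let Cs : Subgroup G :=
    { carrier := {h | h * w * h⁻¹ = w ∨ h * w * h⁻¹ = w⁻¹}
      one_mem' := by left; simp
      mul_mem' := by
        intro a b ha hb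
        have e : a * b * w * (a * b)⁻¹ = a * (b * w * b⁻¹) * a⁻¹ := by group
        rcases ha with ha | ha <;> rcases hb with hb | hb
        · left; rw [e, hb, ha]
        · right
          rw [e, hb]
          have : a * w⁻¹ * a⁻¹ = (a * w * a⁻¹)⁻¹ := by group
          rw [this, ha]
        · right; rw [e, hb, ha]
        · left
          rw [e, hb]
          have : a * w⁻¹ * a⁻¹ = (a * w * a⁻¹)⁻¹ := by group
          rw [this, ha, inv_inv]
      inv_mem' := by
        intro a ha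
        rcases ha with ha | ha
        · left
          calc a⁻¹ * w * a⁻¹⁻¹ = a⁻¹ * (a * w * a⁻¹) * a := by rw [ha, inv_inv]
            _ = w := by group
        · right
          calc a⁻¹ * w * a⁻¹⁻¹ = (a⁻¹ * w⁻¹ * a)⁻¹ := by group
            _ = (a⁻¹ * (a * w * a⁻¹) * a)⁻¹ := by rw [ha]
            _ = w⁻¹ := by group }
  have hmemCs : ∀ h, h ∈ Cs ↔ (h * w * h⁻¹ = w ∨ h * w * h⁻¹ = w⁻¹) := fun h => Iff.rfl
  set C := Subgroup.centralizer ({w} : Set G) with hC
  have hmemC : ∀ h, h ∈ C ↔ h * w * h⁻¹ = w := by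
    intro h
    rw [hC, mem_centralizer_singleton]
    constructor
    · intro e; rw [e]; group
    · intro e
      have : h * w = (h * w * h⁻¹) * h := by group
      rw [this, e]
  have hle : C ≤ Cs := fun h hh => Or.inl ((hmemC h).mp hh)
  have hrel : C.relIndex Cs = 2 := by
    rw [Subgroup.relIndex_eq_two_iff]
    refine ⟨g, Or.inr hg, ?_⟩
    intro b hb
    have e : b * g * w * (b * g)⁻¹ = b * (g * w * g⁻¹) * b⁻¹ := by group
    rcases hb with hb | hb
    · -- b ∈ C
      refine Or.inr ⟨(hmemC b).mpr hb, ?_⟩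
      rw [hmemC, e, hg]
      have : b * w⁻¹ * b⁻¹ = (b * w * b⁻¹)⁻¹ := by group
      rw [this, hb]
      exact hne'
    · refine Or.inl ⟨?_, ?_⟩
      · rw [hmemC, e, hg]
        have : b * w⁻¹ * b⁻¹ = (b * w * b⁻¹)⁻¹ := by group
        rw [this, hb, inv_inv]
      · rw [hmemC, hb]
        exact hne'
  have h2 := Subgroup.relIndex_mul_index hle
  rw [hrel] at h2
  exact hH w hw ⟨Cs.index, h2.symm⟩

/-- Burnside: `N_G(S)` controls fusion in `Z(S)` -/
lemma burnside_center (S : Sylow 2 G) {z g : G} (hz : IsCentralIn (S : Subgroup G) z)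
    (hz' : IsCentralIn (S : Subgroup G) (g * z * g⁻¹)) :
    ∃ n ∈ Subgroup.normalizer ((S : Subgroup G) : Set G), g * z * g⁻¹ = n * z * n⁻¹ := by
  have : Fact (Nat.Prime 2) := ⟨Nat.prime_two⟩
  have h1 : z ∈ Subgroup.centralizer ((S : Subgroup G) : Set G) := by
    rw [Subgroup.mem_centralizer_iff]
    intro s hs; exact hz.2 s hs
  have h2 : (g⁻¹)⁻¹ * z * g⁻¹ ∈ Subgroup.centralizer ((S : Subgroup G) : Set G) := by
    rw [inv_inv, Subgroup.mem_centralizer_iff]
    intro s hs; exact hz'.2 s hs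
  obtain ⟨n, hn, hn2⟩ := S.conj_eq_normalizer_conj_of_mem_centralizer z g⁻¹ h1 h2
  refine ⟨n⁻¹, Subgroup.inv_mem _ hn, ?_⟩
  rw [inv_inv] at hn2 ⊢
  exact hn2

end Cfsg.Agent.Helper53.CH
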