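import Mathlib
import Cfsg.Agent.Helper53.CH2

set_option autoImplicit false

/-!
# Camina–Herzog: the straightening lemma

If `a` is an involution of the Sylow 2-subgroup `S`, `b ∈ S`, `a` commutes with `b²` and the
commutator `c = a⁻¹ b a b⁻¹` is central in `S`, then `c` is the square of a central element.
-/

namespace Cfsg.Agent.Helper53.CH

open scoped Pointwise

variable {G : Type*} [Group G] [Finite G]

lemma straighten (hH : OddClass G) (S : Sylow 2 G) {a b : G}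
    (ha : a ∈ (S : Subgroup G)) (hb : b ∈ (S : Subgroup G))
    (ha2 : a * a = 1) (hab : a * (b * b) = (b * b) * a)
    (hcZ : IsCentralIn (S : Subgroup G) (a⁻¹ * (b * a * b⁻¹))) :
    ∃ z, IsCentralIn (S : Subgroup G) z ∧ a⁻¹ * (b * a * b⁻¹) = z * z := by
  set c := a⁻¹ * (b * a * b⁻¹) with hc
  have hSp : IsPGroup 2 ↥(S : Subgroup G) := S.2
  -- step 1: b is conjugate to a central element
  obtain ⟨g0, hζ0, -⟩ := exists_conj_center hH S (two_elt_of_mem hSp hb) ⊥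
    (IsPGroup.of_bot) bot_le
  set ζ0 := g0 * b * g0⁻¹ with hζ0def
  -- step 2: conjugate C_S(b²) into S with b² central
  set β := b * b with hβ
  have hβS : β ∈ (S : Subgroup G) := Subgroup.mul_mem _ hb hb
  set D : Subgroup G := (S : Subgroup G) ⊓ Subgroup.centralizer ({β} : Set G) with hD
  have hDp : IsPGroup 2 ↥D := hSp.to_le inf_le_left
  obtain ⟨g, hβ', hgD⟩ := exists_conj_center hH S (two_elt_of_mem hSp hβS) D hDp inf_le_right
  have haD : a ∈ D := ⟨ha, mem_centralizer_singleton.mpr hab⟩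
  have hbD : b ∈ D := ⟨hb, mem_centralizer_singleton.mpr (by rw [hβ]; group)⟩
  have hcD : c ∈ D := ⟨hcZ.1, mem_centralizer_singleton.mpr ((hcZ.2 β hβS).symm)⟩
  -- step 3: g β g⁻¹ is the square of a central element
  have hζ0sq : IsCentralIn (S : Subgroup G) (ζ0 * ζ0) := hζ0.mul hζ0
  have hconjβ : g * β * g⁻¹ = (g * g0⁻¹) * (ζ0 * ζ0) * (g * g0⁻¹)⁻¹ := by
    rw [hζ0def, hβ]; group
  obtain ⟨n, hn, hn2⟩ := burnside_center S hζ0sq (by rw [← hconjβ]; exact hβ')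
  set ζ := n * ζ0 * n⁻¹ with hζ
  have hζc : IsCentralIn (S : Subgroup G) ζ := hζ0.conj hn
  have hβζ : g * β * g⁻¹ = ζ * ζ := by
    rw [hconjβ, hn2, hζ]; group
  -- step 4: the straightened elements
  set a' := g * a * g⁻¹ with ha'
  set b' := g * b * g⁻¹ with hb'
  set c' := g * c * g⁻¹ with hc'
  have ha'S : a' ∈ (S : Subgroup G) := hgD a haD
  have hb'S : b' ∈ (S : Subgroup G) := hgD b hbD
  have ha'2 : a' * a' = 1 := by
    rw [ha']
    have : g * a * g⁻¹ * (g * a * g⁻¹) = g * (a * a) * g⁻¹ := by group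
    rw [this, ha2]; group
  have hb'2 : b' * b' = ζ * ζ := by
    rw [← hβζ, hb', hβ]; group
  have hrel : b' * a' * b'⁻¹ = a' * c' := by
    rw [ha', hb', hc', hc]; group
  set b'' := b' * ζ⁻¹ with hb''
  have hb''S : b'' ∈ (S : Subgroup G) :=
    Subgroup.mul_mem _ hb'S (Subgroup.inv_mem _ hζc.1)
  have hζb' : b' * ζ = ζ * b' := hζc.2 b' hb'S
  have hζa' : a' * ζ = ζ * a' := hζc.2 a' ha'S
  have hζb'inv : b' * ζ⁻¹ = ζ⁻¹ * b' := by
    have : b' * ζ⁻¹ = ζ⁻¹ * (ζ * b') * ζ⁻¹ := by group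
    rw [this, ← hζb']; group
  have hζa'inv : a' * ζ⁻¹ = ζ⁻¹ * a' := by
    have : a' * ζ⁻¹ = ζ⁻¹ * (ζ * a') * ζ⁻¹ := by group
    rw [this, ← hζa']; group
  have hb''2 : b'' * b'' = 1 := by
    rw [hb'']
    have : b' * ζ⁻¹ * (b' * ζ⁻¹) = b' * (ζ⁻¹ * b') * ζ⁻¹ := by group
    rw [this, ← hζb'inv]
    have : b' * (b' * ζ⁻¹) * ζ⁻¹ = (b' * b') * ζ⁻¹ * ζ⁻¹ := by group
    rw [this, hb'2]; group
  have hrel'' : b'' * a' * b''⁻¹ = a' * c' := by
    rw [hb'', ← hrel]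
    have : b' * ζ⁻¹ * a' * (b' * ζ⁻¹)⁻¹ = b' * (ζ⁻¹ * a') * ζ * b'⁻¹ := by group
    rw [this, ← hζa'inv]; group
  set y := a' * b'' with hy
  have hyS : y ∈ (S : Subgroup G) := Subgroup.mul_mem _ ha'S hb''S
  have hy2 : y * y = c' := by
    have : y * y = a' * (b'' * a' * b''⁻¹) * (b'' * b'') := by rw [hy]; group
    rw [this, hrel'', hb''2, mul_one, ← mul_assoc, ha'2, one_mul]
  -- step 5: y is conjugate to a central element
  obtain ⟨h, hη, -⟩ := exists_conj_center hH S (two_elt_of_mem hSp hyS) ⊥ (IsPGroup.of_bot) bot_le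
  set η := h * y * h⁻¹ with hηdef
  have hηsq : IsCentralIn (S : Subgroup G) (η * η) := hη.mul hη
  have hcη : (h * g) * c * (h * g)⁻¹ = η * η := by
    have : (h * g) * c * (h * g)⁻¹ = h * c' * h⁻¹ := by rw [hc']; group
    rw [this, ← hy2, hηdef]; group
  obtain ⟨n', hn', hn'2⟩ := burnside_center S hcZ (by rw [hcη]; exact hηsq)
  -- c = n'⁻¹ η² n'
  have hn'inv : n'⁻¹ ∈ Subgroup.normalizer (((S : Subgroup G)) : Set G) := Subgroup.inv_mem _ hn'
  refine ⟨n'⁻¹ * η * n'⁻¹⁻¹, hη.conj hn'inv, ?_⟩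
  have : c = n'⁻¹ * (n' * c * n'⁻¹) * n' := by group
  rw [this, ← hn'2, hcη]; group

end Cfsg.Agent.Helper53.CH
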