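import Mathlib
import Cfsg.Agent.Helper53.CH1
import Cfsg.Agent.Helper53.CH3

set_option autoImplicit false

/-!
# Camina–Herzog: the local configuration
-/

namespace Cfsg.Agent.Helper53.CH

open scoped Pointwise

variable {G : Type*} [Group G]

/-- the configuration: `x` is a non-central element of the Sylow 2-subgroup `S` whose centralizer
`P` in `S` has the largest possible order (over all Sylow 2-subgroups), `V = Z(P)`. -/
structure Cfg (S : Sylow 2 G) (x : G) (P V : Subgroup G) : Prop where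
  hxS : x ∈ (S : Subgroup G)
  hxnc : ¬ IsCentralIn (S : Subgroup G) x
  hmax : ∀ (S' : Sylow 2 G) (x' : G), x' ∈ (S' : Subgroup G) → ¬ IsCentralIn (S' : Subgroup G) x' →
    Nat.card ↥((S' : Subgroup G) ⊓ Subgroup.centralizer ({x'} : Set G)) ≤ Nat.card ↥P
  hP : P = (S : Subgroup G) ⊓ Subgroup.centralizer ({x} : Set G)
  hV : V = P ⊓ Subgroup.centralizer (P : Set G)

namespace Cfg

variable {S : Sylow 2 G} {x : G} {P V : Subgroup G}

lemma P_le_S (c : Cfg S x P V) : P ≤ (S : Subgroup G) := by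
  rw [c.hP]; exact inf_le_left

lemma mem_P (c : Cfg S x P V) {y : G} : y ∈ P ↔ y ∈ (S : Subgroup G) ∧ y * x = x * y := by
  rw [c.hP, Subgroup.mem_inf, mem_centralizer_singleton]

lemma x_mem_P (c : Cfg S x P V) : x ∈ P := c.mem_P.mpr ⟨c.hxS, rfl⟩

lemma V_le_P (c : Cfg S x P V) : V ≤ P := by
  rw [c.hV]; exact inf_le_left

lemma V_le_S (c : Cfg S x P V) : V ≤ (S : Subgroup G) := c.V_le_P.trans c.P_le_S

lemma mem_V (c : Cfg S x P V) {v : G} : v ∈ V ↔ v ∈ P ∧ ∀ p ∈ P, p * v = v * p := by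
  rw [c.hV, Subgroup.mem_inf, Subgroup.mem_centralizer_iff]
  rfl

lemma V_comm_P (c : Cfg S x P V) {v p : G} (hv : v ∈ V) (hp : p ∈ P) : p * v = v * p :=
  (c.mem_V.mp hv).2 p hp

lemma V_comm (c : Cfg S x P V) {v w : G} (hv : v ∈ V) (hw : w ∈ V) : w * v = v * w :=
  c.V_comm_P hv (c.V_le_P hw)

lemma x_mem_V (c : Cfg S x P V) : x ∈ V :=
  c.mem_V.mpr ⟨c.x_mem_P, fun _ hp => (c.mem_P.mp hp).2⟩

lemma central_mem_V (c : Cfg S x P V) {z : G} (hz : IsCentralIn (S : Subgroup G) z) : z ∈ V := by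
  refine c.mem_V.mpr ⟨c.mem_P.mpr ⟨hz.1, (hz.2 x c.hxS).symm⟩, fun p hp => hz.2 p (c.P_le_S hp)⟩

lemma isPGroup_P (c : Cfg S x P V) : IsPGroup 2 ↥P := S.2.to_le c.P_le_S

lemma isPGroup_V (c : Cfg S x P V) : IsPGroup 2 ↥V := S.2.to_le c.V_le_S

lemma two_elt (c : Cfg S x P V) {v : G} (hv : v ∈ V) : ∃ k : ℕ, orderOf v = 2 ^ k :=
  two_elt_of_mem c.isPGroup_V hv

/-- the centralizer in `S` of a non-central element of `V` is exactly `P` -/
lemma cen_eq [Finite G] (c : Cfg S x P V) {v : G} (hv : v ∈ V)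
    (hnc : ¬ IsCentralIn (S : Subgroup G) v) :
    (S : Subgroup G) ⊓ Subgroup.centralizer ({v} : Set G) = P := by
  have hle : P ≤ (S : Subgroup G) ⊓ Subgroup.centralizer ({v} : Set G) := by
    intro p hp
    exact ⟨c.P_le_S hp, mem_centralizer_singleton.mpr (c.V_comm_P hv hp)⟩
  exact (Subgroup.eq_of_le_of_card_ge hle (c.hmax S v (c.V_le_S hv) hnc)).symm

/-- an element of `S` outside `P` fixes exactly the central elements of `V` -/
lemma fix_iff [Finite G] (c : Cfg S x P V) {t : G} (htS : t ∈ (S : Subgroup G)) (htP : t ∉ P)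
    {v : G} (hv : v ∈ V) : t * v * t⁻¹ = v ↔ IsCentralIn (S : Subgroup G) v := by
  constructor
  · intro h
    by_contra hnc
    apply htP
    rw [← c.cen_eq hv hnc]
    refine ⟨htS, mem_centralizer_singleton.mpr ?_⟩
    have : t * v = (t * v * t⁻¹) * t := by group
    rw [this, h]
  · intro h
    rw [h.2 t htS]; group

lemma P_le_normalizer_V (c : Cfg S x P V) : P ≤ Subgroup.normalizer (V : Set G) := by
  intro p hp
  rw [Subgroup.mem_normalizer_iff]
  intro h
  constructor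
  · intro hh
    rw [c.V_comm_P hh hp]
    simpa using hh
  · intro hh
    have h1 := c.V_comm_P hh hp
    have h2 : p * h * p⁻¹ = h := by
      have e : p * (p * h * p⁻¹) = p * h := by rw [h1]; group
      have := mul_left_cancel e
      exact this
    rwa [h2] at hh

lemma conj_mem_V (c : Cfg S x P V) {n : G} (hn : n ∈ Subgroup.normalizer (P : Set G))
    {v : G} (hv : v ∈ V) : n * v * n⁻¹ ∈ V := by
  rw [Subgroup.mem_normalizer_iff] at hn
  refine c.mem_V.mpr ⟨(hn v).mp (c.V_le_P hv), fun p hp => ?_⟩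
  have hp' : n⁻¹ * p * n ∈ P := by
    rw [hn]; simpa [mul_assoc] using hp
  have h1 := c.V_comm_P hv hp'
  have e1 : p * (n * v * n⁻¹) = n * ((n⁻¹ * p * n) * v) * n⁻¹ := by group
  have e2 : n * v * n⁻¹ * p = n * (v * (n⁻¹ * p * n)) * n⁻¹ := by group
  rw [e1, e2, h1]

lemma normalizer_P_le (c : Cfg S x P V) :
    Subgroup.normalizer (P : Set G) ≤ Subgroup.normalizer (V : Set G) := by
  intro n hn
  rw [Subgroup.mem_normalizer_iff]
  intro h
  constructor
  · exact c.conj_mem_V hn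
  · intro hh
    have := c.conj_mem_V (Subgroup.inv_mem _ hn) hh
    have e : n⁻¹ * (n * h * n⁻¹) * n⁻¹⁻¹ = h := by group
    rwa [e] at this

lemma P_lt_S (c : Cfg S x P V) : P < (S : Subgroup G) := by
  refine lt_of_le_of_ne c.P_le_S ?_
  intro h
  apply c.hxnc
  refine ⟨c.hxS, fun s hs => ?_⟩
  rw [← h] at hs
  exact (c.mem_P.mp hs).2

end Cfg

end Cfsg.Agent.Helper53.CH
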