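import Mathlib
import Cfsg.Agent.Helper53.CH4

set_option autoImplicit false

/-!
# Camina–Herzog: covering of `V = Z(P)` by conjugates of `Z(S)`
-/

namespace Cfsg.Agent.Helper53.CH

open scoped Pointwise

variable {G : Type*} [Group G] [Finite G]

namespace Cfg

variable {S : Sylow 2 G} {x : G} {P V : Subgroup G}

/-- an element of `N_S(V)` outside `P` whose square lies in `P` -/
lemma exists_b (c : Cfg S x P V) :
    ∃ b, b ∈ (S : Subgroup G) ∧ b ∈ Subgroup.normalizer (V : Set G) ∧ b ∉ P ∧ b * b ∈ P := by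
  classical
  have : Fact (Nat.Prime 2) := ⟨Nat.prime_two⟩
  obtain ⟨y, hyS, hyN, hyP⟩ := exists_normalizer_not_mem (S : Subgroup G) P S.2 c.P_lt_S
  have hyNV : y ∈ Subgroup.normalizer (V : Set G) := c.normalizer_P_le hyN
  obtain ⟨k, hk⟩ := pow_two_pow_eq_one (two_elt_of_mem S.2 hyS)
  have hex : ∃ j, y ^ (2 ^ j) ∈ P := ⟨k, by rw [hk]; exact P.one_mem⟩
  have hj := Nat.find_spec hex
  have hj0 : Nat.find hex ≠ 0 := by
    intro h
    rw [h] at hj
    apply hyP
    simpa using hj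
  obtain ⟨i, hi⟩ := Nat.exists_eq_succ_of_ne_zero hj0
  refine ⟨y ^ (2 ^ i), Subgroup.pow_mem _ hyS _, Subgroup.pow_mem _ hyNV _, ?_, ?_⟩
  · exact Nat.find_min hex (by rw [hi]; exact Nat.lt_succ_self i)
  · rw [← pow_add, ← two_mul, ← pow_succ', ← Nat.succ_eq_add_one, ← hi]
    exact hj

/-- every element of `V` is conjugate, under the normalizer of `V`, to a central element of `S` -/
lemma covering (hH : OddClass G) (c : Cfg S x P V)
    (Q : Sylow 2 ↥(Subgroup.normalizer (V : Set G)))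
    (hQ : (Q : Subgroup ↥(Subgroup.normalizer (V : Set G))).map
      (Subgroup.normalizer (V : Set G)).subtype = (S : Subgroup G) ⊓ Subgroup.normalizer (V : Set G))
    {v : G} (hv : v ∈ V) :
    ∃ n ∈ Subgroup.normalizer (V : Set G), IsCentralIn (S : Subgroup G) (n * v * n⁻¹) := by
  have : Fact (Nat.Prime 2) := ⟨Nat.prime_two⟩
  by_cases hvc : IsCentralIn (S : Subgroup G) v
  · exact ⟨1, Subgroup.one_mem _, by simpa using hvc⟩
  -- the centralizer of v in S is P
  have hPcen : P ≤ Subgroup.centralizer ({v} : Set G) := by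
    intro p hp
    exact mem_centralizer_singleton.mpr (c.V_comm_P hv hp)
  obtain ⟨g, hgv, hgP⟩ := exists_conj_center hH S (c.two_elt hv) P c.isPGroup_P hPcen
  -- the conjugate of P
  set Pg : Subgroup G := MulAut.conj g • P with hPg
  have hPgS : Pg ≤ (S : Subgroup G) := by
    intro q hq
    rw [hPg, mem_conj_smul] at hq
    have := hgP _ hq
    have e : g * (g⁻¹ * q * g) * g⁻¹ = q := by group
    rwa [e] at this
  have hPglt : Pg < (S : Subgroup G) := by
    refine lt_of_le_of_ne hPgS ?_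
    intro h
    have h1 : Nat.card ↥Pg = Nat.card ↥P := cj_card P g
    have h2 := card_lt_of_lt c.P_lt_S
    rw [h] at h1
    omega
  obtain ⟨y', hy'S, hy'N, hy'P⟩ := exists_normalizer_not_mem (S : Subgroup G) Pg S.2 hPglt
  set y := g⁻¹ * y' * g with hy
  have hyNP : y ∈ Subgroup.normalizer (P : Set G) := by
    rw [hPg, cj_normalizer, mem_conj_smul] at hy'N
    exact hy'N
  have hyP : y ∉ P := by
    intro h
    apply hy'P
    rw [hPg, mem_conj_smul]
    exact h
  have hyv : y * v = v * y := by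
    have h1 := hgv.2 y' hy'S
    have e1 : y * v = g⁻¹ * (y' * (g * v * g⁻¹)) * g := by rw [hy]; group
    have e2 : v * y = g⁻¹ * ((g * v * g⁻¹) * y') * g := by rw [hy]; group
    rw [e1, e2, h1]
  have hy2 : ∃ k : ℕ, orderOf y = 2 ^ k := by
    obtain ⟨k, hk⟩ := two_elt_of_mem S.2 hy'S
    refine ⟨k, ?_⟩
    rw [← hk, hy]
    have hsc : SemiconjBy g⁻¹ y' (g⁻¹ * y' * g) := by
      show g⁻¹ * y' = g⁻¹ * y' * g * g⁻¹
      group
    exact (hsc.orderOf_eq).symm
  -- the 2-group R0 = P ⊔ ⟨y⟩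
  set R0 : Subgroup G := P ⊔ Subgroup.zpowers y with hR0
  have hR0p : IsPGroup 2 ↥R0 :=
    c.isPGroup_P.to_sup_of_normal_left' (isPGroup_zpowers hy2)
      (by rw [Subgroup.zpowers_le]; exact hyNP)
  have hR0N : R0 ≤ Subgroup.normalizer (V : Set G) := by
    apply sup_le c.P_le_normalizer_V
    rw [Subgroup.zpowers_le]
    exact c.normalizer_P_le hyNP
  have hR0cen : R0 ≤ Subgroup.centralizer ({v} : Set G) := by
    apply sup_le hPcen
    rw [Subgroup.zpowers_le]
    exact mem_centralizer_singleton.mpr hyv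
  have hPR0 : P < R0 := by
    refine lt_of_le_of_ne le_sup_left ?_
    intro h
    apply hyP
    rw [h]
    exact (le_sup_right : Subgroup.zpowers y ≤ R0) (Subgroup.mem_zpowers y)
  -- Sylow in the normalizer of V
  obtain ⟨m, hm, hmR⟩ := pgroup_le_conj_sylow_of_subgroup _ Q R0 hR0p hR0N
  rw [hQ] at hmR
  refine ⟨m⁻¹, Subgroup.inv_mem _ hm, ?_⟩
  by_contra hnc
  have hv' : m⁻¹ * v * m⁻¹⁻¹ ∈ V := by
    have h1 := Subgroup.inv_mem _ hm
    rw [Subgroup.mem_normalizer_iff] at h1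
    exact (h1 v).mp hv
  have hcen := c.cen_eq hv' hnc
  -- conj m⁻¹ • R0 ≤ S ⊓ centralizer
  have hle : MulAut.conj m⁻¹ • R0 ≤ P := by
    rw [← hcen]
    intro q hq
    rw [mem_conj_smul] at hq
    have hq' := hmR hq
    rw [mem_conj_smul] at hq'
    have e : m⁻¹ * (m⁻¹⁻¹ * q * m⁻¹) * m = q := by group
    rw [e] at hq'
    refine ⟨hq'.1, mem_centralizer_singleton.mpr ?_⟩
    have h2 := mem_centralizer_singleton.mp (hR0cen hq)
    have e1 : q * (m⁻¹ * v * m⁻¹⁻¹) = m⁻¹ * ((m⁻¹⁻¹ * q * m⁻¹) * v) * m := by group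
    have e2 : m⁻¹ * v * m⁻¹⁻¹ * q = m⁻¹ * (v * (m⁻¹⁻¹ * q * m⁻¹)) * m := by group
    rw [e1, e2, h2]
  have h1 := Subgroup.card_le_of_le hle
  rw [cj_card] at h1
  have h2 := card_lt_of_lt hPR0
  omega

end Cfg

end Cfsg.Agent.Helper53.CH
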