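import Mathlib
import Cfsg.Agent.Helper53.CH5

set_option autoImplicit false

/-!
# Camina–Herzog: the local contradiction
-/

namespace Cfsg.Agent.Helper53.CH

open scoped Pointwise

variable {G : Type*} [Group G] [Finite G]

section Abstract

variable {V : Type*} [Group V]

lemma pow_fix_of_fix (f : MulAut V) (v : V) (h : f v = v) (m : ℕ) : (f ^ m) v = v := by
  induction m with
  | zero => simp
  | succ m ih => rw [pow_succ, MulAut.mul_apply, h, ih]

end Abstract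

variable {S : Sylow 2 G} {x : G} {P V : Subgroup G}

local notation "NV" => Subgroup.normalizer (V : Set G)

theorem local_contra
    (hH : OddClass G) (c : Cfg S x P V)
    (Q : Sylow 2 ↥(Subgroup.normalizer (V : Set G)))
    (hQ : (Q : Subgroup ↥(Subgroup.normalizer (V : Set G))).map
      (Subgroup.normalizer (V : Set G)).subtype = (S : Subgroup G) ⊓ Subgroup.normalizer (V : Set G)) :
    False := by
  classical
  let θ : ↥NV →* MulAut ↥V := V.normalizerMonoidHom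
  have hθ : ∀ (y : ↥NV) (v : ↥V), ((θ y v : ↥V) : G) = (y : G) * (v : G) * (y : G)⁻¹ :=
    fun _ _ => rfl
  obtain ⟨b, hbS, hbN, hbP, hb2P⟩ := c.exists_b
  obtain ⟨n1, hn1N, hn1c⟩ := c.covering hH Q hQ c.x_mem_V
  let bN : ↥NV := ⟨b, hbN⟩
  let n0 : ↥NV := ⟨n1⁻¹, Subgroup.inv_mem _ hn1N⟩
  let Z' : Set ↥V := {v | IsCentralIn (S : Subgroup G) (v : G)}
  -- membership in Q
  have hmemQ : ∀ y : ↥NV, y ∈ Q ↔ (y : G) ∈ (S : Subgroup G) := by
    intro y
    constructor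
    · intro hy
      have h1 : (y : G) ∈ (Q : Subgroup ↥NV).map (NV).subtype := ⟨y, hy, rfl⟩
      rw [hQ] at h1
      exact h1.1
    · intro hy
      have h1 : (y : G) ∈ (Q : Subgroup ↥NV).map (NV).subtype := by
        rw [hQ]; exact ⟨hy, y.2⟩
      obtain ⟨q, hq, hq2⟩ := h1
      have : q = y := Subtype.ext hq2
      rw [← this]; exact hq
  have htriv : ∀ y : ↥NV, (y : G) ∈ P → θ y = 1 := by
    intro y hy
    ext v
    rw [hθ]
    have h1 := c.V_comm_P v.2 hy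
    rw [h1]
    simp
  have hnontriv : ∀ y : ↥NV, (y : G) ∈ (S : Subgroup G) → (y : G) ∉ P → θ y ≠ 1 := by
    intro y hyS hyP h
    apply hyP
    refine c.mem_P.mpr ⟨hyS, ?_⟩
    have h1 := hθ y ⟨x, c.x_mem_V⟩
    rw [h] at h1
    simp only [MulAut.one_apply] at h1
    have : (y : G) * x = ((y : G) * x * (y : G)⁻¹) * y := by group
    rw [this, ← h1]
  have hfix : ∀ y ∈ Q, θ y ≠ 1 → {v | θ y v = v} = Z' := by
    intro y hyQ hne
    have hyS := (hmemQ y).mp hyQ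
    have hyP : (y : G) ∉ P := fun h => hne (htriv y h)
    ext v
    show θ y v = v ↔ IsCentralIn (S : Subgroup G) (v : G)
    rw [← c.fix_iff hyS hyP v.2, Subtype.ext_iff, hθ]
  have hbQ : bN ∈ Q := (hmemQ bN).mpr hbS
  have hb1 : θ bN ≠ 1 := hnontriv bN hbS hbP
  have hb2 : θ bN * θ bN = 1 := by
    rw [← map_mul]
    apply htriv
    exact hb2P
  have hn0 : (θ n0) '' Z' ≠ Z' := by
    intro h
    have hx' : (⟨x, c.x_mem_V⟩ : ↥V) ∈ (θ n0) '' Z' := by
      refine ⟨⟨n1 * x * n1⁻¹, c.central_mem_V hn1c⟩, hn1c, ?_⟩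
      apply Subtype.ext
      rw [hθ]
      show n1⁻¹ * (n1 * x * n1⁻¹) * n1⁻¹⁻¹ = x
      group
    rw [h] at hx'
    exact c.hxnc hx'
  have hnot := not_two_elt θ Q Z' hfix bN hbQ hb1 hb2 n0 hn0
  -- the odd part
  set τ := θ bN with hτ
  set υ := θ (n0 * bN * n0⁻¹) with hυ
  set w : ↥NV := bN * (n0 * bN * n0⁻¹) with hw
  have hπ : τ * υ = θ w := by rw [hw, map_mul]
  have hKpos : 0 < orderOf w := orderOf_pos w
  obtain ⟨s, k, hk, hK⟩ := Nat.exists_eq_two_pow_mul_odd (ne_of_gt hKpos)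
  set ρ := (τ * υ) ^ (2 ^ s) with hρdef
  have hρk : ρ ^ k = 1 := by
    rw [hρdef, ← pow_mul, ← hK, hπ, ← map_pow, pow_orderOf_eq_one, map_one]
  have hρ : ρ ≠ 1 := hnot s
  have hτinv : τ⁻¹ = τ := by
    rw [inv_eq_iff_mul_eq_one]; exact hb2
  have hυ' : υ = θ n0 * τ * (θ n0)⁻¹ := by
    rw [hυ, map_mul, map_mul, map_inv]
  have hυ2 : υ * υ = 1 := by
    rw [hυ']
    have : θ n0 * τ * (θ n0)⁻¹ * (θ n0 * τ * (θ n0)⁻¹) = θ n0 * (τ * τ) * (θ n0)⁻¹ := by group
    rw [this, hb2]; group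
  have hυinv : υ⁻¹ = υ := by
    rw [inv_eq_iff_mul_eq_one]; exact hυ2
  have hconj : τ * (τ * υ) * τ⁻¹ = (τ * υ)⁻¹ := by
    rw [mul_inv_rev, hτinv, hυinv, ← mul_assoc, hb2, one_mul]
  have hinv : τ * ρ * τ⁻¹ = ρ⁻¹ := by
    rw [hρdef, ← conj_pow, hconj, inv_pow]
  have hcommV : ∀ a b : ↥V, a * b = b * a := by
    intro a b
    apply Subtype.ext
    exact c.V_comm b.2 a.2
  obtain ⟨a, ha2, hta, hρa⟩ := key_module hcommV c.isPGroup_V τ ρ hinv k hk hρk hρ
  -- abstract facts on τ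
  have hττ : ∀ v : ↥V, τ (τ v) = v := by
    intro v
    have := congrArg (fun f : MulAut ↥V => f v) hb2
    simpa [MulAut.mul_apply] using this
  have hτw : ∀ v : ↥V, τ (v⁻¹ * τ v) = (v⁻¹ * τ v)⁻¹ := by
    intro v
    rw [map_mul, map_inv, hττ, mul_inv_rev, inv_inv]
  have hinvG : ∀ v : ↥V, (v⁻¹ * τ v) * (v⁻¹ * τ v) = 1 := by
    intro v
    have h1 : b * ((v⁻¹ * τ v : ↥V) : G) * b⁻¹ = (((v⁻¹ * τ v : ↥V) : G))⁻¹ := by
      have := congrArg Subtype.val (hτw v)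
      rw [hθ] at this
      simpa using this
    have h2 := no_invert hH (c.two_elt (v⁻¹ * τ v).2) h1
    apply Subtype.ext
    simpa using h2
  have hτsq : ∀ v : ↥V, τ (v * v) = v * v := by
    intro v
    have h1 : τ v = v * (v⁻¹ * τ v) := by group
    rw [map_mul, h1]
    have h2 : v * (v⁻¹ * τ v) * (v * (v⁻¹ * τ v)) = v * v * ((v⁻¹ * τ v) * (v⁻¹ * τ v)) := by
      rw [mul_assoc, mul_assoc, mul_assoc]
      congr 1
      rw [← mul_assoc, ← mul_assoc, hcommV (v⁻¹ * τ v) v, mul_assoc]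
    rw [h2, hinvG, mul_one]
  have hυsq : ∀ v : ↥V, υ (v * v) = v * v := by
    intro v
    rw [hυ']
    simp only [MulAut.mul_apply]
    rw [map_mul, hτsq, ← map_mul, MulAut.apply_inv_self]
  have hπsq : ∀ v : ↥V, (τ * υ) (v * v) = v * v := by
    intro v
    rw [MulAut.mul_apply, hυsq, hτsq]
  have hρsq : ∀ v : ↥V, ρ (v * v) = v * v := by
    intro v
    exact pow_fix_of_fix _ _ (hπsq v) _
  -- the commutator
  set c' : ↥V := a⁻¹ * τ a with hc'
  have hc'2 : c' * c' = 1 := hinvG a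
  have hc'inv : c'⁻¹ = c' := by
    rw [inv_eq_iff_mul_eq_one]; exact hc'2
  have hτc' : τ c' = c' := by
    rw [hc', hτw, ← hc', hc'inv]
  have hcfix : b * (c' : G) * b⁻¹ = (c' : G) := by
    have := congrArg Subtype.val hτc'
    rw [hθ] at this
    exact this
  have hccen : IsCentralIn (S : Subgroup G) (c' : G) := (c.fix_iff hbS hbP c'.2).mp hcfix
  have hc'G : (c' : G) = (a : G)⁻¹ * (b * (a : G) * b⁻¹) := by
    rw [hc', Subgroup.coe_mul, Subgroup.coe_inv, hθ]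
  have ha2G : (a : G) * (a : G) = 1 := by
    have := congrArg Subtype.val ha2
    simpa using this
  have habG : (a : G) * (b * b) = (b * b) * (a : G) := (c.V_comm_P a.2 hb2P).symm
  rw [hc'G] at hccen
  obtain ⟨z, hzc, hz⟩ := straighten hH S (c.V_le_S a.2) hbS ha2G habG hccen
  have hzV : z ∈ V := c.central_mem_V hzc
  have hc'z : c' = (⟨z, hzV⟩ : ↥V) * ⟨z, hzV⟩ := by
    apply Subtype.ext
    rw [hc'G, hz]
    rfl
  apply hρa
  rw [hc'z, hρsq]

end Cfsg.Agent.Helper53.CH
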