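import Mathlib
import Cfsg.Agent.Helper53.CH6

set_option autoImplicit false

/-!
# Camina–Herzog theorem

If every 2-element of a finite group has odd class size, the Sylow 2-subgroups are abelian.
-/

namespace Cfsg.Agent.Helper53.CH

open scoped Pointwise

variable {G : Type*} [Group G] [Finite G]

theorem sylow_comm (hH : OddClass G) (S0 : Sylow 2 G) :
    ∀ a ∈ (S0 : Subgroup G), ∀ b ∈ (S0 : Subgroup G), a * b = b * a := by
  classical
  have : Fact (Nat.Prime 2) := ⟨Nat.prime_two⟩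
  by_contra hcon
  push Not at hcon
  obtain ⟨a0, ha0, b0, hb0, hab0⟩ := hcon
  -- the finite nonempty type of pairs
  let Pr := {p : Sylow 2 G × G // p.2 ∈ (p.1 : Subgroup G) ∧ ¬ IsCentralIn (p.1 : Subgroup G) p.2}
  have hne : Nonempty Pr := ⟨⟨(S0, b0), hb0, fun hc => hab0 (hc.2 a0 ha0)⟩⟩
  obtain ⟨⟨⟨S, x⟩, hxS, hxnc⟩, hmax⟩ := Finite.exists_max
    (fun p : Pr => Nat.card ↥((p.1.1 : Subgroup G) ⊓ Subgroup.centralizer ({p.1.2} : Set G)))
  simp only at hxS hxnc hmax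
  set P : Subgroup G := (S : Subgroup G) ⊓ Subgroup.centralizer ({x} : Set G) with hP
  set V : Subgroup G := P ⊓ Subgroup.centralizer (P : Set G) with hV
  have hmax' : ∀ (S' : Sylow 2 G) (x' : G), x' ∈ (S' : Subgroup G) →
      ¬ IsCentralIn (S' : Subgroup G) x' →
      Nat.card ↥((S' : Subgroup G) ⊓ Subgroup.centralizer ({x'} : Set G)) ≤ Nat.card ↥P :=
    fun S' x' h1 h2 => hmax ⟨(S', x'), h1, h2⟩
  have c0 : Cfg S x P V := ⟨hxS, hxnc, hmax', hP, hV⟩
  -- a Sylow 2-subgroup of the normalizer of V containing N_S(V)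
  have hT0p : IsPGroup 2 ↥((S : Subgroup G) ⊓ Subgroup.normalizer (V : Set G) : Subgroup G) :=
    S.2.to_le inf_le_left
  obtain ⟨Q, hQ⟩ := (hT0p.comap_subtype (K := Subgroup.normalizer (V : Set G))).exists_le_sylow
  have hTp : IsPGroup 2 ↥((Q : Subgroup ↥(Subgroup.normalizer (V : Set G))).map
      (Subgroup.normalizer (V : Set G)).subtype) := Q.2.map _
  obtain ⟨S1, hTS1⟩ := hTp.exists_le_sylow
  have hT0S1 : (S : Subgroup G) ⊓ Subgroup.normalizer (V : Set G) ≤ (S1 : Subgroup G) := by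
    intro y hy
    apply hTS1
    exact ⟨⟨y, hy.2⟩, hQ hy, rfl⟩
  have hPT0 : P ≤ (S : Subgroup G) ⊓ Subgroup.normalizer (V : Set G) :=
    le_inf c0.P_le_S c0.P_le_normalizer_V
  have hPS1 : P ≤ (S1 : Subgroup G) := hPT0.trans hT0S1
  have hxS1 : x ∈ (S1 : Subgroup G) := hPS1 c0.x_mem_P
  have hxnc1 : ¬ IsCentralIn (S1 : Subgroup G) x := by
    intro hc
    obtain ⟨b, hbS, hbN, hbP, -⟩ := c0.exists_b
    apply hbP
    exact c0.mem_P.mpr ⟨hbS, hc.2 b (hT0S1 ⟨hbS, hbN⟩)⟩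
  have hP1 : P = (S1 : Subgroup G) ⊓ Subgroup.centralizer ({x} : Set G) := by
    apply Subgroup.eq_of_le_of_card_ge
    · exact le_inf hPS1 (hP ▸ inf_le_right)
    · exact hmax' S1 x hxS1 hxnc1
  have c1 : Cfg S1 x P V := ⟨hxS1, hxnc1, hmax', hP1, hV⟩
  have hQ1 : (Q : Subgroup ↥(Subgroup.normalizer (V : Set G))).map
      (Subgroup.normalizer (V : Set G)).subtype =
      (S1 : Subgroup G) ⊓ Subgroup.normalizer (V : Set G) := by
    symm
    apply eq_map_sylow_of_le (Subgroup.normalizer (V : Set G)) Q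
    · exact S1.2.to_le inf_le_left
    · exact inf_le_right
    · exact le_inf hTS1 (Subgroup.map_subtype_le _)
  exact local_contra hH c1 Q hQ1

end Cfsg.Agent.Helper53.CH
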