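import Mathlib
import Cfsg.Agent.Helper53.CHMDefs
import Cfsg.Agent.Helper53.CHMClass

/-!
# The congruence step of the Cossey-Hawkes-Mann theorem (S4139)

(KL)  a central `p`-element `z` with `x * z` conjugate to `x`, `x` of `p'`-index, is trivial.
(B)   `|Ap| / |Z| ≡ |C_G(P)| / |Z| (mod p)` for a central `p`-subgroup `Z` and a Sylow `P`.
(C)   if `|Ap| = |G|_{p'} * |Z(G)|_p` then `Z(P) ≤ Z(G)`.
-/

namespace Cfsg.Agent.Helper53.CHM

open Subgroup

variable {G : Type*} [Group G] [Finite G] {p : ℕ} [Fact p.Prime]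

/-- (KL) -/
theorem eq_one_of_conj_eq_mul {x z g : G} (hz : z ∈ center G) (hzp : IsPGroup p (zpowers z))
    (hg : g * x * g⁻¹ = x * z) (hx : x ∈ Ap G p) : z = 1 := by
  classical
  have hzc : ∀ t : G, t * z = z * t := fun t => (mem_center_iff.1 hz t)
  have hzn : ∀ (n : ℕ) (t : G), t * z ^ n = z ^ n * t := fun n t =>
    (mem_center_iff.1 (pow_mem hz n) t)
  let K : Set G := MulAction.orbit (ConjAct G) x
  have hK : ∀ y, y ∈ K ↔ ∃ c : G, c * x * c⁻¹ = y := by
    intro y
    show y ∈ MulAction.orbit (ConjAct G) x ↔ _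
    rw [ConjAct.mem_orbit_conjAct, isConj_comm, isConj_iff]
  have h1 : ∀ n : ℕ, ∃ c : G, c * x * c⁻¹ = x * z ^ n := by
    intro n
    induction n with
    | zero => exact ⟨1, by simp⟩
    | succ n ih =>
      obtain ⟨c, hc⟩ := ih
      refine ⟨c * g, ?_⟩
      calc c * g * x * (c * g)⁻¹ = c * (g * x * g⁻¹) * c⁻¹ := by group
        _ = c * (x * z) * c⁻¹ := by rw [hg]
        _ = c * x * (z * c⁻¹) := by group
        _ = c * x * (c⁻¹ * z) := by rw [← hzc c⁻¹]
        _ = (c * x * c⁻¹) * z := by group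
        _ = x * z ^ (n + 1) := by rw [hc, pow_succ, mul_assoc]
  have h2 : ∀ γ ∈ zpowers z, ∀ y ∈ K, γ * y ∈ K := by
    intro γ hγ y hy
    obtain ⟨n, rfl⟩ := (isOfFinOrder_of_finite z).mem_powers_iff_mem_zpowers.2 hγ
    obtain ⟨d, rfl⟩ := (hK y).1 hy
    obtain ⟨c, hc⟩ := h1 n
    refine (hK _).2 ⟨d * c, ?_⟩
    calc d * c * x * (d * c)⁻¹ = d * (c * x * c⁻¹) * d⁻¹ := by group
      _ = d * (x * z ^ n) * d⁻¹ := by rw [hc]
      _ = d * (z ^ n * x) * d⁻¹ := by rw [hzn n x]
      _ = (d * z ^ n) * x * d⁻¹ := by group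
      _ = (z ^ n * d) * x * d⁻¹ := by rw [hzn n d]
      _ = z ^ n * (d * x * d⁻¹) := by group
  let S : SubMulAction (zpowers z) G :=
    { carrier := K
      smul_mem' := fun γ y hy => by
        have := h2 γ.1 γ.2 y hy
        simpa [Subgroup.smul_def] using this }
  have hcard : ¬ p ∣ Nat.card S := by
    have h3 : Nat.card S = (centralizer ({x} : Set G)).index := by
      rw [← ncard_orbit_eq_index]
      exact Nat.card_coe_set_eq K
    rw [h3]
    exact hx
  obtain ⟨y, hy⟩ := hzp.nonempty_fixed_point_of_prime_not_dvd_card S hcard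
  have h4 := hy ⟨z, mem_zpowers z⟩
  have h5 : z * (y : G) = y := by
    have := congrArg Subtype.val h4
    simpa [Subgroup.smul_def] using this
  exact mul_right_cancel (h5.trans (one_mul _).symm)

/-- `Ap` is closed under multiplication by central elements. -/
theorem mul_mem_Ap_iff {x z : G} (hz : z ∈ center G) : x * z ∈ Ap G p ↔ x ∈ Ap G p := by
  have hzc : ∀ t : G, t * z = z * t := fun t => (mem_center_iff.1 hz t)
  have : centralizer ({x * z} : Set G) = centralizer {x} := by
    ext t
    simp only [mem_centralizer_iff, Set.mem_singleton_iff, forall_eq]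
    constructor
    · intro h
      have h' : x * t * z = t * x * z := by
        rw [mul_assoc x t z, hzc t, ← mul_assoc, h, mul_assoc]
      exact mul_right_cancel h'
    · intro h
      rw [mul_assoc x z t, ← hzc t, ← mul_assoc, h, mul_assoc]
  rw [mem_Ap, mem_Ap, this]

/-- `Ap` is closed under conjugation. -/
theorem conj_mem_Ap {x : G} (g : G) (hx : x ∈ Ap G p) : g * x * g⁻¹ ∈ Ap G p := by
  rw [mem_Ap_iff_card_carrier] at hx ⊢
  have : ConjClasses.mk (g * x * g⁻¹) = ConjClasses.mk x :=
    ConjClasses.mk_eq_mk_iff_isConj.2 (isConj_iff.2 ⟨g, rfl⟩).symm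
  rwa [this]

/-- elements centralizing a Sylow `p`-subgroup have `p'`-index -/
theorem mem_Ap_of_sylow_le {x : G} (P : Sylow p G)
    (h : (P : Subgroup G) ≤ centralizer ({x} : Set G)) : x ∈ Ap G p := by
  rw [mem_Ap]
  intro hdvd
  exact P.not_dvd_index (hdvd.trans (index_dvd_of_le h))

/-- (B) -/
theorem card_Ap_modEq (Z : Subgroup G) (hZc : Z ≤ center G) (hZp : IsPGroup p Z)
    (P : Sylow p G) :
    ∃ a c : ℕ, Nat.card (Ap G p) = Nat.card Z * a ∧
      Nat.card (centralizer (P : Set G)) = Nat.card Z * c ∧ a ≡ c [MOD p] := by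
  classical
  haveI hZn : Z.Normal := ⟨fun n hn g => by
    have := mem_center_iff.1 (hZc hn) g
    rw [this, mul_inv_cancel_right]; exact hn⟩
  let π : G → G ⧸ Z := QuotientGroup.mk
  let Abar : Set (G ⧸ Z) := π '' Ap G p
  have hpre : π ⁻¹' Abar = Ap G p := by
    ext x
    constructor
    · rintro ⟨y, hy, hyx⟩
      have h1 : y⁻¹ * x ∈ Z := QuotientGroup.eq.1 hyx
      have hx : x = y * (y⁻¹ * x) := by group
      rw [hx]
      exact (mul_mem_Ap_iff (hZc h1)).2 hy
    · intro hx
      exact ⟨x, hx, rfl⟩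
  have hcardA : Nat.card (Ap G p) = Nat.card Z * Nat.card Abar := by
    rw [← hpre]
    exact QuotientGroup.card_preimage_mk Z Abar
  let φ : ↥(P : Subgroup G) →* MulAut (G ⧸ Z) :=
    MulAut.conj.comp ((QuotientGroup.mk' Z).comp (P : Subgroup G).subtype)
  letI : MulAction ↥(P : Subgroup G) (G ⧸ Z) := MulAction.compHom (G ⧸ Z) φ
  have hsmul : ∀ (g : ↥(P : Subgroup G)) (x : G),
      g • (π x) = π ((g : G) * x * (g : G)⁻¹) := by
    intro g x
    rfl
  let S : SubMulAction ↥(P : Subgroup G) (G ⧸ Z) :=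
    { carrier := Abar
      smul_mem' := by
        rintro g _ ⟨x, hx, rfl⟩
        rw [hsmul]
        exact ⟨_, conj_mem_Ap (g : G) hx, rfl⟩ }
  have hfix : π ⁻¹' (Subtype.val '' (MulAction.fixedPoints ↥(P : Subgroup G) S)) =
      (centralizer (P : Set G) : Set G) := by
    ext x
    constructor
    · rintro ⟨s, hs, hsx⟩
      have hxA : x ∈ Ap G p := by
        rw [← hpre]
        show π x ∈ Abar
        rw [← hsx]
        exact s.2
      rw [SetLike.mem_coe, mem_centralizer_iff]
      intro g hgP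
      have h1 : (⟨g, hgP⟩ : ↥(P : Subgroup G)) • s = s := hs ⟨g, hgP⟩
      have h2 : (⟨g, hgP⟩ : ↥(P : Subgroup G)) • (π x) = π x := by
        have := congrArg Subtype.val h1
        rw [← hsx]
        exact this
      rw [hsmul] at h2
      have h3 : x⁻¹ * (g * x * g⁻¹) ∈ Z := QuotientGroup.eq.1 h2.symm
      have h4 : g * x * g⁻¹ = x * (x⁻¹ * (g * x * g⁻¹)) := by group
      have h5 := eq_one_of_conj_eq_mul (hZc h3) (hZp.to_le (zpowers_le.2 h3)) h4 hxA
      rw [h5, mul_one] at h4
      calc g * x = g * x * g⁻¹ * g := by group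
        _ = x * g := by rw [h4]
    · intro hx
      rw [SetLike.mem_coe, mem_centralizer_iff] at hx
      have hxA : x ∈ Ap G p := by
        refine mem_Ap_of_sylow_le P ?_
        intro g hg
        rw [mem_centralizer_iff]
        intro y hy
        rw [Set.mem_singleton_iff] at hy
        rw [hy]
        exact (hx g hg).symm
      refine ⟨⟨π x, ⟨x, hxA, rfl⟩⟩, ?_, rfl⟩
      intro g
      apply Subtype.ext
      show g • (π x) = π x
      rw [hsmul]
      have : (g : G) * x * (g : G)⁻¹ = x := by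
        rw [hx g g.2]; group
      rw [this]
  have hcardC : Nat.card (centralizer (P : Set G)) =
      Nat.card Z * Nat.card (MulAction.fixedPoints ↥(P : Subgroup G) S) := by
    have h1 := QuotientGroup.card_preimage_mk Z
      (Subtype.val '' (MulAction.fixedPoints ↥(P : Subgroup G) S))
    rw [hfix] at h1
    rw [Nat.card_image_of_injective Subtype.val_injective] at h1
    exact h1
  exact ⟨Nat.card Abar, Nat.card (MulAction.fixedPoints ↥(P : Subgroup G) S), hcardA, hcardC,
    P.isPGroup'.card_modEq_card_fixedPoints S⟩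

/-- (C) -/
theorem center_sylow_le_center (p : ℕ) [Fact p.Prime]
    (h : Nat.card (Ap G p) = Nat.card G / p ^ (Nat.card G).factorization p *
      p ^ (Nat.card (Subgroup.center G)).factorization p)
    (P : Sylow p G) (u : G) (hu : u ∈ P) (hc : ∀ g ∈ P, g * u = u * g) :
    u ∈ Subgroup.center G := by
  classical
  have hp : p.Prime := Fact.out
  obtain ⟨Sz⟩ : Nonempty (Sylow p (center G)) := inferInstance
  let Zp : Subgroup G := (Sz : Subgroup (center G)).map (center G).subtype
  have hZc : Zp ≤ center G := by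
    rintro _ ⟨y, _, rfl⟩
    exact y.2
  have hZcard : Nat.card Zp = p ^ (Nat.card (center G)).factorization p := by
    rw [card_map_of_injective (center G).subtype_injective]
    exact Sz.card_eq_multiplicity
  have hZp : IsPGroup p Zp := IsPGroup.of_card hZcard
  obtain ⟨a, c, hA, hC, hac⟩ := card_Ap_modEq Zp hZc hZp P
  have hzpos : 0 < Nat.card Zp := Nat.card_pos
  have ha : a = Nat.card G / p ^ (Nat.card G).factorization p := by
    rw [hA, hZcard, mul_comm] at h
    have hz' : 0 < p ^ (Nat.card (center G)).factorization p := pow_pos hp.pos _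
    exact Nat.eq_of_mul_eq_mul_right hz' h
  have hna : ¬ p ∣ a := by
    rw [ha]
    exact Nat.not_dvd_ordCompl hp Nat.card_pos.ne'
  have hnc : ¬ p ∣ c := by
    intro hpc
    exact hna ((Nat.modEq_zero_iff_dvd.1 (hac.trans (Nat.modEq_zero_iff_dvd.2 hpc))))
  -- the p-subgroup generated by u and Zp
  haveI hZn : Zp.Normal := ⟨fun n hn g => by
    have := mem_center_iff.1 (hZc hn) g
    rw [this, mul_inv_cancel_right]; exact hn⟩
  have huP : IsPGroup p (zpowers u) := P.isPGroup'.to_le (zpowers_le.2 hu)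
  let L : Subgroup G := zpowers u ⊔ Zp
  have hLp : IsPGroup p L := huP.to_sup_of_normal_right hZp
  have hLC : L ≤ centralizer (P : Set G) := by
    refine sup_le ?_ ?_
    · rw [zpowers_le, mem_centralizer_iff]
      intro g hg
      exact hc g hg
    · intro z hz
      rw [mem_centralizer_iff]
      intro g _
      exact (mem_center_iff.1 (hZc hz) g)
  obtain ⟨j, hj⟩ := hLp.exists_card_eq
  have h1 : p ^ j ∣ Nat.card Zp * c := by
    rw [← hj, ← hC]
    exact card_dvd_of_le hLC
  have h2 : p ^ j ∣ Nat.card Zp :=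
    (Nat.Coprime.pow_left j ((Nat.Prime.coprime_iff_not_dvd hp).2 hnc)).dvd_of_dvd_mul_right h1
  have h3 : Nat.card L ≤ Nat.card Zp := by
    rw [hj]; exact Nat.le_of_dvd hzpos h2
  have h4 : Zp = L := eq_of_le_of_card_ge le_sup_right h3
  have h5 : u ∈ L := (le_sup_left : zpowers u ≤ L) (mem_zpowers u)
  rw [← h4] at h5
  exact hZc h5

end Cfsg.Agent.Helper53.CHM
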