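import Mathlib
import Cfsg.Agent.Helper43.Cov2.Defs
import Cfsg.Agent.Helper53.Cov2Main

/-!
S2500 (normal 2-coverings), helper43's #11597 (P2): `SL_3(F)`, `F` finite.
-/

set_option autoImplicit false

namespace Cfsg.Agent.Helper53.Cov2

open Polynomial Matrix Cfsg.Agent.Helper43.Cov2

variable {F : Type*} [Field F]

/-- the degrees of a factorisation `χ = f * h` of a polynomial without roots: neither factor is
linear -/
theorem natDegree_factor_of_no_root (χ f h : F[X]) (hχ : χ ≠ 0) (hroot : ∀ a : F, ¬ χ.IsRoot a)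
    (hf : Irreducible f) (hfh : χ = f * h) :
    f.natDegree + h.natDegree = χ.natDegree ∧ 1 ≤ f.natDegree ∧ f.natDegree ≠ 1 ∧
      h.natDegree ≠ 1 := by
  have hf0 : f ≠ 0 := hf.ne_zero
  have hh0 : h ≠ 0 := by
    rintro rfl
    rw [mul_zero] at hfh
    exact hχ hfh
  refine ⟨by rw [hfh, Polynomial.natDegree_mul hf0 hh0], hf.natDegree_pos, ?_, ?_⟩
  · intro h1
    obtain ⟨a, ha⟩ := Polynomial.exists_root_of_degree_eq_one
      (Polynomial.degree_eq_iff_natDegree_eq hf0 |>.mpr h1)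
    exact hroot a (ha.dvd ⟨h, hfh⟩)
  · intro h1
    obtain ⟨a, ha⟩ := Polynomial.exists_root_of_degree_eq_one
      (Polynomial.degree_eq_iff_natDegree_eq hh0 |>.mpr h1)
    exact hroot a (ha.dvd ⟨f, by rw [hfh, mul_comm]⟩)

variable [Fintype F]

/-- helper43's #11597 (P2) -/
theorem part2 : Cover2Z (Matrix.SpecialLinearGroup (Fin 3) F) := by
  apply cover2Z_SL 3 3 (by norm_num) (by norm_num) (dvd_refl 3)
  intro χ hχm hχd hroot f hf hfd
  obtain ⟨h, hfh⟩ := hfd
  obtain ⟨h1, h2, h3, h4⟩ := natDegree_factor_of_no_root χ f h hχm.ne_zero hroot hf hfh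
  rw [hχd] at h1
  have : f.natDegree = 3 := by omega
  rw [this]

end Cfsg.Agent.Helper53.Cov2
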