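import Mathlib
import Cfsg.Agent.Helper43.Cov2.Defs
import Cfsg.Agent.Helper53.Cov2P2

/-!
S2500 (normal 2-coverings), helper43's #11597 (P3): `SL_4(F)`, `F` finite.
-/

set_option autoImplicit false

namespace Cfsg.Agent.Helper53.Cov2

open Polynomial Matrix Cfsg.Agent.Helper43.Cov2

variable {F : Type*} [Field F] [Fintype F]

/-- helper43's #11597 (P3) -/
theorem part3 : Cover2Z (Matrix.SpecialLinearGroup (Fin 4) F) := by
  apply cover2Z_SL 4 2 (by norm_num) (by norm_num) (by norm_num)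
  intro χ hχm hχd hroot f hf hfd
  obtain ⟨h, hfh⟩ := hfd
  obtain ⟨h1, h2, h3, h4⟩ := natDegree_factor_of_no_root χ f h hχm.ne_zero hroot hf hfh
  rw [hχd] at h1
  have : f.natDegree = 2 ∨ f.natDegree = 4 := by omega
  rcases this with h5 | h5 <;> rw [h5]
  norm_num

end Cfsg.Agent.Helper53.Cov2
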