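import Mathlib
import Cfsg.Agent.Helper65.DCBWA

/-!
# (BW-B) a Klein four-group acting on an odd-order normal subgroup
Piece for S4719 (helper78's board post 4768).
-/

namespace Cfsg.Agent.Helper53.DC

open scoped Pointwise

/-- Two commuting involutions normalize some Sylow `q`-subgroup of an odd-order normal subgroup. -/
theorem exists_invariant_sylow {G : Type*} [Group G] [Finite G] (K : Subgroup G) [K.Normal]
    (hK : Odd (Nat.card K)) (t₁ t₂ : G) (h1 : orderOf t₁ = 2) (h2 : orderOf t₂ = 2)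
    (hcomm : Commute t₁ t₂) (q : ℕ) [Fact q.Prime] :
    ∃ Q : Subgroup G, Q ≤ K ∧ IsPGroup q Q ∧ (∀ k, q ^ k ∣ Nat.card K → q ^ k ∣ Nat.card Q) ∧
      (∀ x ∈ Q, t₁ * x * t₁⁻¹ ∈ Q) ∧ (∀ x ∈ Q, t₂ * x * t₂⁻¹ ∈ Q) := by
  classical
  haveI : Fact (Nat.Prime 2) := ⟨Nat.prime_two⟩
  set a₁ : ConjAct G := ConjAct.toConjAct t₁ with ha₁
  set a₂ : ConjAct G := ConjAct.toConjAct t₂ with ha₂
  have ho₁ : orderOf a₁ = 2 := by
    rw [ha₁, ← h1]; exact orderOf_injective ConjAct.toConjAct.toMonoidHom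
      ConjAct.toConjAct.injective t₁
  have ho₂ : orderOf a₂ = 2 := by
    rw [ha₂, ← h2]; exact orderOf_injective ConjAct.toConjAct.toMonoidHom
      ConjAct.toConjAct.injective t₂
  have hp₁ : IsPGroup 2 (Subgroup.zpowers a₁) := by
    apply IsPGroup.of_card (n := 1)
    rw [Nat.card_zpowers, ho₁, pow_one]
  have hp₂ : IsPGroup 2 (Subgroup.zpowers a₂) := by
    apply IsPGroup.of_card (n := 1)
    rw [Nat.card_zpowers, ho₂, pow_one]
  have hc : Commute a₁ a₂ := by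
    show a₁ * a₂ = a₂ * a₁
    rw [ha₁, ha₂, ← map_mul, ← map_mul, hcomm.eq]
  have hN : Subgroup.zpowers a₁ ≤ Subgroup.normalizer (Subgroup.zpowers a₂ : Set (ConjAct G)) := by
    rw [Subgroup.zpowers_le]
    apply Subgroup.centralizer_le_normalizer
    rw [Subgroup.mem_centralizer_iff]
    intro h hh
    obtain ⟨n, rfl⟩ := Subgroup.mem_zpowers_iff.mp hh
    exact ((hc.zpow_right n).eq).symm
  obtain ⟨V, hVdef⟩ : ∃ V : Subgroup (ConjAct G), V = Subgroup.zpowers a₁ ⊔ Subgroup.zpowers a₂ :=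
    ⟨_, rfl⟩
  have hV : IsPGroup 2 V := by
    rw [hVdef]; exact IsPGroup.to_sup_of_normal_right' hp₁ hp₂ hN
  have hodd : ¬ 2 ∣ Nat.card (Sylow q K) := by
    intro h2
    obtain ⟨P⟩ : Nonempty (Sylow q K) := inferInstance
    have h3 : Nat.card (Sylow q K) ∣ Nat.card K :=
      (Sylow.card_dvd_index P).trans (Subgroup.index_dvd_card _)
    exact (Nat.not_even_iff_odd.mpr hK) (even_iff_two_dvd.mpr (h2.trans h3))
  obtain ⟨P, hP⟩ := hV.nonempty_fixed_point_of_prime_not_dvd_card (Sylow q K) hodd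
  rw [MulAction.mem_fixedPoints] at hP
  have hm₁ : a₁ ∈ V := by
    rw [hVdef]; exact (le_sup_left : Subgroup.zpowers a₁ ≤ _) (Subgroup.mem_zpowers a₁)
  have hm₂ : a₂ ∈ V := by
    rw [hVdef]; exact (le_sup_right : Subgroup.zpowers a₂ ≤ _) (Subgroup.mem_zpowers a₂)
  have hf₁ : a₁ • P = P := hP ⟨a₁, hm₁⟩
  have hf₂ : a₂ • P = P := hP ⟨a₂, hm₂⟩
  have key : ∀ a : ConjAct G, a • P = P → ∀ x ∈ (P : Subgroup K).map K.subtype,
      ConjAct.ofConjAct a * x * (ConjAct.ofConjAct a)⁻¹ ∈ (P : Subgroup K).map K.subtype := by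
    intro a ha x hx
    obtain ⟨y, hy, rfl⟩ := Subgroup.mem_map.mp hx
    refine Subgroup.mem_map.mpr ⟨a • y, ?_, ?_⟩
    · have h1 : a • y ∈ a • (P : Subgroup K) := Subgroup.smul_mem_pointwise_smul y a _ hy
      rw [← Sylow.pointwise_smul_def, ha] at h1
      exact h1
    · rfl
  refine ⟨(P : Subgroup K).map K.subtype, Subgroup.map_subtype_le _, P.isPGroup'.map _, ?_, ?_, ?_⟩
  · intro k hk
    have h3 := P.pow_dvd_card_of_pow_dvd_card hk
    rwa [Subgroup.card_map_of_injective K.subtype_injective]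
  · exact key a₁ hf₁
  · exact key a₂ hf₂

/-- conjugation by an involution `t` as an automorphism of a subgroup it normalizes -/
def conjAutOfInvol {G : Type*} [Group G] (Q : Subgroup G) (t : G) (ht : t * t = 1)
    (h : ∀ x ∈ Q, t * x * t⁻¹ ∈ Q) : MulAut Q where
  toFun x := ⟨t * x * t⁻¹, h x x.2⟩
  invFun x := ⟨t * x * t⁻¹, h x x.2⟩
  left_inv x := Subtype.ext (by
    have hi : t⁻¹ = t := inv_eq_of_mul_eq_one_right ht
    show t * (t * (x : G) * t⁻¹) * t⁻¹ = x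
    rw [hi]
    calc t * (t * (x : G) * t) * t = (t * t) * x * (t * t) := by group
      _ = x := by rw [ht, one_mul, mul_one])
  right_inv x := Subtype.ext (by
    have hi : t⁻¹ = t := inv_eq_of_mul_eq_one_right ht
    show t * (t * (x : G) * t⁻¹) * t⁻¹ = x
    rw [hi]
    calc t * (t * (x : G) * t) * t = (t * t) * x * (t * t) := by group
      _ = x := by rw [ht, one_mul, mul_one])
  map_mul' x y := Subtype.ext (by
    show t * ((x : G) * y) * t⁻¹ = (t * x * t⁻¹) * (t * y * t⁻¹)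
    group)

theorem conjAutOfInvol_coe {G : Type*} [Group G] (Q : Subgroup G) (t : G) (ht : t * t = 1)
    (h : ∀ x ∈ Q, t * x * t⁻¹ ∈ Q) (x : Q) :
    ((conjAutOfInvol Q t ht h x : Q) : G) = t * x * t⁻¹ := rfl

theorem card_fixed_eq {G : Type*} [Group G] (Q : Subgroup G) (v : G) (α : Q → Q)
    (hα : ∀ x : Q, ((α x : Q) : G) = v * x * v⁻¹) :
    Nat.card {x : Q // α x = x} = Nat.card ↥(Q ⊓ Subgroup.centralizer ({v} : Set G)) := by
  have hiff : ∀ x : Q, α x = x ↔ (x : G) ∈ Subgroup.centralizer ({v} : Set G) := by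
    intro x
    rw [Subgroup.mem_centralizer_iff]
    constructor
    · intro hx h hh
      rw [Set.mem_singleton_iff] at hh
      subst hh
      have h1 : h * (x : G) * h⁻¹ = x := by rw [← hα x, hx]
      calc h * (x : G) = h * x * h⁻¹ * h := by group
        _ = x * h := by rw [h1]
    · intro hx
      apply Subtype.ext
      rw [hα x]
      have h1 : v * (x : G) = x * v := hx v (Set.mem_singleton v)
      rw [h1]; group
  refine Nat.card_congr
    { toFun := fun x => ⟨x.1.1, ⟨x.1.2, (hiff x.1).mp x.2⟩⟩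
      invFun := fun y => ⟨⟨y.1, y.2.1⟩, (hiff ⟨y.1, y.2.1⟩).mpr y.2.2⟩
      left_inv := fun x => rfl
      right_inv := fun y => rfl }

theorem card_le_of_odd_normal {G : Type*} [Group G] [Finite G] (K : Subgroup G) [K.Normal]
    (hK : Odd (Nat.card K)) (t₁ t₂ : G) (h1 : orderOf t₁ = 2) (h2 : orderOf t₂ = 2)
    (hne : t₁ ≠ t₂) (hcomm : Commute t₁ t₂) (c : ℕ)
    (hc1 : Nat.card (Subgroup.centralizer ({t₁} : Set G)) ≤ c)
    (hc2 : Nat.card (Subgroup.centralizer ({t₂} : Set G)) ≤ c)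
    (hc3 : Nat.card (Subgroup.centralizer ({t₁ * t₂} : Set G)) ≤ c) : Nat.card K ≤ c ^ 3 := by
  classical
  have ht1 : t₁ * t₁ = 1 := by rw [← pow_two, ← h1, pow_orderOf_eq_one]
  have ht2 : t₂ * t₂ = 1 := by rw [← pow_two, ← h2, pow_orderOf_eq_one]
  set n₁ := Nat.card (Subgroup.centralizer ({t₁} : Set G)) with hn₁
  set n₂ := Nat.card (Subgroup.centralizer ({t₂} : Set G)) with hn₂
  set n₃ := Nat.card (Subgroup.centralizer ({t₁ * t₂} : Set G)) with hn₃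
  have hdvd : Nat.card K ∣ n₁ * n₂ * n₃ := by
    rw [Nat.dvd_iff_prime_pow_dvd_dvd]
    intro q k hq hqk
    by_cases hk : k = 0
    · subst hk; simp
    haveI : Fact q.Prime := ⟨hq⟩
    have hq2 : q ≠ 2 := by
      rintro rfl
      have : 2 ∣ Nat.card K := (dvd_pow_self 2 hk).trans hqk
      exact (Nat.not_even_iff_odd.mpr hK) (even_iff_two_dvd.mpr this)
    obtain ⟨Q, hQK, hQp, hQc, hN1, hN2⟩ := exists_invariant_sylow K hK t₁ t₂ h1 h2 hcomm q
    set σ := conjAutOfInvol Q t₁ ht1 hN1 with hσdef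
    set τ := conjAutOfInvol Q t₂ ht2 hN2 with hτdef
    have hσ : σ * σ = 1 := by
      ext x
      have hi : t₁⁻¹ = t₁ := inv_eq_of_mul_eq_one_right ht1
      show t₁ * (t₁ * (x : G) * t₁⁻¹) * t₁⁻¹ = x
      rw [hi]
      calc t₁ * (t₁ * (x : G) * t₁) * t₁ = (t₁ * t₁) * x * (t₁ * t₁) := by group
        _ = x := by rw [ht1, one_mul, mul_one]
    have hτ : τ * τ = 1 := by
      ext x
      have hi : t₂⁻¹ = t₂ := inv_eq_of_mul_eq_one_right ht2
      show t₂ * (t₂ * (x : G) * t₂⁻¹) * t₂⁻¹ = x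
      rw [hi]
      calc t₂ * (t₂ * (x : G) * t₂) * t₂ = (t₂ * t₂) * x * (t₂ * t₂) := by group
        _ = x := by rw [ht2, one_mul, mul_one]
    have hστ : σ * τ = τ * σ := by
      ext x
      show t₁ * (t₂ * (x : G) * t₂⁻¹) * t₁⁻¹ = t₂ * (t₁ * (x : G) * t₁⁻¹) * t₂⁻¹
      have e : t₁ * t₂ = t₂ * t₁ := hcomm.eq
      calc t₁ * (t₂ * (x : G) * t₂⁻¹) * t₁⁻¹ = (t₁ * t₂) * x * (t₁ * t₂)⁻¹ := by group
        _ = (t₂ * t₁) * x * (t₂ * t₁)⁻¹ := by rw [e]
        _ = t₂ * (t₁ * (x : G) * t₁⁻¹) * t₂⁻¹ := by group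
    have hBW := Cfsg.Agent.Helper65.DC.card_le_fixed_mul_of_pgroup hq2 hQp σ τ hσ hτ hστ
    have e₁ : Nat.card {x : Q // σ x = x} =
        Nat.card ↥(Q ⊓ Subgroup.centralizer ({t₁} : Set G)) :=
      card_fixed_eq Q t₁ (fun x => σ x) (fun x => rfl)
    have e₂ : Nat.card {x : Q // τ x = x} =
        Nat.card ↥(Q ⊓ Subgroup.centralizer ({t₂} : Set G)) :=
      card_fixed_eq Q t₂ (fun x => τ x) (fun x => rfl)
    have e₃ : Nat.card {x : Q // σ (τ x) = x} =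
        Nat.card ↥(Q ⊓ Subgroup.centralizer ({t₁ * t₂} : Set G)) :=
      card_fixed_eq Q (t₁ * t₂) (fun x => σ (τ x)) (fun x => by
        show t₁ * (t₂ * (x : G) * t₂⁻¹) * t₁⁻¹ = (t₁ * t₂) * x * (t₁ * t₂)⁻¹
        group)
    rw [e₁, e₂, e₃] at hBW
    obtain ⟨n, hn⟩ := IsPGroup.iff_card.mp hQp
    have hpow : ∀ S : Subgroup G, ∃ a, Nat.card ↥(Q ⊓ S) = q ^ a ∧ a ≤ n := by
      intro S
      have h1 : Nat.card ↥(Q ⊓ S) ∣ q ^ n := by
        rw [← hn]; exact Subgroup.card_dvd_of_le inf_le_left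
      obtain ⟨a, ha, hae⟩ := (Nat.dvd_prime_pow hq).mp h1
      exact ⟨a, hae, ha⟩
    obtain ⟨a₁, ha₁, -⟩ := hpow (Subgroup.centralizer ({t₁} : Set G))
    obtain ⟨a₂, ha₂, -⟩ := hpow (Subgroup.centralizer ({t₂} : Set G))
    obtain ⟨a₃, ha₃, -⟩ := hpow (Subgroup.centralizer ({t₁ * t₂} : Set G))
    have hle : n ≤ a₁ + a₂ + a₃ := by
      rw [hn, ha₁, ha₂, ha₃, ← pow_add, ← pow_add] at hBW
      exact (Nat.pow_le_pow_iff_right hq.one_lt).mp hBW
    have hd₁ : q ^ a₁ ∣ n₁ := by rw [← ha₁]; exact Subgroup.card_dvd_of_le inf_le_right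
    have hd₂ : q ^ a₂ ∣ n₂ := by rw [← ha₂]; exact Subgroup.card_dvd_of_le inf_le_right
    have hd₃ : q ^ a₃ ∣ n₃ := by rw [← ha₃]; exact Subgroup.card_dvd_of_le inf_le_right
    calc q ^ k ∣ Nat.card Q := hQc k hqk
      _ = q ^ n := hn
      _ ∣ q ^ (a₁ + a₂ + a₃) := pow_dvd_pow q hle
      _ = q ^ a₁ * q ^ a₂ * q ^ a₃ := by rw [pow_add, pow_add]
      _ ∣ n₁ * n₂ * n₃ := mul_dvd_mul (mul_dvd_mul hd₁ hd₂) hd₃
  have hpos : 0 < n₁ * n₂ * n₃ := by
    have p1 : 0 < n₁ := Nat.card_pos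
    have p2 : 0 < n₂ := Nat.card_pos
    have p3 : 0 < n₃ := Nat.card_pos
    positivity
  calc Nat.card K ≤ n₁ * n₂ * n₃ := Nat.le_of_dvd hpos hdvd
    _ ≤ c * c * c := Nat.mul_le_mul (Nat.mul_le_mul hc1 hc2) hc3
    _ = c ^ 3 := by ring

end Cfsg.Agent.Helper53.DC
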