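import Mathlib

/-!
# (NB) a small conjugacy class gives a bounded nontrivial normal subgroup
Piece for S4719 (helper78's board post 4768).
-/

namespace Cfsg.Agent.Helper53.DC

theorem index_normalCore_dvd_factorial {G : Type*} [Group G] [Finite G] (H : Subgroup G) :
    H.normalCore.index ∣ H.index.factorial := by
  classical
  rw [Subgroup.normalCore_eq_ker, Subgroup.index_ker]
  have h1 := Subgroup.card_subgroup_dvd_card (MulAction.toPermHom G (G ⧸ H)).range
  rw [Nat.card_perm] at h1
  exact h1

theorem exists_normal_bounded {G : Type*} [Group G] [Finite G] (g : G) (hg : g ≠ 1) (s b : ℕ)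
    (hs : (Subgroup.centralizer ({g} : Set G)).index ≤ s)
    (hb : ∀ B : Subgroup G, B.Normal → (∀ x ∈ B, ∀ y ∈ B, x * y = y * x) → Nat.card B ≤ b) :
    ∃ A : Subgroup G, A.Normal ∧ A ≠ ⊥ ∧ Nat.card A ≤ s.factorial * b := by
  classical
  set H := Subgroup.centralizer ({g} : Set G) with hH
  set C := H.normalCore with hC
  haveI hCn : C.Normal := Subgroup.normalCore_normal H
  have hCH : C ≤ H := Subgroup.normalCore_le H
  refine ⟨Subgroup.centralizer (C : Set G), inferInstance, ?_, ?_⟩
  · intro hbot
    have hgA : g ∈ Subgroup.centralizer (C : Set G) := by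
      rw [Subgroup.mem_centralizer_iff]
      intro c hc
      have := hCH hc
      rw [hH, Subgroup.mem_centralizer_iff] at this
      exact (this g (Set.mem_singleton g)).symm
    rw [hbot, Subgroup.mem_bot] at hgA
    exact hg hgA
  · set A := Subgroup.centralizer (C : Set G) with hA
    -- |A| = |C.subgroupOf A| * relindex
    have h1 : Nat.card (C.subgroupOf A) * (C.subgroupOf A).index = Nat.card A :=
      Subgroup.card_mul_index _
    have h2 : (C.subgroupOf A).index ∣ C.index := Subgroup.relIndex_dvd_index_of_normal C A
    have h3 : C.index ∣ H.index.factorial := index_normalCore_dvd_factorial H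
    have h4 : H.index.factorial ∣ s.factorial := Nat.factorial_dvd_factorial hs
    have h5 : (C.subgroupOf A).index ≤ s.factorial :=
      Nat.le_of_dvd (Nat.factorial_pos s) (h2.trans (h3.trans h4))
    have h6 : Nat.card (C.subgroupOf A) = Nat.card (A ⊓ C : Subgroup G) := by
      rw [← Subgroup.inf_subgroupOf_left C A]
      exact Nat.card_congr (Subgroup.subgroupOfEquivOfLe inf_le_left).toEquiv
    have h7 : Nat.card (A ⊓ C : Subgroup G) ≤ b := by
      apply hb _ inferInstance
      intro x hx y hy
      have hxA : x ∈ Subgroup.centralizer (C : Set G) := hx.1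
      rw [Subgroup.mem_centralizer_iff] at hxA
      exact (hxA y hy.2).symm
    rw [← h1, h6, mul_comm]
    exact Nat.mul_le_mul h5 h7

end Cfsg.Agent.Helper53.DC
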