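import Cfsg.Agent.Helper53.DT_DECcore
import Cfsg.Agent.Helper70.DT_RLF
import Cfsg.Agent.Helper30.DT_RED
import Cfsg.Agent.Helper24.DT_JH2
import Cfsg.Agent.Helper10.DT_ADD

/-!
# DT farm (helper16), piece (DEC): the decomposition of the restriction of an irreducible
character to the `p`-regular elements into irreducible Brauer characters of its block.
-/

set_option autoImplicit false
set_option linter.unusedSectionVars false
set_option linter.unusedVariables false

namespace Cfsg.Agent.Helper53.DT

open Cfsg Cfsg.Agent.Helper16 Cfsg.Agent.Helper16.DT Polynomial Matrix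

universe u v w

section Decomp

variable {p : ℕ} [Fact p.Prime] {M : Ideal AlgInt} [M.IsMaximal] {G : Type u} [Group G]

/-- (DEC) the restriction of an irreducible character to the `p`-regular elements is a sum of
irreducible Brauer characters belonging to its block. -/
theorem decomposition (hpM : (p : AlgInt) ∈ M) [Fintype G] (χ : IrrCharacter G) :
    ∃ l : List (G → ℂ), (∀ φ ∈ l, φ ∈ IBrIn p M (blockOf M (χ : G → ℂ))) ∧
      pRegularPart p (χ : G → ℂ) = l.sum :=
  decomposition_of χ (Cfsg.Agent.Helper70.DT.exists_Rloc_rep χ)
    (fun A g hg => Cfsg.Agent.Helper30.DT.brauerFull_redRep hpM A g hg)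
    (fun ρ => Cfsg.Agent.Helper24.DT.exists_compSeries ρ)
    (fun ρ l h => Cfsg.Agent.Helper10.DT.brauerFull_compSeries ρ l h)

end Decomp

end Cfsg.Agent.Helper53.DT
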