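import Cfsg.Agent.Helper16.DT.Defs

/-!
# DT farm (helper16), piece (DEC), core: the decomposition of the restriction of an irreducible
character to the `p`-regular elements, with the pieces RLF, RED, JH2, ADD as explicit hypotheses.
-/

set_option autoImplicit false
set_option linter.unusedSectionVars false
set_option linter.unusedVariables false

namespace Cfsg.Agent.Helper53.DT

open Cfsg Cfsg.Agent.Helper16 Cfsg.Agent.Helper16.DT Polynomial Matrix

universe u v w

section Decomp

variable {p : ℕ} [Fact p.Prime] {M : Ideal AlgInt} [M.IsMaximal] {G : Type u} [Group G]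

theorem DEC_pRegularPart_add (f g : G → ℂ) :
    pRegularPart p (f + g) = pRegularPart p f + pRegularPart p g := by
  funext x
  unfold pRegularPart
  simp only [Pi.add_apply]
  split_ifs <;> simp

theorem DEC_pRegularPart_zero : pRegularPart p (0 : G → ℂ) = 0 := by
  funext x
  unfold pRegularPart
  simp

theorem DEC_pRegularPart_list_sum (l : List (G → ℂ)) :
    pRegularPart p l.sum = (l.map (pRegularPart p)).sum := by
  induction l with
  | nil => simp [DEC_pRegularPart_zero]
  | cons a l ih => simp [DEC_pRegularPart_add, ih]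

/-- The residues of the central characters of two characters in the same block agree. -/
theorem DEC_resC_centralChar_eq {χ : G → ℂ} {ψ : IrrCharacter G} (hψ : ψ ∈ blockOf M χ) (x : G)
    (hω : MemLocalRing M (centralChar χ x)) :
    resC M (centralChar (ψ : G → ℂ) x) = resC M (centralChar χ x) := by
  have hδ : MemLocalIdeal M (centralChar χ x - centralChar (ψ : G → ℂ) x) := hψ x
  have hδR := memLocalIdeal_memLocalRing hδ
  have hψR : MemLocalRing M (centralChar (ψ : G → ℂ) x) := by
    have h := memLocalRing_sub hω hδR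
    have e : centralChar χ x - (centralChar χ x - centralChar (ψ : G → ℂ) x) =
        centralChar (ψ : G → ℂ) x := by ring
    rwa [e] at h
  have h0 : resC M (centralChar χ x - centralChar (ψ : G → ℂ) x) = 0 :=
    (resC_eq_zero_iff hδR).mpr hδ
  have h1 := resC_add hψR hδR
  rw [h0, add_zero] at h1
  rw [← h1]
  congr 1
  ring

/-- The class sum of a representation over the local ring whose complexification has scalar class
sums: the scalar is a local integer and the reduction has the residue as its class sum. -/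
theorem DEC_classSum_redRep [Fintype G] {n : ℕ} (hn : 0 < n)
    (A : G →* Matrix (Fin n) (Fin n) (Rloc M)) (x : G) (ω : ℂ)
    (h : classSumMat (cplxRep A) x = ω • (1 : Matrix (Fin n) (Fin n) ℂ)) :
    MemLocalRing M ω ∧
      classSumMat (redRep A) x = resC M ω • (1 : Matrix (Fin n) (Fin n) (AlgInt ⧸ M)) := by
  classical
  set B : Matrix (Fin n) (Fin n) (Rloc M) :=
    ∑ y ∈ Finset.univ.filter (fun y : G => IsConj x y), A y with hB
  have hBc : ((Rloc M).subtype.mapMatrix : Matrix (Fin n) (Fin n) (Rloc M) →+* _) B =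
      ω • (1 : Matrix (Fin n) (Fin n) ℂ) := by
    rw [← h, hB, map_sum]
    unfold classSumMat
    refine Finset.sum_congr ?_ fun y _ => rfl
    congr
  have hent : ∀ i j, ((B i j : Rloc M) : ℂ) = if i = j then ω else 0 := by
    intro i j
    have := congrFun (congrFun hBc i) j
    simpa [Matrix.one_apply] using this
  have hω : MemLocalRing M ω := by
    have := hent ⟨0, hn⟩ ⟨0, hn⟩
    rw [if_pos rfl] at this
    rw [← this]
    exact (B ⟨0, hn⟩ ⟨0, hn⟩).2
  refine ⟨hω, ?_⟩
  have hBr : ((res M).mapMatrix : Matrix (Fin n) (Fin n) (Rloc M) →+* _) B =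
      resC M ω • (1 : Matrix (Fin n) (Fin n) (AlgInt ⧸ M)) := by
    ext i j
    have hij : B i j = if i = j then (⟨ω, hω⟩ : Rloc M) else 0 := by
      apply Subtype.ext
      rw [hent i j]
      split_ifs <;> rfl
    simp only [RingHom.mapMatrix_apply, Matrix.map_apply, Matrix.smul_apply, Matrix.one_apply,
      smul_eq_mul]
    rw [hij]
    split_ifs
    · rw [mul_one]; rfl
    · rw [mul_zero, map_zero]
  rw [← hBr, hB, map_sum]
  unfold classSumMat
  refine Finset.sum_congr ?_ fun y _ => rfl
  congr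

/-- (DEC), core: the decomposition, given RLF, RED, JH2 and ADD. -/
theorem decomposition_of [Fintype G] (χ : IrrCharacter G)
    (hRLF : ∃ (n : ℕ) (A : G →* Matrix (Fin n) (Fin n) (Rloc M)), 0 < n ∧
      cplxTrace A = (χ : G → ℂ) ∧
      ∀ x, classSumMat (cplxRep A) x =
        centralChar (χ : G → ℂ) x • (1 : Matrix (Fin n) (Fin n) ℂ))
    (hRED : ∀ {n : ℕ} (A : G →* Matrix (Fin n) (Fin n) (Rloc M)) (g : G), IsPRegular p g →
      brauerFull p M (redRep A) g = cplxTrace A g)
    (hJH2 : ∀ {n : ℕ} (ρ : G →* Matrix (Fin n) (Fin n) (AlgInt ⧸ M)),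
      ∃ l : List (Σ m : ℕ, G →* Matrix (Fin m) (Fin m) (AlgInt ⧸ M)),
        (∀ s ∈ l, IsIrredMat s.2) ∧
        (∀ g, (ρ g).charpoly = (l.map fun s => (s.2 g).charpoly).prod) ∧
        (∀ (S : Finset G) (x : G → (AlgInt ⧸ M)) (c : AlgInt ⧸ M),
          ∑ g ∈ S, x g • ρ g = c • (1 : Matrix (Fin n) (Fin n) (AlgInt ⧸ M)) →
          ∀ s ∈ l, ∑ g ∈ S, x g • s.2 g =
            c • (1 : Matrix (Fin s.1) (Fin s.1) (AlgInt ⧸ M))))
    (hADD : ∀ {n : ℕ} (ρ : G →* Matrix (Fin n) (Fin n) (AlgInt ⧸ M))
      (l : List (Σ m : ℕ, G →* Matrix (Fin m) (Fin m) (AlgInt ⧸ M))),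
      (∀ g, (ρ g).charpoly = (l.map fun s => (s.2 g).charpoly).prod) →
      brauerFull p M ρ = (l.map fun s => brauerFull p M s.2).sum) :
    ∃ l : List (G → ℂ), (∀ φ ∈ l, φ ∈ IBrIn p M (blockOf M (χ : G → ℂ))) ∧
      pRegularPart p (χ : G → ℂ) = l.sum := by
  classical
  obtain ⟨n, A, hn, htr, hcs⟩ := hRLF
  obtain ⟨l0, hirr, hcp, hsc⟩ := hJH2 (redRep A)
  refine ⟨l0.map (fun s => brauerChar p M s.2), ?_, ?_⟩
  · intro φ hφ
    rw [List.mem_map] at hφ
    obtain ⟨s, hs, rfl⟩ := hφ
    refine ⟨s.1, s.2, hirr s hs, rfl, fun ψ hψ x => ?_⟩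
    obtain ⟨hω, hred⟩ := DEC_classSum_redRep hn A x _ (hcs x)
    rw [DEC_resC_centralChar_eq hψ x hω]
    have h1 : ∑ g ∈ Finset.univ.filter (fun y : G => IsConj x y),
        (fun _ : G => (1 : AlgInt ⧸ M)) g • redRep A g =
        resC M (centralChar (χ : G → ℂ) x) • (1 : Matrix (Fin n) (Fin n) (AlgInt ⧸ M)) := by
      rw [← hred]
      unfold classSumMat
      simp only [one_smul]
    have h2 := hsc _ _ _ h1 s hs
    rw [← h2]
    unfold classSumMat
    simp only [one_smul]
  · have h1 : pRegularPart p (χ : G → ℂ) = pRegularPart p (brauerFull p M (redRep A)) := by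
      funext g
      unfold pRegularPart
      by_cases hg : IsPRegular p g
      · rw [if_pos hg, if_pos hg, hRED A g hg, ← htr]
      · rw [if_neg hg, if_neg hg]
    rw [h1, hADD (redRep A) l0 hcp, DEC_pRegularPart_list_sum, List.map_map]
    rfl

end Decomp

end Cfsg.Agent.Helper53.DT
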