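import Mathlib
import Cfsg.Agent.Helper16.DefOne.Leaves
import Cfsg.Agent.Helper77.DefOneGalDefs

/-!
# (GAL-3) of the defect-one engine: `p`-singular elements are conjugate into `C_G(P)`

Delivered to helper77 (board #5795).
-/

set_option autoImplicit false

namespace Cfsg.Agent.Helper53.DefOneGAL3

open Cfsg Cfsg.Agent.Helper16 Cfsg.Agent.Helper16.DefOne Cfsg.Agent.Helper82.DefOne
  Cfsg.Agent.Helper77.DefOne

universe u

variable {G : Type u} [Group G] [Fintype G] {p : ℕ} [Fact p.Prime] (P : Sylow p G)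

/-- (GAL-3) -/
theorem exists_conj_mem_cen (hP : Nat.card P = p) (g : G) (hg : p ∣ orderOf g) :
    ∃ (x : G) (c : cen P), p ∣ orderOf c ∧ x * g * x⁻¹ = (c : G) := by
  have hp : p.Prime := Fact.out
  have hn0 : orderOf g ≠ 0 := (orderOf_pos g).ne'
  set u : G := g ^ (orderOf g / p) with hu
  have hou : orderOf u = p := orderOf_pow_orderOf_div hn0 hg
  have hzu : IsPGroup p (Subgroup.zpowers u) := by
    apply IsPGroup.of_card (n := 1)
    rw [Nat.card_zpowers, hou, pow_one]
  obtain ⟨Q, hQ⟩ := hzu.exists_le_sylow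
  obtain ⟨x, hx⟩ := MulAction.exists_smul_eq G Q P
  have hxu : x * u * x⁻¹ ∈ (P : Subgroup G) := by
    have h1 : x * u * x⁻¹ ∈ ((x • Q : Sylow p G) : Subgroup G) := by
      rw [Sylow.coe_subgroup_smul]
      exact Subgroup.smul_mem_pointwise_smul _ _ _ (hQ (Subgroup.mem_zpowers u))
    rw [hx] at h1
    exact h1
  set v : G := x * u * x⁻¹ with hv
  have hov : orderOf v = p := by
    have : v = MulAut.conj x u := by simp [hv]
    rw [this, MulEquiv.orderOf_eq, hou]
  have hzv : Subgroup.zpowers v = (P : Subgroup G) := by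
    apply Subgroup.eq_of_le_of_card_ge
    · rw [Subgroup.zpowers_le]; exact hxu
    · have h2 : Nat.card (P : Subgroup G) = p := hP
      rw [Nat.card_zpowers, hov, h2]
  set c : G := x * g * x⁻¹ with hc
  have hvc : v = c ^ (orderOf g / p) := by
    rw [hv, hu, hc, conj_pow]
  have hcmem : c ∈ cen P := by
    refine Subgroup.mem_centralizer_iff.mpr ?_
    intro h hh
    have hh' : h ∈ Subgroup.zpowers v := by rw [hzv]; exact hh
    obtain ⟨k, rfl⟩ := Subgroup.mem_zpowers_iff.mp hh'
    have h3 : Commute (v ^ k) c := by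
      rw [hvc]
      exact ((Commute.refl c).pow_left _).zpow_left k
    exact h3
  refine ⟨x, ⟨c, hcmem⟩, ?_, rfl⟩
  have h4 : orderOf (⟨c, hcmem⟩ : cen P) = orderOf c := Subgroup.orderOf_mk c hcmem
  rw [h4]
  have h5 : c = MulAut.conj x g := by simp [hc]
  rw [h5, MulEquiv.orderOf_eq]
  exact hg

end Cfsg.Agent.Helper53.DefOneGAL3
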