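import Mathlib
import Cfsg.Agent.Helper87.FusionRS
import Cfsg.Agent.Helper53.CH2

set_option autoImplicit false

/-!
# Camina–Herzog for fusion systems: conjugacy of elements, central subgroups

`Hyp F`: every element of `S` is conjugate in the system to an element of the centre of `S`.
-/

namespace Cfsg.Agent.Helper53.FCH

open Cfsg Cfsg.FusionSystem Cfsg.Agent.Helper87 Cfsg.Agent.Helper53.CH

variable {Ω : Type*} [Group Ω] {S : Subgroup Ω}

/-- every element of `S` is conjugate in the system to a central element of `S` -/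
def Hyp (F : FusionSystem S) : Prop :=
  ∀ x ∈ S, ∃ z ∈ S ⊓ Subgroup.centralizer (S : Set Ω), F.IsConjElt x z

lemma isCentralIn_iff {z : Ω} :
    IsCentralIn S z ↔ z ∈ S ⊓ Subgroup.centralizer (S : Set Ω) := by
  rw [Subgroup.mem_inf, Subgroup.mem_centralizer_iff]
  rfl

lemma conjElt_of_hom (F : FusionSystem S) {P : Subgroup Ω} {φ : P →* Ω} (hφ : φ ∈ F.Hom P)
    {u : Ω} (hu : u ∈ P) : F.IsConjElt u (φ ⟨u, hu⟩) := by
  have hle : Subgroup.zpowers u ≤ P := by rw [Subgroup.zpowers_le]; exact hu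
  exact ⟨_, restrict_mem F hφ hle, rfl⟩

lemma conjElt_trans (F : FusionSystem S) {u v w : Ω} (h1 : F.IsConjElt u v)
    (h2 : F.IsConjElt v w) : F.IsConjElt u w := by
  obtain ⟨φ, hφ, rfl⟩ := h1
  obtain ⟨ψ, hψ, rfl⟩ := h2
  have hval : ∀ x : Subgroup.zpowers u,
      φ x ∈ Subgroup.zpowers (φ ⟨u, Subgroup.mem_zpowers u⟩) := by
    rintro ⟨x, hx⟩
    obtain ⟨i, rfl⟩ := Subgroup.mem_zpowers_iff.mp hx
    have : (⟨u ^ i, hx⟩ : Subgroup.zpowers u) = ⟨u, Subgroup.mem_zpowers u⟩ ^ i := Subtype.ext rfl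
    rw [this, map_zpow]
    exact Subgroup.zpow_mem _ (Subgroup.mem_zpowers _) i
  exact ⟨_, F.comp_mem hφ hψ hval, rfl⟩

lemma conjElt_symm (F : FusionSystem S) {u v : Ω} (h1 : F.IsConjElt u v) : F.IsConjElt v u := by
  obtain ⟨φ, hφ, rfl⟩ := h1
  obtain ⟨ψ, hψ, hψx⟩ := F.inv_mem hφ
  have hmem : φ ⟨u, Subgroup.mem_zpowers u⟩ ∈ φ.range := ⟨_, rfl⟩
  have h2 := conjElt_of_hom F hψ hmem
  have h3 := hψx ⟨u, Subgroup.mem_zpowers u⟩
  rw [h3] at h2
  exact h2

/-- conjugation by an element of `S` -/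
lemma conjElt_conj (F : FusionSystem S) {u g : Ω} (hu : u ∈ S) (hg : g ∈ S) :
    F.IsConjElt u (g * u * g⁻¹) := by
  have hle : Subgroup.zpowers u ≤ S := by rw [Subgroup.zpowers_le]; exact hu
  exact ⟨_, F.conj_mem hle hg, rfl⟩

lemma conjElt_mem (F : FusionSystem S) {u v : Ω} (h : F.IsConjElt u v) : u ∈ S ∧ v ∈ S := by
  obtain ⟨φ, hφ, rfl⟩ := h
  exact ⟨(F.le_of_mem hφ).1 (Subgroup.mem_zpowers u), (F.le_of_mem hφ).2 _⟩

/-- a subgroup of the centre of `S` is fully automized and receptive -/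
lemma fa_rec_of_le_center [Finite S] (hS : IsPGroup 2 ↥S) (F : FusionSystem S)
    (hF : F.IsSaturated 2) {Q : Subgroup Ω} (hQ : ∀ q ∈ Q, IsCentralIn S q) :
    F.IsFullyAutomized 2 Q ∧ F.IsReceptive Q := by
  have : Fact (Nat.Prime 2) := ⟨Nat.prime_two⟩
  have hsat := (saturated_iff hS F).mp hF
  have hQS : Q ≤ S := fun q hq => (hQ q hq).1
  have hSC : S ≤ Subgroup.centralizer (Q : Set Ω) := by
    intro s hs
    rw [Subgroup.mem_centralizer_iff]
    intro q hq
    exact ((hQ q hq).2 s hs).symm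
  have hC : centralizerIn S Q = S := le_antisymm inf_le_left (le_inf le_rfl hSC)
  have hN : normalizerIn S Q = S :=
    le_antisymm inf_le_left (le_inf le_rfl (hSC.trans (Subgroup.centralizer_le_normalizer _)))
  have hfn : F.IsFullyNormalized Q := by
    refine ⟨hQS, fun R _ => ?_⟩
    rw [hN]
    exact Subgroup.card_le_of_le inf_le_left
  have hfc : F.IsFullyCentralized Q := by
    refine ⟨hQS, fun R _ => ?_⟩
    rw [hC]
    exact Subgroup.card_le_of_le inf_le_left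
  exact ⟨(hsat.1 Q hfn).2, hsat.2 Q hfc⟩

lemma range_central {x z : Ω} (hz : IsCentralIn S z)
    {φ : Subgroup.zpowers x →* Ω} (hφz : φ ⟨x, Subgroup.mem_zpowers x⟩ = z) :
    ∀ q ∈ φ.range, IsCentralIn S q := by
  rintro q ⟨⟨y, hy⟩, rfl⟩
  obtain ⟨i, rfl⟩ := Subgroup.mem_zpowers_iff.mp hy
  have : (⟨x ^ i, hy⟩ : Subgroup.zpowers x) = ⟨x, Subgroup.mem_zpowers x⟩ ^ i := Subtype.ext rfl
  rw [this, map_zpow, hφz, isCentralIn_iff]
  exact Subgroup.zpow_mem _ (isCentralIn_iff.mp hz) i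

/-- Lemma A: a map of the system defined on `N_S(⟨x⟩)` carrying `x` into the centre of `S` -/
lemma exists_hom_center [Finite S] (hS : IsPGroup 2 ↥S) (F : FusionSystem S)
    (hF : F.IsSaturated 2) (hH : Hyp F) {x : Ω} (hx : x ∈ S) :
    ∃ ψ ∈ F.Hom (normalizerIn S (Subgroup.zpowers x)),
      ∀ hxN : x ∈ normalizerIn S (Subgroup.zpowers x), IsCentralIn S (ψ ⟨x, hxN⟩) := by
  have : Fact (Nat.Prime 2) := ⟨Nat.prime_two⟩
  obtain ⟨z, hz, φ, hφ, hφz⟩ := hH x hx
  have hQ := range_central (isCentralIn_iff.mpr hz) hφz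
  obtain ⟨hfa, hrec⟩ := fa_rec_of_le_center hS F hF hQ
  obtain ⟨ψ, hψ, e', he', hψx, -, -, -⟩ :=
    exists_extension_normalizerIn' hS F hfa hrec (isoOfRange F hφ rfl) (isIso_isoOfRange F hφ rfl)
  refine ⟨ψ, hψ, fun hxN => ?_⟩
  have h1 := hψx ⟨x, Subgroup.mem_zpowers x⟩
  have h2 : ψ ⟨x, hxN⟩ = ((e' ⟨x, Subgroup.mem_zpowers x⟩ : φ.range) : Ω) := h1
  rw [h2]
  exact hQ _ (e' ⟨x, Subgroup.mem_zpowers x⟩).2

/-- Lemma B: central elements conjugate in the system are conjugate under an automorphism of `S`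
belonging to the system -/
lemma exists_aut_of_central [Finite S] (hS : IsPGroup 2 ↥S) (F : FusionSystem S)
    (hF : F.IsSaturated 2) {z z' : Ω} (hz : IsCentralIn S z) (hz' : IsCentralIn S z')
    (hconj : F.IsConjElt z z') : ∃ α ∈ F.Hom S, α ⟨z, hz.1⟩ = z' := by
  obtain ⟨φ, hφ, hφz⟩ := hconj
  have hQ := range_central hz' hφz
  obtain ⟨-, hrec⟩ := fa_rec_of_le_center hS F hF hQ
  obtain ⟨ψ, hψ, hψx⟩ := hrec.2 _ φ hφ rfl
  have hzp : ∀ y ∈ Subgroup.zpowers z, IsCentralIn S y := by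
    intro y hy
    obtain ⟨i, rfl⟩ := Subgroup.mem_zpowers_iff.mp hy
    rw [isCentralIn_iff]
    exact Subgroup.zpow_mem _ (isCentralIn_iff.mp hz) i
  have hle : S ≤ extender S (Subgroup.zpowers z) φ := by
    intro g hg
    rw [mem_extender_iff]
    have hfix : ∀ y ∈ Subgroup.zpowers z, g * y * g⁻¹ = y := by
      intro y hy
      rw [(hzp y hy).2 g hg]; group
    refine ⟨hg, ?_, 1, S.one_mem, fun y hy => ?_⟩
    · rw [Subgroup.mem_normalizer_iff]
      intro y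
      constructor
      · intro hy; rw [hfix y hy]; exact hy
      · intro hy
        have h1 := hfix _ hy
        have h2 : g * y * g⁻¹ = y := by
          have := congrArg (fun t => g⁻¹ * t * g) h1
          simpa [mul_assoc] using this
        rw [← h2]; exact hy
    · have : (⟨g * (y : Ω) * g⁻¹, hy⟩ : Subgroup.zpowers z) = y := Subtype.ext (hfix y y.2)
      rw [this]; simp
  refine ⟨_, restrict_mem F hψ hle, ?_⟩
  have h1 := hψx z (Subgroup.mem_zpowers z) (hle hz.1)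
  rw [← hφz, ← h1]
  rfl

end Cfsg.Agent.Helper53.FCH
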