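import Mathlib
import Cfsg.Agent.Helper53.FCH1

set_option autoImplicit false

/-!
# Camina–Herzog for fusion systems: no element of order at least 4 is inverted
-/

namespace Cfsg.Agent.Helper53.FCH

open Cfsg Cfsg.FusionSystem Cfsg.Agent.Helper87 Cfsg.Agent.Helper53.CH

section Abstract

/-- a finite group acts on a group; if a Sylow 2-subgroup fixes `ζ` and some element inverts `ζ`
then `ζ` is an involution (or trivial) -/
lemma no_invert_abstract {A X : Type*} [Group A] [Finite A] [Group X] (θ : A →* MulAut X)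
    (T : Sylow 2 A) (ζ : X) (hT : ∀ t ∈ T, θ t ζ = ζ) (a : A) (ha : θ a ζ = ζ⁻¹) :
    ζ * ζ = 1 := by
  have : Fact (Nat.Prime 2) := ⟨Nat.prime_two⟩
  by_contra hne
  have hne' : ζ⁻¹ ≠ ζ := by
    intro h
    apply hne
    nth_rewrite 1 [← h]
    simp
  have happ : ∀ x y : A, θ (x * y) ζ = θ x (θ y ζ) := by
    intro x y
    rw [map_mul]; rfl
  have hinvapp : ∀ (x : A) (u v : X), θ x u = v → θ x⁻¹ v = u := by
    intro x u v h
    rw [← h, map_inv]; simp
  let Cs : Subgroup A :=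
    { carrier := {h | θ h ζ = ζ ∨ θ h ζ = ζ⁻¹}
      one_mem' := by left; simp
      mul_mem' := by
        intro x y hx hy
        rcases hx with hx | hx <;> rcases hy with hy | hy
        · left; rw [happ, hy, hx]
        · right; rw [happ, hy, map_inv, hx]
        · right; rw [happ, hy, hx]
        · left; rw [happ, hy, map_inv, hx, inv_inv]
      inv_mem' := by
        intro x hx
        rcases hx with hx | hx
        · left; exact hinvapp _ _ _ hx
        · right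
          have h1 := hinvapp _ _ _ hx
          have h2 : θ x⁻¹ ζ = (θ x⁻¹ ζ⁻¹)⁻¹ := by rw [map_inv (θ x⁻¹) ζ, inv_inv]
          rw [h2, h1] }
  let C : Subgroup A :=
    { carrier := {h | θ h ζ = ζ}
      one_mem' := by simp
      mul_mem' := by
        intro x y hx hy
        show θ (x * y) ζ = ζ
        rw [happ, hy, hx]
      inv_mem' := by
        intro x hx
        exact hinvapp _ _ _ hx }
  have hmemCs : ∀ h, h ∈ Cs ↔ (θ h ζ = ζ ∨ θ h ζ = ζ⁻¹) := fun h => Iff.rfl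
  have hmemC : ∀ h, h ∈ C ↔ θ h ζ = ζ := fun h => Iff.rfl
  have hle : C ≤ Cs := fun h hh => Or.inl hh
  have hTC : (T : Subgroup A) ≤ C := fun t ht => hT t ht
  have hrel : C.relIndex Cs = 2 := by
    rw [Subgroup.relIndex_eq_two_iff]
    refine ⟨a, Or.inr ha, ?_⟩
    intro b hb
    have e : θ (b * a) ζ = (θ b ζ)⁻¹ := by rw [happ, ha, map_inv]
    rcases hb with hb | hb
    · refine Or.inr ⟨hb, ?_⟩
      rw [hmemC, e, hb]
      exact hne'
    · refine Or.inl ⟨?_, ?_⟩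
      · rw [hmemC, e, hb, inv_inv]
      · rw [hmemC, hb]
        exact hne'
  have h2 := Subgroup.relIndex_mul_index hle
  rw [hrel] at h2
  have h3 : 2 ∣ C.index := ⟨Cs.index, h2.symm⟩
  exact T.not_dvd_index (h3.trans (Subgroup.index_dvd_of_le hTC))

end Abstract

variable {Ω : Type*} [Group Ω] {S : Subgroup Ω}

lemma isCentralIn_inv {z : Ω} (hz : IsCentralIn S z) : IsCentralIn S z⁻¹ := by
  rw [isCentralIn_iff] at hz ⊢
  exact Subgroup.inv_mem _ hz

lemma isCentralIn_one : IsCentralIn S (1 : Ω) := by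
  rw [isCentralIn_iff]
  exact Subgroup.one_mem _

/-- a map of the system from `S` is onto `S` -/
lemma range_eq_of_hom_top [Finite S] (F : FusionSystem S) {α : S →* Ω} (hα : α ∈ F.Hom S) :
    α.range = S := by
  apply Subgroup.eq_of_le_of_card_ge
  · rintro _ ⟨s, rfl⟩
    exact (F.le_of_mem hα).2 s
  · exact le_of_eq (Nat.card_congr (MonoidHom.ofInjective (F.injective_of_mem hα)).toEquiv)

/-- `S` is fully automized -/
lemma fullyAutomized_top [Finite S] (hS : IsPGroup 2 ↥S) (F : FusionSystem S)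
    (hF : F.IsSaturated 2) : F.IsFullyAutomized 2 S := by
  have : Fact (Nat.Prime 2) := ⟨Nat.prime_two⟩
  have hNS : normalizerIn S S = S := le_antisymm inf_le_left (le_inf le_rfl Subgroup.le_normalizer)
  have hfn : F.IsFullyNormalized S := by
    refine ⟨le_rfl, fun R _ => ?_⟩
    rw [hNS]
    exact Subgroup.card_le_of_le inf_le_left
  exact (((saturated_iff hS F).mp hF).1 S hfn).2

/-- Lemma C: an element conjugate in the system to its inverse has order at most 2 -/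
lemma no_invert [Finite S] (hS : IsPGroup 2 ↥S) (F : FusionSystem S)
    (hF : F.IsSaturated 2) (hH : Hyp F) {w : Ω} (hconj : F.IsConjElt w w⁻¹) : w * w = 1 := by
  have : Fact (Nat.Prime 2) := ⟨Nat.prime_two⟩
  have hwS : w ∈ S := (conjElt_mem F hconj).1
  obtain ⟨ψ, hψ, hψc⟩ := exists_hom_center hS F hF hH hwS
  have hwN : w ∈ normalizerIn S (Subgroup.zpowers w) :=
    le_normalizerIn (by rw [Subgroup.zpowers_le]; exact hwS) (Subgroup.mem_zpowers w)
  have hζ := hψc hwN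
  have h1 : F.IsConjElt w (ψ ⟨w, hwN⟩) := conjElt_of_hom F hψ hwN
  have hwinvN : w⁻¹ ∈ normalizerIn S (Subgroup.zpowers w) := Subgroup.inv_mem _ hwN
  have h2 : F.IsConjElt w⁻¹ (ψ ⟨w⁻¹, hwinvN⟩) := conjElt_of_hom F hψ hwinvN
  have e : ψ ⟨w⁻¹, hwinvN⟩ = (ψ ⟨w, hwN⟩)⁻¹ := by
    rw [← map_inv]; rfl
  rw [e] at h2
  have h3 : F.IsConjElt (ψ ⟨w, hwN⟩) (ψ ⟨w, hwN⟩)⁻¹ :=
    conjElt_trans F (conjElt_symm F h1) (conjElt_trans F hconj h2)
  obtain ⟨α, hα, hαζ⟩ := exists_aut_of_central hS F hF hζ (isCentralIn_inv hζ) h3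
  have hrange := range_eq_of_hom_top F hα
  have hmem : isoOfRange F hα hrange ∈ F.autGroup S :=
    (mem_autGroup_iff F le_rfl _).mpr (isIso_isoOfRange F hα hrange)
  obtain ⟨-, T, hT⟩ := fullyAutomized_top hS F hF
  have : Finite (MulAut S) := finite_mulAut_of_le (le_refl S)
  have hfix : ∀ t ∈ T, (F.autGroup S).subtype t ⟨ψ ⟨w, hwN⟩, hζ.1⟩ = ⟨ψ ⟨w, hwN⟩, hζ.1⟩ := by
    intro t ht
    have ht' : t ∈ (T : Subgroup (F.autGroup S)) := ht
    rw [hT, Subgroup.mem_subgroupOf] at ht'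
    obtain ⟨g, hg, hgx⟩ := (mem_autInducedBy_iff S S _).mp ht'
    apply Subtype.ext
    have := hgx ⟨ψ ⟨w, hwN⟩, hζ.1⟩
    rw [Subgroup.coe_subtype, this]
    show g * ψ ⟨w, hwN⟩ * g⁻¹ = ψ ⟨w, hwN⟩
    rw [hζ.2 g hg]; group
  have hinv : (F.autGroup S).subtype ⟨isoOfRange F hα hrange, hmem⟩ ⟨ψ ⟨w, hwN⟩, hζ.1⟩ =
      (⟨ψ ⟨w, hwN⟩, hζ.1⟩ : S)⁻¹ := by
    apply Subtype.ext
    show ((isoOfRange F hα hrange ⟨ψ ⟨w, hwN⟩, hζ.1⟩ : S) : Ω) = (ψ ⟨w, hwN⟩)⁻¹
    rw [isoOfRange_apply, hαζ]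
  have h4 := no_invert_abstract (F.autGroup S).subtype T ⟨ψ ⟨w, hwN⟩, hζ.1⟩ hfix _ hinv
  have h5 : ψ ⟨w, hwN⟩ * ψ ⟨w, hwN⟩ = 1 := by
    have := congrArg Subtype.val h4
    simpa using this
  have h6 : ψ (⟨w, hwN⟩ * ⟨w, hwN⟩) = ψ 1 := by rw [map_mul, h5, map_one]
  have h7 := F.injective_of_mem hψ h6
  have := congrArg Subtype.val h7
  simpa using this

end Cfsg.Agent.Helper53.FCH
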