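import Mathlib
import Cfsg.Agent.Helper53.FCH2

set_option autoImplicit false

/-!
# Camina–Herzog for fusion systems: the straightening lemma
-/

namespace Cfsg.Agent.Helper53.FCH

open Cfsg Cfsg.FusionSystem Cfsg.Agent.Helper87 Cfsg.Agent.Helper53.CH

variable {Ω : Type*} [Group Ω] {S : Subgroup Ω}

lemma mem_normalizerIn_zpowers {y u : Ω} (hy : y ∈ S) (h : y * u = u * y) :
    y ∈ normalizerIn S (Subgroup.zpowers u) := by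
  refine ⟨hy, ?_⟩
  show y ∈ Subgroup.normalizer (Subgroup.zpowers u : Set Ω)
  rw [Subgroup.mem_normalizer_iff]
  have key : ∀ t ∈ Subgroup.zpowers u, y * t * y⁻¹ = t := by
    intro t ht
    obtain ⟨i, rfl⟩ := Subgroup.mem_zpowers_iff.mp ht
    have : Commute y (u ^ i) := (show Commute y u from h).zpow_right i
    rw [this.eq]; group
  intro t
  constructor
  · intro ht; rw [key t ht]; exact ht
  · intro ht
    have h1 := key _ ht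
    have h2 : y * t * y⁻¹ = t := by
      have := congrArg (fun s => y⁻¹ * s * y) h1
      simpa [mul_assoc] using this
    rw [← h2]; exact ht

/-- an automorphism of `S` in the system maps central elements to central elements -/
lemma central_map [Finite S] (F : FusionSystem S) {α : S →* Ω} (hα : α ∈ F.Hom S)
    {z : Ω} (hz : IsCentralIn S z) : IsCentralIn S (α ⟨z, hz.1⟩) := by
  refine ⟨(F.le_of_mem hα).2 _, fun s hs => ?_⟩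
  have hs' : s ∈ α.range := by rw [range_eq_of_hom_top F hα]; exact hs
  obtain ⟨s', rfl⟩ := hs'
  rw [← map_mul, ← map_mul]
  congr 1
  exact Subtype.ext (hz.2 s' s'.2)

lemma central_of_map (F : FusionSystem S) {α : S →* Ω} (hα : α ∈ F.Hom S)
    (z' : S) (h : IsCentralIn S (α z')) : IsCentralIn S (z' : Ω) := by
  refine ⟨z'.2, fun s hs => ?_⟩
  have h1 := h.2 (α ⟨s, hs⟩) ((F.le_of_mem hα).2 _)
  rw [← map_mul, ← map_mul] at h1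
  have h2 := F.injective_of_mem hα h1
  exact congrArg Subtype.val h2

lemma straighten [Finite S] (hS : IsPGroup 2 ↥S) (F : FusionSystem S)
    (hF : F.IsSaturated 2) (hH : Hyp F) {a b : Ω}
    (ha : a ∈ S) (hb : b ∈ S)
    (ha2 : a * a = 1) (hab : a * (b * b) = (b * b) * a)
    (hcZ : IsCentralIn S (a⁻¹ * (b * a * b⁻¹))) :
    ∃ z, IsCentralIn S z ∧ a⁻¹ * (b * a * b⁻¹) = z * z := by
  -- step 1
  obtain ⟨ψ0, hψ0, hψ0c⟩ := exists_hom_center hS F hF hH hb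
  have hbN : b ∈ normalizerIn S (Subgroup.zpowers b) := mem_normalizerIn_zpowers hb rfl
  have hζ0 := hψ0c hbN
  have hβS : b * b ∈ S := S.mul_mem hb hb
  have hββ : ψ0 ⟨b * b, Subgroup.mul_mem _ hbN hbN⟩ = ψ0 ⟨b, hbN⟩ * ψ0 ⟨b, hbN⟩ := by
    rw [← map_mul]; rfl
  have hc1 : F.IsConjElt (b * b) (ψ0 ⟨b, hbN⟩ * ψ0 ⟨b, hbN⟩) := by
    rw [← hββ]
    exact conjElt_of_hom F hψ0 _
  -- step 2
  obtain ⟨ψ, hψ, hψc⟩ := exists_hom_center hS F hF hH hβS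
  have hβN : b * b ∈ normalizerIn S (Subgroup.zpowers (b * b)) := mem_normalizerIn_zpowers hβS rfl
  have haN : a ∈ normalizerIn S (Subgroup.zpowers (b * b)) := mem_normalizerIn_zpowers ha hab
  have hbN' : b ∈ normalizerIn S (Subgroup.zpowers (b * b)) :=
    mem_normalizerIn_zpowers hb (by group)
  have hcN : a⁻¹ * (b * a * b⁻¹) ∈ normalizerIn S (Subgroup.zpowers (b * b)) :=
    mem_normalizerIn_zpowers hcZ.1 (hcZ.2 _ hβS).symm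
  have hβc := hψc hβN
  -- step 3
  have hc2 : F.IsConjElt (ψ0 ⟨b, hbN⟩ * ψ0 ⟨b, hbN⟩) (ψ ⟨b * b, hβN⟩) :=
    conjElt_trans F (conjElt_symm F hc1) (conjElt_of_hom F hψ hβN)
  obtain ⟨α, hα, hαζ⟩ := exists_aut_of_central hS F hF (hζ0.mul hζ0) hβc hc2
  have hζc : IsCentralIn S (α ⟨ψ0 ⟨b, hbN⟩, hζ0.1⟩) := central_map F hα hζ0
  have hζζ : α ⟨ψ0 ⟨b, hbN⟩, hζ0.1⟩ * α ⟨ψ0 ⟨b, hbN⟩, hζ0.1⟩ = ψ ⟨b * b, hβN⟩ := by
    rw [← hαζ, ← map_mul]; rfl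
  -- step 4
  have ha'S : ψ ⟨a, haN⟩ ∈ S := (F.le_of_mem hψ).2 _
  have hb'S : ψ ⟨b, hbN'⟩ ∈ S := (F.le_of_mem hψ).2 _
  have ha'2 : ψ ⟨a, haN⟩ * ψ ⟨a, haN⟩ = 1 := by
    rw [← map_mul]
    have : (⟨a, haN⟩ * ⟨a, haN⟩ : normalizerIn S (Subgroup.zpowers (b * b))) = 1 :=
      Subtype.ext ha2
    rw [this, map_one]
  have hb'2 : ψ ⟨b, hbN'⟩ * ψ ⟨b, hbN'⟩ =
      α ⟨ψ0 ⟨b, hbN⟩, hζ0.1⟩ * α ⟨ψ0 ⟨b, hbN⟩, hζ0.1⟩ := by
    rw [hζζ, ← map_mul]; rfl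
  have hrel : ψ ⟨b, hbN'⟩ * ψ ⟨a, haN⟩ * (ψ ⟨b, hbN'⟩)⁻¹ =
      ψ ⟨a, haN⟩ * ψ ⟨a⁻¹ * (b * a * b⁻¹), hcN⟩ := by
    rw [← map_inv, ← map_mul, ← map_mul, ← map_mul]
    congr 1
    apply Subtype.ext
    show b * a * b⁻¹ = a * (a⁻¹ * (b * a * b⁻¹))
    group
  -- abbreviations
  generalize ψ ⟨a, haN⟩ = a' at ha'S ha'2 hrel
  generalize hc'def : ψ ⟨a⁻¹ * (b * a * b⁻¹), hcN⟩ = c' at hrel
  generalize α ⟨ψ0 ⟨b, hbN⟩, hζ0.1⟩ = ζ at hζc hζζ hb'2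
  generalize ψ ⟨b, hbN'⟩ = b' at hb'S hb'2 hrel
  have hζb' : b' * ζ = ζ * b' := hζc.2 b' hb'S
  have hζa' : a' * ζ = ζ * a' := hζc.2 a' ha'S
  have hζb'inv : b' * ζ⁻¹ = ζ⁻¹ * b' := by
    have : b' * ζ⁻¹ = ζ⁻¹ * (ζ * b') * ζ⁻¹ := by group
    rw [this, ← hζb']; group
  have hζa'inv : a' * ζ⁻¹ = ζ⁻¹ * a' := by
    have : a' * ζ⁻¹ = ζ⁻¹ * (ζ * a') * ζ⁻¹ := by group
    rw [this, ← hζa']; group
  have hb''S : b' * ζ⁻¹ ∈ S := S.mul_mem hb'S (S.inv_mem hζc.1)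
  have hb''2 : (b' * ζ⁻¹) * (b' * ζ⁻¹) = 1 := by
    have : b' * ζ⁻¹ * (b' * ζ⁻¹) = b' * (ζ⁻¹ * b') * ζ⁻¹ := by group
    rw [this, ← hζb'inv]
    have : b' * (b' * ζ⁻¹) * ζ⁻¹ = (b' * b') * ζ⁻¹ * ζ⁻¹ := by group
    rw [this, hb'2]; group
  have hrel'' : (b' * ζ⁻¹) * a' * (b' * ζ⁻¹)⁻¹ = a' * c' := by
    rw [← hrel]
    have : b' * ζ⁻¹ * a' * (b' * ζ⁻¹)⁻¹ = b' * (ζ⁻¹ * a') * ζ * b'⁻¹ := by group
    rw [this, ← hζa'inv]; group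
  have hyS : a' * (b' * ζ⁻¹) ∈ S := S.mul_mem ha'S hb''S
  have hy2 : (a' * (b' * ζ⁻¹)) * (a' * (b' * ζ⁻¹)) = c' := by
    have : (a' * (b' * ζ⁻¹)) * (a' * (b' * ζ⁻¹)) =
        a' * ((b' * ζ⁻¹) * a' * (b' * ζ⁻¹)⁻¹) * ((b' * ζ⁻¹) * (b' * ζ⁻¹)) := by group
    rw [this, hrel'', hb''2, mul_one, ← mul_assoc, ha'2, one_mul]
  generalize a' * (b' * ζ⁻¹) = y at hyS hy2
  -- step 5
  obtain ⟨ψ1, hψ1, hψ1c⟩ := exists_hom_center hS F hF hH hyS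
  have hyN : y ∈ normalizerIn S (Subgroup.zpowers y) := mem_normalizerIn_zpowers hyS rfl
  have hη := hψ1c hyN
  have hηη : ψ1 ⟨y * y, Subgroup.mul_mem _ hyN hyN⟩ = ψ1 ⟨y, hyN⟩ * ψ1 ⟨y, hyN⟩ := by
    rw [← map_mul]; rfl
  have hc3 : F.IsConjElt (y * y) (ψ1 ⟨y, hyN⟩ * ψ1 ⟨y, hyN⟩) := by
    rw [← hηη]
    exact conjElt_of_hom F hψ1 _
  have hc4 : F.IsConjElt (a⁻¹ * (b * a * b⁻¹)) c' := by
    rw [← hc'def]
    exact conjElt_of_hom F hψ hcN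
  rw [hy2] at hc3
  obtain ⟨α', hα', hα'c⟩ := exists_aut_of_central hS F hF hcZ (hη.mul hη) (conjElt_trans F hc4 hc3)
  have hηr : ψ1 ⟨y, hyN⟩ ∈ α'.range := by
    rw [range_eq_of_hom_top F hα']; exact hη.1
  obtain ⟨z', hz'⟩ := hηr
  refine ⟨z', central_of_map F hα' z' (by rw [hz']; exact hη), ?_⟩
  have h1 : α' (z' * z') = α' ⟨a⁻¹ * (b * a * b⁻¹), hcZ.1⟩ := by
    rw [map_mul, hz', hα'c]
  have h2 := F.injective_of_mem hα' h1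
  have := congrArg Subtype.val h2
  exact this.symm

end Cfsg.Agent.Helper53.FCH
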