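import Mathlib
import Cfsg.Agent.Helper53.FCH3

set_option autoImplicit false

/-!
# Camina–Herzog for fusion systems: the local configuration
-/

namespace Cfsg.Agent.Helper53.FCH

open Cfsg Cfsg.FusionSystem Cfsg.Agent.Helper87 Cfsg.Agent.Helper53.CH

variable {Ω : Type*} [Group Ω]

/-- the configuration: `x` is a non-central element of `S` whose centralizer `P` in `S` has the
largest possible order, `V = Z(P)`. -/
structure FCfg (S : Subgroup Ω) (x : Ω) (P V : Subgroup Ω) : Prop where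
  hxS : x ∈ S
  hxnc : ¬ IsCentralIn S x
  hmax : ∀ x' : Ω, x' ∈ S → ¬ IsCentralIn S x' →
    Nat.card ↥(S ⊓ Subgroup.centralizer ({x'} : Set Ω)) ≤ Nat.card ↥P
  hP : P = S ⊓ Subgroup.centralizer ({x} : Set Ω)
  hV : V = P ⊓ Subgroup.centralizer (P : Set Ω)

namespace FCfg

variable {S : Subgroup Ω} {x : Ω} {P V : Subgroup Ω}

lemma P_le_S (c : FCfg S x P V) : P ≤ S := by
  rw [c.hP]; exact inf_le_left

lemma mem_P (c : FCfg S x P V) {y : Ω} : y ∈ P ↔ y ∈ S ∧ y * x = x * y := by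
  rw [c.hP, Subgroup.mem_inf, mem_centralizer_singleton]

lemma x_mem_P (c : FCfg S x P V) : x ∈ P := c.mem_P.mpr ⟨c.hxS, rfl⟩

lemma V_le_P (c : FCfg S x P V) : V ≤ P := by
  rw [c.hV]; exact inf_le_left

lemma V_le_S (c : FCfg S x P V) : V ≤ S := c.V_le_P.trans c.P_le_S

lemma mem_V (c : FCfg S x P V) {v : Ω} : v ∈ V ↔ v ∈ P ∧ ∀ p ∈ P, p * v = v * p := by
  rw [c.hV, Subgroup.mem_inf, Subgroup.mem_centralizer_iff]
  rfl

lemma V_comm_P (c : FCfg S x P V) {v p : Ω} (hv : v ∈ V) (hp : p ∈ P) : p * v = v * p :=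
  (c.mem_V.mp hv).2 p hp

lemma V_comm (c : FCfg S x P V) {v w : Ω} (hv : v ∈ V) (hw : w ∈ V) : w * v = v * w :=
  c.V_comm_P hv (c.V_le_P hw)

lemma x_mem_V (c : FCfg S x P V) : x ∈ V :=
  c.mem_V.mpr ⟨c.x_mem_P, fun _ hp => (c.mem_P.mp hp).2⟩

lemma central_mem_V (c : FCfg S x P V) {z : Ω} (hz : IsCentralIn S z) : z ∈ V := by
  refine c.mem_V.mpr ⟨c.mem_P.mpr ⟨hz.1, (hz.2 x c.hxS).symm⟩, fun p hp => hz.2 p (c.P_le_S hp)⟩

/-- the centralizer in `S` of a non-central element of `V` is exactly `P` -/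
lemma cen_eq [Finite S] (c : FCfg S x P V) {v : Ω} (hv : v ∈ V)
    (hnc : ¬ IsCentralIn S v) :
    S ⊓ Subgroup.centralizer ({v} : Set Ω) = P := by
  have hle : P ≤ S ⊓ Subgroup.centralizer ({v} : Set Ω) := by
    intro p hp
    exact ⟨c.P_le_S hp, mem_centralizer_singleton.mpr (c.V_comm_P hv hp)⟩
  have : Finite ↥(S ⊓ Subgroup.centralizer ({v} : Set Ω)) := finite_of_le inf_le_left
  exact (Subgroup.eq_of_le_of_card_ge hle (c.hmax v (c.V_le_S hv) hnc)).symm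

/-- an element of `S` outside `P` fixes exactly the central elements of `V` -/
lemma fix_iff [Finite S] (c : FCfg S x P V) {t : Ω} (htS : t ∈ S) (htP : t ∉ P)
    {v : Ω} (hv : v ∈ V) : t * v * t⁻¹ = v ↔ IsCentralIn S v := by
  constructor
  · intro h
    by_contra hnc
    apply htP
    rw [← c.cen_eq hv hnc]
    refine ⟨htS, mem_centralizer_singleton.mpr ?_⟩
    have : t * v = (t * v * t⁻¹) * t := by group
    rw [this, h]
  · intro h
    rw [h.2 t htS]; group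

/-- an automorphism of `P` preserves `V = Z(P)` -/
lemma aut_mem_V (c : FCfg S x P V) (α : MulAut P) {v : P} (hv : (v : Ω) ∈ V) :
    ((α v : P) : Ω) ∈ V := by
  refine c.mem_V.mpr ⟨(α v).2, fun p hp => ?_⟩
  have h1 := c.V_comm_P hv (α⁻¹ ⟨p, hp⟩).2
  have h2 : α⁻¹ ⟨p, hp⟩ * v = v * α⁻¹ ⟨p, hp⟩ := Subtype.ext h1
  have h3 := congrArg (fun t => ((α t : P) : Ω)) h2
  simpa using h3

lemma P_lt_S (c : FCfg S x P V) : P < S := by
  refine lt_of_le_of_ne c.P_le_S ?_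
  intro h
  apply c.hxnc
  refine ⟨c.hxS, fun s hs => ?_⟩
  rw [← h] at hs
  exact (c.mem_P.mp hs).2

/-- an element of `N_S(P)` outside `P` whose square lies in `P` -/
lemma exists_b [Finite S] (hS : IsPGroup 2 ↥S) (c : FCfg S x P V) :
    ∃ b, b ∈ S ∧ b ∈ Subgroup.normalizer (P : Set Ω) ∧ b ∉ P ∧ b * b ∈ P := by
  classical
  have : Fact (Nat.Prime 2) := ⟨Nat.prime_two⟩
  obtain ⟨y, hyN, hyP⟩ := SetLike.exists_of_lt (lt_normalizerIn hS c.P_lt_S)
  have hyS : y ∈ S := hyN.1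
  have hyNP : y ∈ Subgroup.normalizer (P : Set Ω) := hyN.2
  obtain ⟨k, hk⟩ := pow_two_pow_eq_one (two_elt_of_mem hS hyS)
  have hex : ∃ j, y ^ (2 ^ j) ∈ P := ⟨k, by rw [hk]; exact P.one_mem⟩
  have hj := Nat.find_spec hex
  have hj0 : Nat.find hex ≠ 0 := by
    intro h
    rw [h] at hj
    apply hyP
    simpa using hj
  obtain ⟨i, hi⟩ := Nat.exists_eq_succ_of_ne_zero hj0
  refine ⟨y ^ (2 ^ i), Subgroup.pow_mem _ hyS _, Subgroup.pow_mem _ hyNP _, ?_, ?_⟩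
  · exact Nat.find_min hex (by rw [hi]; exact Nat.lt_succ_self i)
  · rw [← pow_add, ← two_mul, ← pow_succ', ← Nat.succ_eq_add_one, ← hi]
    exact hj

end FCfg

end Cfsg.Agent.Helper53.FCH
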