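import Mathlib
import Cfsg.Agent.Helper53.FCH4

set_option autoImplicit false

/-!
# Camina–Herzog for fusion systems: a fully automized receptive configuration; covering of `Z(P)`
-/

namespace Cfsg.Agent.Helper53.FCH

open Cfsg Cfsg.FusionSystem Cfsg.Agent.Helper87 Cfsg.Agent.Helper53.CH

variable {Ω : Type*} [Group Ω] {S : Subgroup Ω} {x : Ω} {P V : Subgroup Ω}

/-- the configuration can be moved to a fully automized receptive subgroup -/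
lemma exists_good [Finite S] (hS : IsPGroup 2 ↥S) (F : FusionSystem S)
    (hF : F.IsSaturated 2) (c : FCfg S x P V) :
    ∃ (x' : Ω) (Q W : Subgroup Ω), FCfg S x' Q W ∧ F.IsFullyAutomized 2 Q ∧ F.IsReceptive Q := by
  have : Fact (Nat.Prime 2) := ⟨Nat.prime_two⟩
  obtain ⟨Q, hconj, hfa, hrec⟩ := hF P c.P_le_S
  obtain ⟨e, he⟩ := (isConj_iff F P Q).mp hconj
  obtain ⟨φ, hφ, e', he', hφx, hval, -, -⟩ := exists_extension_normalizerIn' hS F hfa hrec e he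
  have hQS : Q ≤ S := he'.le_right
  have hx'S : ((e' ⟨x, c.x_mem_P⟩ : Q) : Ω) ∈ S := hQS (e' ⟨x, c.x_mem_P⟩).2
  have hx'Q : ∀ q ∈ Q, q * ((e' ⟨x, c.x_mem_P⟩ : Q) : Ω) = ((e' ⟨x, c.x_mem_P⟩ : Q) : Ω) * q := by
    intro q hq
    have h1 : e'.symm ⟨q, hq⟩ * ⟨x, c.x_mem_P⟩ = ⟨x, c.x_mem_P⟩ * e'.symm ⟨q, hq⟩ :=
      Subtype.ext (c.mem_P.mp (e'.symm ⟨q, hq⟩).2).2
    have h2 := congrArg (fun t => ((e' t : Q) : Ω)) h1
    simpa using h2
  have hx'nc : ¬ IsCentralIn S ((e' ⟨x, c.x_mem_P⟩ : Q) : Ω) := by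
    intro hcen
    obtain ⟨t, htN, htP⟩ := SetLike.exists_of_lt (lt_normalizerIn hS c.P_lt_S)
    apply htP
    refine c.mem_P.mpr ⟨htN.1, ?_⟩
    have h1 := hcen.2 (φ ⟨t, htN⟩) ((F.le_of_mem hφ).2 _)
    rw [← hφx ⟨x, c.x_mem_P⟩, ← map_mul, ← map_mul] at h1
    have h2 := F.injective_of_mem hφ h1
    exact congrArg Subtype.val h2
  have hcard : Nat.card ↥P = Nat.card ↥Q := Nat.card_congr e'.toEquiv
  have hle : Q ≤ S ⊓ Subgroup.centralizer ({((e' ⟨x, c.x_mem_P⟩ : Q) : Ω)} : Set Ω) := by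
    intro q hq
    exact ⟨hQS hq, mem_centralizer_singleton.mpr (hx'Q q hq)⟩
  have hfin : Finite ↥(S ⊓ Subgroup.centralizer ({((e' ⟨x, c.x_mem_P⟩ : Q) : Ω)} : Set Ω)) :=
    finite_of_le inf_le_left
  have hQeq : Q = S ⊓ Subgroup.centralizer ({((e' ⟨x, c.x_mem_P⟩ : Q) : Ω)} : Set Ω) := by
    apply Subgroup.eq_of_le_of_card_ge hle
    rw [← hcard]
    exact c.hmax _ hx'S hx'nc
  refine ⟨((e' ⟨x, c.x_mem_P⟩ : Q) : Ω), Q, Q ⊓ Subgroup.centralizer (Q : Set Ω),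
    ⟨hx'S, hx'nc, fun x'' h1 h2 => ?_, hQeq, rfl⟩, hfa, hrec⟩
  rw [← hcard]
  exact c.hmax x'' h1 h2

/-- every element of `V = Z(P)` is conjugate, under an automorphism of `P` in the system, to a
central element of `S` -/
lemma covering [Finite S] (hS : IsPGroup 2 ↥S) (F : FusionSystem S)
    (hF : F.IsSaturated 2) (hH : Hyp F) (c : FCfg S x P V)
    (hfa : F.IsFullyAutomized 2 P) (hrec : F.IsReceptive P) {v : Ω} (hv : v ∈ V) :
    ∃ μ : MulAut P, μ ∈ F.autGroup P ∧ IsCentralIn S ((μ ⟨v, c.V_le_P hv⟩ : P) : Ω) := by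
  have : Fact (Nat.Prime 2) := ⟨Nat.prime_two⟩
  by_cases hvc : IsCentralIn S v
  · exact ⟨1, Subgroup.one_mem _, by simpa using hvc⟩
  have hvS : v ∈ S := c.V_le_S hv
  obtain ⟨ψ, hψ, hψc⟩ := exists_hom_center hS F hF hH hvS
  have hPN : P ≤ normalizerIn S (Subgroup.zpowers v) := by
    intro p hp
    exact mem_normalizerIn_zpowers (c.P_le_S hp) (c.V_comm_P hv hp)
  have hvN : v ∈ normalizerIn S (Subgroup.zpowers v) := hPN (c.V_le_P hv)
  have hζ := hψc hvN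
  have hψP : ψ.comp (Subgroup.inclusion hPN) ∈ F.Hom P := restrict_mem F hψ hPN
  have he := isIso_isoOfRange F hψP rfl
  obtain ⟨φ, hφ, e', he', hφx, hval, -, hback⟩ :=
    exists_extension_normalizerIn' hS F hfa hrec (isoOfRange F hψP rfl).symm he.symm
  have hP'S : (ψ.comp (Subgroup.inclusion hPN)).range ≤ S := he.le_right
  have hcard : Nat.card ↥P = Nat.card ↥(ψ.comp (Subgroup.inclusion hPN)).range :=
    Nat.card_congr (isoOfRange F hψP rfl).toEquiv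
  have hP'lt : (ψ.comp (Subgroup.inclusion hPN)).range < S := by
    refine lt_of_le_of_ne hP'S (fun h => ?_)
    have h1 := card_lt_card_of_lt c.P_lt_S
    rw [hcard, h] at h1
    exact lt_irrefl _ h1
  obtain ⟨y', hy'N, hy'P'⟩ := SetLike.exists_of_lt (lt_normalizerIn hS hP'lt)
  have hsN : φ ⟨y', hy'N⟩ ∈ normalizerIn S P := hval _
  have hsP : φ ⟨y', hy'N⟩ ∉ P := fun h => hy'P' (hback ⟨y', hy'N⟩ h)
  have hζP' : ψ ⟨v, hvN⟩ ∈ (ψ.comp (Subgroup.inclusion hPN)).range := ⟨⟨v, c.V_le_P hv⟩, rfl⟩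
  have hμ : IsIso F ((isoOfRange F hψP rfl).trans e') := he.trans he'
  refine ⟨(isoOfRange F hψP rfl).trans e', (mem_autGroup_iff F c.P_le_S _).mpr hμ, ?_⟩
  have hv'V : ((((isoOfRange F hψP rfl).trans e') ⟨v, c.V_le_P hv⟩ : P) : Ω) ∈ V :=
    c.aut_mem_V ((isoOfRange F hψP rfl).trans e') hv
  have hev : (isoOfRange F hψP rfl) ⟨v, c.V_le_P hv⟩ = ⟨ψ ⟨v, hvN⟩, hζP'⟩ := Subtype.ext rfl
  have hv'eq : ((((isoOfRange F hψP rfl).trans e') ⟨v, c.V_le_P hv⟩ : P) : Ω) =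
      φ ⟨ψ ⟨v, hvN⟩, le_normalizerIn hP'S hζP'⟩ := by
    rw [MulEquiv.trans_apply, hev]
    exact (hφx ⟨ψ ⟨v, hvN⟩, hζP'⟩).symm
  by_contra hnc
  apply hsP
  refine (c.cen_eq hv'V hnc).le ⟨hsN.1, mem_centralizer_singleton.mpr ?_⟩
  rw [hv'eq, ← map_mul, ← map_mul]
  congr 1
  apply Subtype.ext
  exact hζ.2 y' hy'N.1

end Cfsg.Agent.Helper53.FCH
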