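import Mathlib
import Cfsg.Agent.Helper53.FCH5
import Cfsg.Agent.Helper53.CH6

set_option autoImplicit false

/-!
# Camina–Herzog for fusion systems: the local contradiction
-/

namespace Cfsg.Agent.Helper53.FCH

open Cfsg Cfsg.FusionSystem Cfsg.Agent.Helper87 Cfsg.Agent.Helper53.CH

variable {Ω : Type*} [Group Ω]

/-- restriction of the automorphisms of `P` to a subgroup `V ≤ P` preserved by all of them -/
def restrictAut (P V : Subgroup Ω) (hVP : V ≤ P)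
    (hchar : ∀ (α : MulAut P) (v : P), (v : Ω) ∈ V → ((α v : P) : Ω) ∈ V) :
    MulAut P →* MulAut V where
  toFun α :=
    { toFun := fun v => ⟨((α ⟨v, hVP v.2⟩ : P) : Ω), hchar α ⟨v, hVP v.2⟩ v.2⟩
      invFun := fun v => ⟨((α⁻¹ ⟨v, hVP v.2⟩ : P) : Ω), hchar α⁻¹ ⟨v, hVP v.2⟩ v.2⟩
      left_inv := by
        intro v
        apply Subtype.ext
        simp
      right_inv := by
        intro v
        apply Subtype.ext
        simp
      map_mul' := by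
        intro v w
        apply Subtype.ext
        show ((α (⟨v, hVP v.2⟩ * ⟨w, hVP w.2⟩) : P) : Ω) = _
        rw [map_mul]
        rfl }
  map_one' := by
    ext v
    rfl
  map_mul' := by
    intro α β
    ext v
    rfl

lemma restrictAut_apply (P V : Subgroup Ω) (hVP : V ≤ P)
    (hchar : ∀ (α : MulAut P) (v : P), (v : Ω) ∈ V → ((α v : P) : Ω) ∈ V) (α : MulAut P) (v : V) :
    ((restrictAut P V hVP hchar α v : V) : Ω) = ((α ⟨v, hVP v.2⟩ : P) : Ω) := rfl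

variable {S : Subgroup Ω} {x : Ω} {P V : Subgroup Ω}

theorem local_contra [Finite S] (hS : IsPGroup 2 ↥S) (F : FusionSystem S)
    (hF : F.IsSaturated 2) (hH : Hyp F) (c : FCfg S x P V)
    (hfa : F.IsFullyAutomized 2 P) (hrec : F.IsReceptive P) : False := by
  classical
  have : Fact (Nat.Prime 2) := ⟨Nat.prime_two⟩
  have hPS : P ≤ S := c.P_le_S
  have hfinA : Finite (MulAut P) := finite_mulAut_of_le hPS
  have hfinV : Finite ↥V := finite_of_le c.V_le_S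
  obtain ⟨b, hbS, hbN, hbP, hb2P⟩ := c.exists_b hS
  obtain ⟨μ, hμN, hμc⟩ := covering hS F hF hH c hfa hrec c.x_mem_V
  obtain ⟨-, T, hT⟩ := hfa
  let θ : ↥(F.autGroup P) →* MulAut ↥V :=
    (restrictAut P V c.V_le_P (fun α v hv => c.aut_mem_V α hv)).comp (F.autGroup P).subtype
  have hθ : ∀ (y : ↥(F.autGroup P)) (v : ↥V),
      ((θ y v : ↥V) : Ω) = (((y : MulAut P) ⟨v, c.V_le_P v.2⟩ : P) : Ω) := fun _ _ => rfl
  let bN : ↥(F.autGroup P) :=
    ⟨conjAut P b hbN, (mem_autGroup_iff F hPS _).mpr (isIso_conjAut F hPS hbS hbN)⟩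
  let μN : ↥(F.autGroup P) := ⟨μ, hμN⟩
  let Z' : Set ↥V := {v | IsCentralIn S (v : Ω)}
  have hmemT : ∀ y : ↥(F.autGroup P), y ∈ T →
      ∃ g ∈ S, ∀ p : P, (((y : MulAut P) p : P) : Ω) = g * p * g⁻¹ := by
    intro y hy
    have hy' : y ∈ (T : Subgroup ↥(F.autGroup P)) := hy
    rw [hT, Subgroup.mem_subgroupOf] at hy'
    exact (mem_autInducedBy_iff S P _).mp hy'
  have hfix : ∀ y ∈ T, θ y ≠ 1 → {v | θ y v = v} = Z' := by
    intro y hyT hne
    obtain ⟨g, hgS, hgx⟩ := hmemT y hyT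
    have hgP : g ∉ P := by
      intro hgP
      apply hne
      ext v
      rw [hθ, hgx]
      show g * (v : Ω) * g⁻¹ = ((1 : MulAut ↥V) v : ↥V)
      rw [c.V_comm_P v.2 hgP]
      simp
    ext v
    show θ y v = v ↔ IsCentralIn S (v : Ω)
    rw [← c.fix_iff hgS hgP v.2, Subtype.ext_iff, hθ, hgx]
  have hbT : bN ∈ T := by
    show bN ∈ (T : Subgroup ↥(F.autGroup P))
    rw [hT, Subgroup.mem_subgroupOf, mem_autInducedBy_iff]
    exact ⟨b, hbS, fun p => rfl⟩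
  have hτv : ∀ v : ↥V, ((θ bN v : ↥V) : Ω) = b * (v : Ω) * b⁻¹ := fun v => rfl
  have hb1 : θ bN ≠ 1 := by
    intro h
    apply hbP
    refine c.mem_P.mpr ⟨hbS, ?_⟩
    have h1 := hτv ⟨x, c.x_mem_V⟩
    rw [h] at h1
    simp only [MulAut.one_apply] at h1
    have : b * x = (b * x * b⁻¹) * b := by group
    rw [this, ← h1]
  have hb2 : θ bN * θ bN = 1 := by
    ext v
    show ((θ bN (θ bN v) : ↥V) : Ω) = (v : Ω)
    rw [hτv, hτv]
    have h1 := c.V_comm_P v.2 hb2P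
    have : b * (b * (v : Ω) * b⁻¹) * b⁻¹ = (b * b * v) * b⁻¹ * b⁻¹ := by group
    rw [this, h1]
    group
  obtain ⟨n0, hn0⟩ : ∃ n0 : ↥(F.autGroup P), (θ n0) '' Z' ≠ Z' := by
    refine ⟨μN⁻¹, ?_⟩
    intro h
    have hx' : (⟨x, c.x_mem_V⟩ : ↥V) ∈ (θ μN⁻¹) '' Z' := by
      refine ⟨θ μN ⟨x, c.x_mem_V⟩, ?_, ?_⟩
      · show IsCentralIn S ((θ μN ⟨x, c.x_mem_V⟩ : ↥V) : Ω)
        exact hμc
      · rw [map_inv]
        simp
    rw [h] at hx'
    exact c.hxnc hx'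
  have hnot := not_two_elt θ T Z' hfix bN hbT hb1 hb2 n0 hn0
  -- the odd part
  set τ := θ bN with hτ
  set υ := θ (n0 * bN * n0⁻¹) with hυ
  set w : ↥(F.autGroup P) := bN * (n0 * bN * n0⁻¹) with hw
  have hπ : τ * υ = θ w := by rw [hw, map_mul]
  have hKpos : 0 < orderOf w := orderOf_pos w
  obtain ⟨s, k, hk, hK⟩ := Nat.exists_eq_two_pow_mul_odd (ne_of_gt hKpos)
  set ρ := (τ * υ) ^ (2 ^ s) with hρdef
  have hρk : ρ ^ k = 1 := by
    rw [hρdef, ← pow_mul, ← hK, hπ, ← map_pow, pow_orderOf_eq_one, map_one]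
  have hρ : ρ ≠ 1 := hnot s
  have hτinv : τ⁻¹ = τ := by
    rw [inv_eq_iff_mul_eq_one]; exact hb2
  have hυ' : υ = θ n0 * τ * (θ n0)⁻¹ := by
    rw [hυ, map_mul, map_mul, map_inv]
  have hυ2 : υ * υ = 1 := by
    rw [hυ']
    have : θ n0 * τ * (θ n0)⁻¹ * (θ n0 * τ * (θ n0)⁻¹) =
        θ n0 * (τ * τ) * (θ n0)⁻¹ := by group
    rw [this, hb2]; group
  have hυinv : υ⁻¹ = υ := by
    rw [inv_eq_iff_mul_eq_one]; exact hυ2
  have hconj : τ * (τ * υ) * τ⁻¹ = (τ * υ)⁻¹ := by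
    rw [mul_inv_rev, hτinv, hυinv, ← mul_assoc, hb2, one_mul]
  have hinv : τ * ρ * τ⁻¹ = ρ⁻¹ := by
    rw [hρdef, ← conj_pow, hconj, inv_pow]
  have hcommV : ∀ a b : ↥V, a * b = b * a := by
    intro a b
    apply Subtype.ext
    exact c.V_comm b.2 a.2
  have hVp : IsPGroup 2 ↥V := hS.to_le c.V_le_S
  obtain ⟨a, ha2, hta, hρa⟩ := key_module hcommV hVp τ ρ hinv k hk hρk hρ
  -- abstract facts on τ
  have hττ : ∀ v : ↥V, τ (τ v) = v := by
    intro v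
    have := congrArg (fun f : MulAut ↥V => f v) hb2
    simpa [MulAut.mul_apply] using this
  have hτw : ∀ v : ↥V, τ (v⁻¹ * τ v) = (v⁻¹ * τ v)⁻¹ := by
    intro v
    rw [map_mul, map_inv, hττ, mul_inv_rev, inv_inv]
  have hinvG : ∀ v : ↥V, (v⁻¹ * τ v) * (v⁻¹ * τ v) = 1 := by
    intro v
    have h1 : b * ((v⁻¹ * τ v : ↥V) : Ω) * b⁻¹ = (((v⁻¹ * τ v : ↥V) : Ω))⁻¹ := by
      have := congrArg Subtype.val (hτw v)
      rw [hτ, hτv] at this
      simpa using this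
    have h2 : F.IsConjElt ((v⁻¹ * τ v : ↥V) : Ω) (b * ((v⁻¹ * τ v : ↥V) : Ω) * b⁻¹) :=
      conjElt_conj F (c.V_le_S (v⁻¹ * τ v).2) hbS
    rw [h1] at h2
    have h3 := no_invert hS F hF hH h2
    apply Subtype.ext
    simpa using h3
  have hτsq : ∀ v : ↥V, τ (v * v) = v * v := by
    intro v
    have h1 : τ v = v * (v⁻¹ * τ v) := by group
    rw [map_mul, h1]
    have h2 : v * (v⁻¹ * τ v) * (v * (v⁻¹ * τ v)) = v * v * ((v⁻¹ * τ v) * (v⁻¹ * τ v)) := by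
      rw [mul_assoc, mul_assoc, mul_assoc]
      congr 1
      rw [← mul_assoc, ← mul_assoc, hcommV (v⁻¹ * τ v) v, mul_assoc]
    rw [h2, hinvG, mul_one]
  have hυsq : ∀ v : ↥V, υ (v * v) = v * v := by
    intro v
    rw [hυ']
    simp only [MulAut.mul_apply]
    rw [map_mul, hτsq, ← map_mul, MulAut.apply_inv_self]
  have hπsq : ∀ v : ↥V, (τ * υ) (v * v) = v * v := by
    intro v
    rw [MulAut.mul_apply, hυsq, hτsq]
  have hρsq : ∀ v : ↥V, ρ (v * v) = v * v := by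
    intro v
    exact pow_fix_of_fix _ _ (hπsq v) _
  -- the commutator
  set c' : ↥V := a⁻¹ * τ a with hc'
  have hc'2 : c' * c' = 1 := hinvG a
  have hc'inv : c'⁻¹ = c' := by
    rw [inv_eq_iff_mul_eq_one]; exact hc'2
  have hτc' : τ c' = c' := by
    rw [hc', hτw, ← hc', hc'inv]
  have hcfix : b * (c' : Ω) * b⁻¹ = (c' : Ω) := by
    have := congrArg Subtype.val hτc'
    rw [hτ, hτv] at this
    exact this
  have hccen : IsCentralIn S (c' : Ω) := (c.fix_iff hbS hbP c'.2).mp hcfix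
  have hc'G : (c' : Ω) = (a : Ω)⁻¹ * (b * (a : Ω) * b⁻¹) := by
    rw [hc', Subgroup.coe_mul, Subgroup.coe_inv, hτ, hτv]
  have ha2G : (a : Ω) * (a : Ω) = 1 := by
    have := congrArg Subtype.val ha2
    simpa using this
  have habG : (a : Ω) * (b * b) = (b * b) * (a : Ω) := (c.V_comm_P a.2 hb2P).symm
  rw [hc'G] at hccen
  obtain ⟨z, hzc, hz⟩ := straighten hS F hF hH (c.V_le_S a.2) hbS ha2G habG hccen
  have hzV : z ∈ V := c.central_mem_V hzc
  have hc'z : c' = (⟨z, hzV⟩ : ↥V) * ⟨z, hzV⟩ := by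
    apply Subtype.ext
    rw [hc'G, hz]
    rfl
  apply hρa
  rw [hc'z, hρsq]

end Cfsg.Agent.Helper53.FCH
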