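import Cfsg.Agent.Helper19.FH.Defs

/-!
# Feit–Higman (S1142), piece (C): rationality of the Schur elements forces `n ∈ {2,3,4,6,8}`
-/

set_option autoImplicit false

open Cfsg.Agent.Helper19.FH Real

namespace Cfsg.Agent.Helper53.FH

/-- Niven for the angles `2π/m`. -/
theorem niven_nat (m : ℕ) (hm : 2 ≤ m) (h : ∃ q : ℚ, Real.cos (2 * π / (m : ℝ)) = (q : ℝ)) :
    m = 2 ∨ m = 3 ∨ m = 4 ∨ m = 6 := by
  have hm0 : (m : ℚ) ≠ 0 := by
    have : 0 < m := by omega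
    exact_mod_cast this.ne'
  have hm0' : (m : ℝ) ≠ 0 := by exact_mod_cast hm0
  set r : ℚ := 2 / (m : ℚ) with hr
  have hcast : ((r : ℚ) : ℝ) * π = 2 * π / (m : ℝ) := by
    rw [hr]; push_cast; field_simp
  have hcos : ∃ q : ℚ, Real.cos ((r : ℝ) * π) = (q : ℝ) := by
    rw [hcast]; exact h
  have hbnd : r ∈ Set.Icc (0 : ℚ) 1 := by
    constructor
    · rw [hr]; positivity
    · rw [hr, div_le_one (by positivity)]
      exact_mod_cast hm
  have := niven_angle_div_pi_eq hcos hbnd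
  simp only [Set.mem_insert_iff, Set.mem_singleton_iff] at this
  have hm2 : (2 : ℚ) ≤ (m : ℚ) := by exact_mod_cast hm
  rcases this with h0 | h0 | h0 | h0 | h0
  · exfalso
    rw [hr, div_eq_zero_iff] at h0
    rcases h0 with h0 | h0
    · norm_num at h0
    · exact hm0 h0
  · right; right; right
    rw [hr, div_eq_div_iff hm0 (by norm_num)] at h0
    have : (m : ℚ) = 6 := by linarith
    exact_mod_cast this
  · right; right; left
    rw [hr, div_eq_div_iff hm0 (by norm_num)] at h0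
    have : (m : ℚ) = 4 := by linarith
    exact_mod_cast this
  · right; left
    rw [hr, div_eq_div_iff hm0 (by norm_num)] at h0
    have : (m : ℚ) = 3 := by linarith
    exact_mod_cast this
  · left
    rw [hr, div_eq_iff hm0] at h0
    have : (m : ℚ) = 2 := by linarith
    exact_mod_cast this

/-- From the rationality of the two Schur elements at `τ` and `-τ` one gets `τ ∈ ℚ`. -/
theorem rat_of_pair (Kq Lq : ℚ) (hK : 0 < Kq) (hL : 0 < Lq) (N : ℕ) (hN : 0 < N) (τ D : ℝ)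
    (hD : D ≠ 0) (q₁ q₂ : ℚ)
    (h₁ : (N : ℝ) * (1 + ((Kq : ℝ) + (Lq : ℝ) * τ) / D) = (q₁ : ℝ))
    (h₂ : (N : ℝ) * (1 + ((Kq : ℝ) - (Lq : ℝ) * τ) / D) = (q₂ : ℝ)) :
    ∃ q : ℚ, τ = (q : ℝ) := by
  have hN0 : (N : ℝ) ≠ 0 := by exact_mod_cast hN.ne'
  have hNq : (N : ℚ) ≠ 0 := by exact_mod_cast hN.ne'
  set r₁ : ℚ := q₁ / N - 1 with hr₁
  set r₂ : ℚ := q₂ / N - 1 with hr₂
  have e₁ : (Kq : ℝ) + (Lq : ℝ) * τ = (r₁ : ℝ) * D := by
    have : ((Kq : ℝ) + (Lq : ℝ) * τ) / D = (r₁ : ℝ) := by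
      rw [hr₁]; push_cast
      field_simp
      field_simp at h₁
      linarith
    field_simp at this
    linarith
  have e₂ : (Kq : ℝ) - (Lq : ℝ) * τ = (r₂ : ℝ) * D := by
    have : ((Kq : ℝ) - (Lq : ℝ) * τ) / D = (r₂ : ℝ) := by
      rw [hr₂]; push_cast
      field_simp
      field_simp at h₂
      linarith
    field_simp at this
    linarith
  have hKr : (0 : ℝ) < (Kq : ℝ) := by exact_mod_cast hK
  have hLr : (0 : ℝ) < (Lq : ℝ) := by exact_mod_cast hL
  have hsum : ((r₁ + r₂ : ℚ) : ℝ) * D = 2 * (Kq : ℝ) := by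
    push_cast; linarith
  have hs : (r₁ + r₂ : ℚ) ≠ 0 := by
    intro h0
    rw [h0] at hsum
    simp at hsum
    linarith
  have hsr : ((r₁ + r₂ : ℚ) : ℝ) ≠ 0 := by exact_mod_cast hs
  have hDval : D = ((2 * Kq / (r₁ + r₂) : ℚ) : ℝ) := by
    push_cast
    rw [eq_div_iff (by exact_mod_cast hs)]
    push_cast at hsum
    linarith
  refine ⟨(r₁ - r₂) * (2 * Kq / (r₁ + r₂)) / (2 * Lq), ?_⟩
  have hdiff : 2 * (Lq : ℝ) * τ = ((r₁ - r₂ : ℚ) : ℝ) * D := by
    push_cast; linarith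
  rw [hDval] at hdiff
  have h2L : (2 * (Lq : ℝ)) ≠ 0 := by positivity
  push_cast
  push_cast at hdiff
  rw [eq_div_iff h2L]
  linarith


/-- `cfun` in the normal form used by `rat_of_pair`. -/
theorem cfun_eq (n a b : ℕ) (τ : ℝ) :
    cfun n (a : ℝ) (b : ℝ) τ = (n : ℝ) * (1 + (((((a : ℚ) * ((b : ℚ) - 1) ^ 2 +
      (b : ℚ) * ((a : ℚ) - 1) ^ 2 : ℚ)) : ℝ) + (((((a : ℚ) - 1) * ((b : ℚ) - 1) : ℚ)) : ℝ) * τ) /
        (4 * (a : ℝ) * (b : ℝ) - τ ^ 2)) := by
  unfold cfun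
  push_cast
  ring

theorem cfun_neg_eq (n a b : ℕ) (τ : ℝ) :
    cfun n (a : ℝ) (b : ℝ) (-τ) = (n : ℝ) * (1 + (((((a : ℚ) * ((b : ℚ) - 1) ^ 2 +
      (b : ℚ) * ((a : ℚ) - 1) ^ 2 : ℚ)) : ℝ) - (((((a : ℚ) - 1) * ((b : ℚ) - 1) : ℚ)) : ℝ) * τ) /
        (4 * (a : ℝ) * (b : ℝ) - τ ^ 2)) := by
  unfold cfun
  push_cast
  ring

/-- `4ab - τ_j² ≠ 0` when `0 < 2πj/n < π`. -/
theorem disc_ne_zero (n : ℕ) (a b : ℝ) (ha : 0 < a) (hb : 0 < b) (j : ℕ) (hj : 0 < j)
    (hjn : 2 * j < n) : 4 * a * b - (tauOf n a b j) ^ 2 ≠ 0 := by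
  have hn0 : (0 : ℝ) < (n : ℝ) := by
    have : 0 < n := by omega
    exact_mod_cast this
  set x : ℝ := 2 * π * (j : ℝ) / (n : ℝ) with hx
  have hj0 : (0 : ℝ) < (j : ℝ) := by exact_mod_cast hj
  have hxpos : 0 < x := by rw [hx]; positivity
  have hxlt : x < π := by
    rw [hx, div_lt_iff₀ hn0]
    have : (2 * (j : ℝ)) < (n : ℝ) := by exact_mod_cast hjn
    nlinarith [Real.pi_pos]
  have hsin : 0 < Real.sin x := Real.sin_pos_of_pos_of_lt_pi hxpos hxlt
  have hab : 0 ≤ a * b := by positivity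
  have htau : (tauOf n a b j) ^ 2 = 4 * (a * b) * Real.cos x ^ 2 := by
    unfold tauOf
    rw [← hx, mul_pow, mul_pow, Real.sq_sqrt hab]
    ring
  rw [htau]
  have hcs := Real.sin_sq_add_cos_sq x
  have : 4 * a * b - 4 * (a * b) * Real.cos x ^ 2 = 4 * (a * b) * Real.sin x ^ 2 := by
    have : Real.cos x ^ 2 = 1 - Real.sin x ^ 2 := by linarith
    rw [this]; ring
  rw [this]
  have hab' : 0 < a * b := by positivity
  positivity

/-- `τ_{m-j} = -τ_j` for `n = 2m`. -/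
theorem tauOf_sub (m : ℕ) (a b : ℝ) (j : ℕ) (hjm : j ≤ m) (hm : 0 < m) :
    tauOf (m + m) a b (m - j) = - tauOf (m + m) a b j := by
  unfold tauOf
  have hm0 : (m : ℝ) ≠ 0 := by exact_mod_cast hm.ne'
  have h1 : 2 * π * ((m - j : ℕ) : ℝ) / ((m + m : ℕ) : ℝ) =
      π - 2 * π * (j : ℝ) / ((m + m : ℕ) : ℝ) := by
    rw [Nat.cast_sub hjm]
    push_cast
    field_simp
    ring
  rw [h1, Real.cos_pi_sub]
  ring

/-- The rationality of `τ_j` for even `n = 2m`. -/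
theorem tau_rat_even (m : ℕ) (a b : ℕ) (ha : 2 ≤ a) (hb : 2 ≤ b)
    (h : ∀ j : ℕ, 0 < j → 2 * j < m + m →
      ∃ q : ℚ, cfun (m + m) a b (tauOf (m + m) a b j) = (q : ℝ))
    (j : ℕ) (hj : 0 < j) (hjm : j < m) : ∃ q : ℚ, tauOf (m + m) (a : ℝ) (b : ℝ) j = (q : ℝ) := by
  have hm : 0 < m := by omega
  have haR : (2 : ℝ) ≤ (a : ℝ) := by exact_mod_cast ha
  have hbR : (2 : ℝ) ≤ (b : ℝ) := by exact_mod_cast hb
  have haQ : (2 : ℚ) ≤ (a : ℚ) := by exact_mod_cast ha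
  have hbQ : (2 : ℚ) ≤ (b : ℚ) := by exact_mod_cast hb
  obtain ⟨q₁, hq₁⟩ := h j hj (by omega)
  obtain ⟨q₂, hq₂⟩ := h (m - j) (by omega) (by omega)
  rw [tauOf_sub m _ _ j hjm.le hm] at hq₂
  rw [cfun_eq] at hq₁
  rw [cfun_neg_eq] at hq₂
  have hD := disc_ne_zero (m + m) (a : ℝ) (b : ℝ) (by linarith) (by linarith) j hj (by omega)
  refine rat_of_pair _ _ ?_ ?_ (m + m) (by omega) _ _ hD q₁ q₂ hq₁ hq₂
  · have h1 : (0 : ℚ) < ((b : ℚ) - 1) ^ 2 := by
      have : (0 : ℚ) < (b : ℚ) - 1 := by linarith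
      positivity
    have h2 : (0 : ℚ) ≤ ((a : ℚ) - 1) ^ 2 := by positivity
    have h3 : (0 : ℚ) < (a : ℚ) := by linarith
    have h4 : (0 : ℚ) < (b : ℚ) := by linarith
    positivity
  · have h1 : (0 : ℚ) < (b : ℚ) - 1 := by linarith
    have h2 : (0 : ℚ) < (a : ℚ) - 1 := by linarith
    positivity


theorem lin_of_cfun (N : ℝ) (hN : N ≠ 0) (X D : ℝ) (hD : D ≠ 0) (q : ℝ)
    (h : N * (1 + X / D) = q) : X = (q / N - 1) * D := by
  have h1 : X / D = q / N - 1 := by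
    have : 1 + X / D = q / N := by
      rw [eq_div_iff hN]; linarith
    linarith
  rw [div_eq_iff hD] at h1
  exact h1

/-- Part C of Feit–Higman. -/
theorem partC (n : ℕ) (hn : 2 ≤ n) (a b : ℕ) (ha : 2 ≤ a) (hb : 2 ≤ b) (hodd : Odd n → a = b)
    (h : ∀ j : ℕ, 0 < j → 2 * j < n → ∃ q : ℚ, cfun n a b (tauOf n a b j) = (q : ℝ)) :
    n = 2 ∨ n = 3 ∨ n = 4 ∨ n = 6 ∨ n = 8 := by
  have haR : (2 : ℝ) ≤ (a : ℝ) := by exact_mod_cast ha
  have hbR : (2 : ℝ) ≤ (b : ℝ) := by exact_mod_cast hb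
  have hab : (0 : ℝ) < (a : ℝ) * (b : ℝ) := by nlinarith
  rcases Nat.even_or_odd n with he | ho
  · obtain ⟨m, rfl⟩ := he
    have hm : 1 ≤ m := by omega
    rcases Nat.eq_or_lt_of_le hm with h1 | h1
    · left; omega
    · have h1' : 2 ≤ m := h1
      have hm0 : (m : ℝ) ≠ 0 := by
        have : 0 < m := by omega
        exact_mod_cast this.ne'
      have hτ := tau_rat_even m a b ha hb h
      obtain ⟨q₁, hq₁⟩ := hτ 1 one_pos h1
      have hcos : ∃ q : ℚ, Real.cos (2 * π / (m : ℝ)) = (q : ℝ) := by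
        refine ⟨q₁ ^ 2 / (2 * a * b) - 1, ?_⟩
        have hang : 2 * π * ((1 : ℕ) : ℝ) / ((m + m : ℕ) : ℝ) = π / (m : ℝ) := by
          push_cast
          field_simp
          ring
        unfold tauOf at hq₁
        rw [hang] at hq₁
        have h2 : 2 * π / (m : ℝ) = 2 * (π / (m : ℝ)) := by ring
        rw [h2, Real.cos_two_mul]
        have hsq : 4 * ((a : ℝ) * (b : ℝ)) * Real.cos (π / (m : ℝ)) ^ 2 = (q₁ : ℝ) ^ 2 := by
          rw [← hq₁, mul_pow, mul_pow, Real.sq_sqrt hab.le]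
          ring
        push_cast
        have hab0 : (2 * (a : ℝ) * (b : ℝ)) ≠ 0 := by nlinarith
        rw [eq_sub_iff_add_eq, eq_div_iff hab0]
        linarith
      rcases niven_nat m h1' hcos with h2 | h2 | h2 | h2
      · right; right; left; omega
      · right; right; right; left; omega
      · right; right; right; right; omega
      · exfalso
        subst h2
        obtain ⟨p₁, hp₁⟩ := hτ 1 (by norm_num) (by norm_num)
        obtain ⟨p₂, hp₂⟩ := hτ 2 (by norm_num) (by norm_num)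
        unfold tauOf at hp₁ hp₂
        have hang1 : 2 * π * ((1 : ℕ) : ℝ) / ((6 + 6 : ℕ) : ℝ) = π / 6 := by
          push_cast; ring
        have hang2 : 2 * π * ((2 : ℕ) : ℝ) / ((6 + 6 : ℕ) : ℝ) = π / 3 := by
          push_cast; ring
        rw [hang1, Real.cos_pi_div_six] at hp₁
        rw [hang2, Real.cos_pi_div_three] at hp₂
        have hs : Real.sqrt ((a : ℝ) * (b : ℝ)) = (p₂ : ℝ) := by linarith
        have hspos : 0 < Real.sqrt ((a : ℝ) * (b : ℝ)) := Real.sqrt_pos.mpr hab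
        have hp₂0 : (p₂ : ℝ) ≠ 0 := by rw [← hs]; exact hspos.ne'
        have h3 : Real.sqrt 3 = ((p₁ / p₂ : ℚ) : ℝ) := by
          push_cast
          rw [eq_div_iff hp₂0, ← hs]
          linarith
        have hirr : Irrational (Real.sqrt ((3 : ℕ) : ℝ)) := Nat.prime_three.irrational_sqrt
        apply hirr
        refine ⟨p₁ / p₂, ?_⟩
        rw [← h3]
        norm_num
  · have hab' : a = b := hodd ho
    subst hab'
    have hn3 : 3 ≤ n := by
      obtain ⟨k, hk⟩ := ho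
      omega
    obtain ⟨q₁, hq₁⟩ := h 1 one_pos (by omega)
    have hn0 : (n : ℝ) ≠ 0 := by
      have : 0 < n := by omega
      exact_mod_cast this.ne'
    have hD := disc_ne_zero n (a : ℝ) (a : ℝ) (by linarith) (by linarith) 1 one_pos (by omega)
    set c : ℝ := Real.cos (2 * π / (n : ℝ)) with hc
    have hτ : tauOf n (a : ℝ) (a : ℝ) 1 = 2 * (a : ℝ) * c := by
      unfold tauOf
      rw [Real.sqrt_mul_self (by linarith), hc]
      push_cast
      ring_nf
    rw [hτ] at hq₁ hD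
    unfold cfun at hq₁
    set A : ℝ := (a : ℝ) with hA
    have hA0 : A ≠ 0 := by linarith
    have hfac : 4 * A * A - (2 * A * c) ^ 2 = 4 * A ^ 2 * (1 - c) * (1 + c) := by ring
    have h1c : 1 + c ≠ 0 := by
      intro h0
      apply hD
      rw [hfac, h0]; ring
    have hcm : 1 - c ≠ 0 := by
      intro h0
      apply hD
      rw [hfac, h0]; ring
    set r₁ : ℚ := q₁ / n - 1 with hr₁
    have e₁ : A * (A - 1) ^ 2 + A * (A - 1) ^ 2 + (A - 1) * (A - 1) * (2 * A * c) =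
        (r₁ : ℝ) * (4 * A * A - (2 * A * c) ^ 2) := by
      have := lin_of_cfun (n : ℝ) hn0 _ _ hD _ hq₁
      rw [this, hr₁]
      push_cast
      ring
    have hkey : (A - 1) ^ 2 = (r₁ : ℝ) * (2 * A * (1 - c)) := by
      have h0 : (2 * A * (1 + c)) * ((A - 1) ^ 2 - (r₁ : ℝ) * (2 * A * (1 - c))) = 0 := by
        rw [hfac] at e₁
        linear_combination e₁
      rcases mul_eq_zero.mp h0 with h0 | h0
      · exfalso
        rcases mul_eq_zero.mp h0 with h0 | h0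
        · rcases mul_eq_zero.mp h0 with h0 | h0
          · norm_num at h0
          · exact hA0 h0
        · exact h1c h0
      · linarith
    have hA1 : (0 : ℝ) < (A - 1) ^ 2 := by
      have : (0 : ℝ) < A - 1 := by linarith
      positivity
    have hr₁0 : (r₁ : ℝ) ≠ 0 := by
      intro h0
      rw [h0] at hkey
      simp at hkey
      linarith
    have hcos : ∃ q : ℚ, Real.cos (2 * π / (n : ℝ)) = (q : ℝ) := by
      refine ⟨1 - ((a : ℚ) - 1) ^ 2 / (2 * a * r₁), ?_⟩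
      rw [← hc]
      push_cast
      rw [← hA]
      have h2 : (2 * A * (r₁ : ℝ)) ≠ 0 := by
        have : (2 : ℝ) * A ≠ 0 := by positivity
        exact mul_ne_zero this hr₁0
      have h3 : (A - 1) ^ 2 / (2 * A * (r₁ : ℝ)) = 1 - c := by
        rw [div_eq_iff h2, hkey]; ring
      linarith
    rcases niven_nat n hn hcos with h2 | h2 | h2 | h2
    · exfalso; obtain ⟨k, hk⟩ := ho; omega
    · right; left; exact h2
    · exfalso; obtain ⟨k, hk⟩ := ho; omega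
    · exfalso; obtain ⟨k, hk⟩ := ho; omega

end Cfsg.Agent.Helper53.FH
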