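import Cfsg.Agent.Helper91.FTC.Spec

set_option autoImplicit false

/-!
# FastTC farm (helper91, S1690), piece (APP)
-/

namespace Cfsg.Agent.Helper53.FTC

open Cfsg.Agent.Helper91.FTC

variable {Γ : Type*} [Group Γ]

theorem evalW_append (γ : ℕ → Γ) (u v : List ℕ) :
    evalW γ (u ++ v) = evalW γ u * evalW γ v := by
  induction u with
  | nil => rw [List.nil_append, evalW, one_mul]
  | cons y u ih => rw [List.cons_append, evalW, evalW, ih, mul_assoc]

theorem evalW_replicate_flatten (γ : ℕ → Γ) (u : List ℕ) (m : ℕ) :
    evalW γ (List.replicate m u).flatten = evalW γ u ^ m := by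
  induction m with
  | zero => rw [List.replicate_zero, List.flatten_nil, evalW, pow_zero]
  | succ m ih => rw [List.replicate_succ, List.flatten_cons, evalW_append, ih, pow_succ']

end Cfsg.Agent.Helper53.FTC
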