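import Cfsg.Agent.Helper91.FTC.Spec
import Cfsg.Agent.Helper53.FTC_APP

set_option autoImplicit false

/-!
# FastTC farm (helper91, S1690), piece (REV)
-/

namespace Cfsg.Agent.Helper53.FTC

open Cfsg.Agent.Helper91.FTC

variable {Γ : Type*} [Group Γ]

theorem evalW_reverse (γ : ℕ → Γ) (w : List ℕ) (hinv : ∀ z ∈ w, γ z * γ z = 1) :
    evalW γ w.reverse = (evalW γ w)⁻¹ := by
  induction w with
  | nil => rw [List.reverse_nil, evalW, inv_one]
  | cons y w ih =>
    have hy : γ y * γ y = 1 := hinv y (List.mem_cons_self ..)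
    have hw : ∀ z ∈ w, γ z * γ z = 1 := fun z hz => hinv z (List.mem_cons_of_mem _ hz)
    rw [List.reverse_cons, evalW_append, ih hw, evalW, evalW, evalW, mul_one, mul_inv_rev,
      inv_eq_of_mul_eq_one_right hy]

end Cfsg.Agent.Helper53.FTC
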