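import Cfsg.Agent.Helper91.FTC.Spec
import Cfsg.Agent.Helper53.FTC_APP

set_option autoImplicit false

/-!
# FastTC farm (helper91, S1690), piece (ROTA)
-/

namespace Cfsg.Agent.Helper53.FTC

open Cfsg.Agent.Helper91.FTC

variable {Γ : Type*} [Group Γ]

theorem evalW_rotate (γ : ℕ → Γ) (w : List ℕ) (k : ℕ) (h : evalW γ w = 1) :
    evalW γ (w.rotate k) = 1 := by
  rw [List.rotate_eq_drop_append_take_mod, evalW_append]
  have h1 : evalW γ (w.take (k % w.length)) * evalW γ (w.drop (k % w.length)) = 1 := by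
    rw [← evalW_append, List.take_append_drop, h]
  have h2 := eq_inv_of_mul_eq_one_right h1
  rw [h2, inv_mul_cancel]

end Cfsg.Agent.Helper53.FTC
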