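import Cfsg.Agent.Helper91.FTC.Spec
import Cfsg.Agent.Helper53.FTC_ROTA
import Cfsg.Agent.Helper53.FTC_REV

set_option autoImplicit false

/-!
# FastTC farm (helper91, S1690), piece (ROTOF)
-/

namespace Cfsg.Agent.Helper53.FTC

open Cfsg.Agent.Helper91.FTC

variable {Γ : Type*} [Group Γ]

/-- (ROT) rotations and reversed rotations of relators are relators. -/
theorem evalW_rotOf (γ : ℕ → Γ) (base : List (List ℕ)) (hbase : ∀ w ∈ base, evalW γ w = 1)
    (hinv : ∀ w ∈ base, ∀ z ∈ w, γ z * γ z = 1) (b i : ℕ) (rv : Bool) :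
    evalW γ (rotOf base b i rv) = 1 := by
  unfold rotOf
  apply evalW_rotate
  -- the `b`-th base word (or the empty word)
  have hw : evalW γ (base.getD b []) = 1 ∧ ∀ z ∈ base.getD b [], γ z * γ z = 1 := by
    by_cases hb : b < base.length
    · have hmem : base.getD b [] ∈ base := by
        rw [List.getD_eq_getElem _ _ hb]
        exact List.getElem_mem hb
      exact ⟨hbase _ hmem, hinv _ hmem⟩
    · rw [List.getD_eq_default _ _ (by omega)]
      exact ⟨rfl, fun z hz => absurd hz (List.not_mem_nil)⟩
  cases rv with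
  | false => exact hw.1
  | true =>
    change evalW γ (base.getD b []).reverse = 1
    rw [evalW_reverse γ _ hw.2, hw.1, inv_one]

end Cfsg.Agent.Helper53.FTC
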