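import Cfsg.Agent.Helper91.FTC.Spec

set_option autoImplicit false

/-!
# FastTC farm (helper91, S1690), piece (VAX)
-/

namespace Cfsg.Agent.Helper53.FTC

open Cfsg.Agent.Helper91.FTC

variable {Γ : Type*} [Group Γ]

/-- (VAX) subgroup generator at the base point. -/
theorem VF_axiom (T : Tabs) (γ : ℕ → Γ) (H : Subgroup Γ) (y p : ℕ) (hp : p = 0)
    (hq : rF (T.slot y p) = 0) (hY : γ y ∈ H) : VF T γ H y p := by
  unfold VF
  rw [hq, hp, rep_zero, one_mul, inv_one, mul_one]
  exact hY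

end Cfsg.Agent.Helper53.FTC
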