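import Cfsg.Agent.Helper91.FTC.Spec

set_option autoImplicit false

/-!
# FastTC farm (helper91, S1690), piece (VDN)
-/

namespace Cfsg.Agent.Helper53.FTC

open Cfsg.Agent.Helper91.FTC

variable {Γ : Type*} [Group Γ]

/-- (VDN) tree edge to a child. -/
theorem VF_down (T : Tabs) (γ : ℕ → Γ) (H : Subgroup Γ) (y p : ℕ)
    (h1 : T.plf (rF (T.slot y p)) = y) (h2 : rF (T.slot y (rF (T.slot y p))) = p)
    (h3 : p < rF (T.slot y p)) : VF T γ H y p := by
  unfold VF
  have hpar : par T (rF (T.slot y p)) = p := by unfold par; rw [h1, h2]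
  have hlt : par T (rF (T.slot y p)) < rF (T.slot y p) := by rw [hpar]; exact h3
  rw [rep_of_par_lt T γ _ hlt, hpar, h1, mul_inv_cancel]
  exact H.one_mem

end Cfsg.Agent.Helper53.FTC
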