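import Cfsg.Agent.Helper91.FTC.Spec

set_option autoImplicit false

/-!
# FastTC farm (helper91, S1690), piece (VMI)
-/

namespace Cfsg.Agent.Helper53.FTC

open Cfsg.Agent.Helper91.FTC

variable {Γ : Type*} [Group Γ]

/-- (VMI) mirror. -/
theorem VF_mirror (T : Tabs) (γ : ℕ → Γ) (H : Subgroup Γ) (y p : ℕ) (hinv : γ y * γ y = 1)
    (hv : VF T γ H y (rF (T.slot y p))) (h : rF (T.slot y (rF (T.slot y p))) = p) :
    VF T γ H y p := by
  unfold VF at hv ⊢
  rw [h] at hv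
  have h1 := H.inv_mem hv
  rw [mul_inv_rev, mul_inv_rev, inv_inv, inv_eq_of_mul_eq_one_right hinv, ← mul_assoc] at h1
  exact h1

end Cfsg.Agent.Helper53.FTC
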