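import Cfsg.Agent.Helper91.FTC.Spec

set_option autoImplicit false

/-!
# FastTC farm (helper91, S1690), piece (VUP)
-/

namespace Cfsg.Agent.Helper53.FTC

open Cfsg.Agent.Helper91.FTC

variable {Γ : Type*} [Group Γ]

/-- (VUP) tree edge to the parent. -/
theorem VF_up (T : Tabs) (γ : ℕ → Γ) (H : Subgroup Γ) (y p : ℕ) (hinv : γ y * γ y = 1)
    (h1 : y = T.plf p) (h2 : rF (T.slot y p) < p) : VF T γ H y p := by
  unfold VF
  have hpar : par T p = rF (T.slot y p) := by unfold par; rw [← h1]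
  have hlt : par T p < p := by rw [hpar]; exact h2
  rw [rep_of_par_lt T γ p hlt, hpar, ← h1]
  have : rep T γ (rF (T.slot y p)) * γ y * γ y * (rep T γ (rF (T.slot y p)))⁻¹ = 1 := by
    rw [mul_assoc (rep T γ (rF (T.slot y p))), hinv, mul_one, mul_inv_cancel]
  rw [this]
  exact H.one_mem

end Cfsg.Agent.Helper53.FTC
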