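import Mathlib
import Cfsg.Agent.Helper17.VTrick

set_option autoImplicit false

/-!
Fixed-point counting tools for the action of a group on the cosets of a Sylow normalizer:
* `card_fixedBy_modEq_one`: elements of `C(P)` (`|P| = p`) fix `≡ 1 (mod p)` cosets of `N(P)`;
* `card_modEq_card_fixedBy_of_orderOf`: an element of `q`-power order fixes `≡ |X| (mod q)` points;
* `four_dvd_index_sub_card_fixedBy`: in a non-abelian simple group an involution moves a multiple
  of four cosets of any proper subgroup (it acts as an even permutation).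
-/

namespace Cfsg.Agent.Helper53

open Subgroup MulAction

variable {G : Type*} [Group G]

/-- The fixed cosets of `x ∈ C(P)` form a `P`-invariant set. -/
def fixSub (P N : Subgroup G) (x : G) (hx : x ∈ centralizer (P : Set G)) :
    SubMulAction ↥P (G ⧸ N) where
  carrier := fixedBy (G ⧸ N) x
  smul_mem' := by
    intro u c hc
    rw [mem_fixedBy] at hc ⊢
    have hcomm : x * (u : G) = (u : G) * x := ((mem_centralizer_iff.mp hx) u u.2).symm
    calc x • (u • c) = (x * (u : G)) • c := by rw [mul_smul]; rfl
      _ = ((u : G) * x) • c := by rw [hcomm]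
      _ = u • (x • c) := by rw [mul_smul]; rfl
      _ = u • c := by rw [hc]

theorem card_fixedBy_modEq_one [Finite G] {p : ℕ} [Fact p.Prime] (P : Sylow p G)
    (hP : Nat.card (P : Subgroup G) = p) {x : G}
    (hx : x ∈ centralizer ((P : Subgroup G) : Set G)) :
    Nat.card (fixedBy (G ⧸ normalizer ((P : Subgroup G) : Set G)) x) ≡ 1 [MOD p] := by
  have hp : p.Prime := Fact.out
  set N := normalizer ((P : Subgroup G) : Set G) with hN
  have hPp : IsPGroup p (P : Subgroup G) := P.2
  have key := hPp.card_modEq_card_fixedPoints (fixSub (P : Subgroup G) N x hx)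
  have hcarrier : Nat.card (fixSub (P : Subgroup G) N x hx) = Nat.card (fixedBy (G ⧸ N) x) := rfl
  rw [hcarrier] at key
  refine key.trans ?_
  -- exactly one fixed point
  obtain ⟨y, hy⟩ : ∃ y : (P : Subgroup G), orderOf y = p := by
    exact exists_prime_orderOf_dvd_card' (G := (P : Subgroup G)) p (by rw [hP])
  have hyG : orderOf (y : G) = p := by rw [Subgroup.orderOf_coe]; exact hy
  have h1 := Cfsg.Agent.Helper17.card_fixedBy_eq_one P hP (y : G) hyG
  have hsub : Subsingleton (fixedBy (G ⧸ N) (y : G)) := (Nat.card_eq_one_iff_unique.mp h1).1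
  have hxN : x ∈ N := Subgroup.centralizer_le_normalizer _ hx
  -- the base coset
  let c0 : fixSub (P : Subgroup G) N x hx := ⟨(QuotientGroup.mk 1 : G ⧸ N), by
    change (QuotientGroup.mk 1 : G ⧸ N) ∈ fixedBy (G ⧸ N) x
    rw [mem_fixedBy, MulAction.Quotient.smul_mk, QuotientGroup.eq]
    simpa using N.inv_mem hxN⟩
  have hc0 : c0 ∈ fixedPoints (P : Subgroup G) (fixSub (P : Subgroup G) N x hx) := by
    intro u
    apply Subtype.ext
    change (u : G) • (QuotientGroup.mk 1 : G ⧸ N) = QuotientGroup.mk 1
    rw [MulAction.Quotient.smul_mk, QuotientGroup.eq]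
    have : (u : G) ∈ N := Subgroup.le_normalizer u.2
    simpa using N.inv_mem this
  have huniq : ∀ c ∈ fixedPoints (P : Subgroup G) (fixSub (P : Subgroup G) N x hx), c = c0 := by
    intro c hc
    apply Subtype.ext
    have e1 : (c : G ⧸ N) ∈ fixedBy (G ⧸ N) (y : G) := by
      rw [mem_fixedBy]
      have := hc y
      exact congrArg Subtype.val this
    have e2 : (c0 : G ⧸ N) ∈ fixedBy (G ⧸ N) (y : G) := by
      rw [mem_fixedBy]
      have := hc0 y
      exact congrArg Subtype.val this
    have := hsub.elim ⟨_, e1⟩ ⟨_, e2⟩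
    exact (congrArg (fun z : fixedBy (G ⧸ N) (y : G) => (z : G ⧸ N)) this : (c : G ⧸ N) = c0)
  have hcard : Nat.card (fixedPoints (P : Subgroup G) (fixSub (P : Subgroup G) N x hx)) = 1 := by
    rw [Nat.card_eq_one_iff_unique]
    refine ⟨⟨fun a b => ?_⟩, ⟨⟨c0, hc0⟩⟩⟩
    apply Subtype.ext
    rw [huniq a.1 a.2, huniq b.1 b.2]
  rw [hcard]

theorem card_modEq_card_fixedBy_of_orderOf {X : Type*} [MulAction G X] [Finite X] {q k : ℕ}
    [Fact q.Prime] (x : G) (hx : orderOf x = q ^ k) :
    Nat.card X ≡ Nat.card (fixedBy X x) [MOD q] := by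
  have hq : IsPGroup q (zpowers x) := IsPGroup.of_card (n := k) (by rw [Nat.card_zpowers, hx])
  have key := hq.card_modEq_card_fixedPoints X
  have : fixedPoints (zpowers x) X = fixedBy X x := by
    ext c
    constructor
    · intro h
      exact h ⟨x, mem_zpowers x⟩
    · intro h u
      obtain ⟨j, hj⟩ := mem_zpowers_iff.mp u.2
      have := MulAction.mem_fixedBy_zpow h j
      rw [mem_fixedBy, hj] at this
      exact this
  rw [this] at key
  exact key

theorem four_dvd_index_sub_card_fixedBy [Finite G] [IsSimpleGroup G] (hG : ¬ IsMulCommutative G)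
    (H : Subgroup G) {t : G} (ht : t * t = 1) :
    4 ∣ H.index - Nat.card (fixedBy (G ⧸ H) t) := by
  classical
  have : Fintype (G ⧸ H) := Fintype.ofFinite _
  set σ : Equiv.Perm (G ⧸ H) := MulAction.toPermHom G (G ⧸ H) t with hσ
  have hsign : Equiv.Perm.sign σ = 1 :=
    Cfsg.Agent.Helper17.hom_to_comm_trivial hG (Equiv.Perm.sign.comp (MulAction.toPermHom G (G ⧸ H))) t
  have hσ2 : σ ^ 2 = 1 := by
    rw [hσ, ← map_pow, pow_two, ht, map_one]
  have hct := Equiv.Perm.cycleType_of_pow_prime_eq_one (p := 2) hσ2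
  have hsum : σ.cycleType.sum = Multiset.card σ.cycleType * 2 := by
    rw [hct]; simp
  have hsign' := Equiv.Perm.sign_of_cycleType σ
  rw [hsign, hsum] at hsign'
  have heven : Even (Multiset.card σ.cycleType) := by
    by_contra hodd
    rw [Nat.not_even_iff_odd] at hodd
    have : Odd (Multiset.card σ.cycleType * 2 + Multiset.card σ.cycleType) := by
      obtain ⟨m, hm⟩ := hodd
      exact ⟨3 * m + 1, by omega⟩
    rw [this.neg_one_pow] at hsign'
    exact absurd hsign' (by decide)
  have hfix := Equiv.Perm.card_fixedPoints σ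
  have hfix' : Nat.card (fixedBy (G ⧸ H) t) = Fintype.card (Function.fixedPoints σ) := by
    rw [Nat.card_eq_fintype_card]
    apply Fintype.card_congr
    exact Equiv.subtypeEquivRight (fun c => by
      rw [mem_fixedBy, Function.mem_fixedPoints, Function.IsFixedPt]
      rfl)
  have hidx : H.index = Fintype.card (G ⧸ H) := by
    rw [← Nat.card_eq_fintype_card]; rfl
  rw [hfix', hfix, hidx, hsum]
  have hle := Equiv.Perm.sum_cycleType_le σ
  rw [hsum] at hle
  obtain ⟨m, hm⟩ := heven
  rw [Nat.sub_sub_self hle, hm]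
  exact ⟨m, by ring⟩

end Cfsg.Agent.Helper53
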