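import Mathlib
import Cfsg.Prelude.Def_Solvable
import Cfsg.Prelude.Def_CaseTheorems

/-!
# S4385 (GD farm of helper42), leaf (GEN)
-/

set_option autoImplicit false

universe u

namespace Cfsg.Agent.Helper53.GD

open Pointwise Cfsg

theorem GEN_mem_conj_smul {Γ : Type*} [Group Γ] (S : Subgroup Γ) (g x : Γ) :
    x ∈ MulAut.conj g • S ↔ g⁻¹ * x * g ∈ S := by
  rw [Subgroup.mem_pointwise_smul_iff_inv_smul_mem]
  simp [MulAut.smul_def]

/-- (GEN) two conjugate Sylow `2`-subgroups generating `Γ` and meeting in `O_2(Γ)`. -/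
theorem exists_conj_gen_inf {Γ : Type*} [Group Γ] [Finite Γ] (S : Subgroup Γ)
    (hQS : Cfsg.pCore 2 Γ ≤ S) (hcard : Nat.card S = 2 * Nat.card (Cfsg.pCore 2 Γ))
    {n : ℕ} (hn : Odd n) (hn3 : 3 ≤ n) (e : Γ ⧸ Cfsg.pCore 2 Γ ≃* DihedralGroup n) :
    ∃ g : Γ, S ⊔ MulAut.conj g • S = ⊤ ∧ S ⊓ MulAut.conj g • S = Cfsg.pCore 2 Γ := by
  classical
  set Q := Cfsg.pCore 2 Γ with hQ
  haveI : NeZero n := ⟨by omega⟩
  let π : Γ →* DihedralGroup n := e.toMonoidHom.comp (QuotientGroup.mk' Q)
  have hπsurj : Function.Surjective π := e.surjective.comp (QuotientGroup.mk'_surjective Q)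
  have hker : ∀ x, π x = 1 ↔ x ∈ Q := by
    intro x
    change e (QuotientGroup.mk' Q x) = 1 ↔ x ∈ Q
    rw [MulEquiv.map_eq_one_iff, QuotientGroup.mk'_apply, QuotientGroup.eq_one_iff]
  have hQpos : 0 < Nat.card Q := Nat.card_pos
  -- `Q` has index two in `S`
  have hidx : (Q.subgroupOf S).index = 2 := by
    have h1 := Subgroup.card_mul_index (Q.subgroupOf S)
    have h2 : Nat.card (Q.subgroupOf S) = Nat.card Q :=
      Nat.card_congr (Subgroup.subgroupOfEquivOfLe hQS).toEquiv
    rw [h2, hcard] at h1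
    have h3 : Nat.card Q * (Q.subgroupOf S).index = Nat.card Q * 2 := by rw [h1, mul_comm]
    exact Nat.eq_of_mul_eq_mul_left hQpos h3
  -- an element of `S` outside `Q`
  obtain ⟨s, hsS, hsQ⟩ : ∃ s ∈ S, s ∉ Q := by
    by_contra hcon
    push Not at hcon
    have hSQ : S = Q := le_antisymm hcon hQS
    rw [hSQ] at hcard
    omega
  have hs2 : s * s ∈ Q := by
    have := Subgroup.mul_self_mem_of_index_two hidx (⟨s, hsS⟩ : S)
    simpa [Subgroup.mem_subgroupOf] using this
  have h2u : IsUnit ((2 : ℕ) : ZMod n) :=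
    (ZMod.isUnit_iff_coprime 2 n).mpr (Nat.coprime_two_left.mpr hn)
  -- the image of `s` is a reflection
  obtain ⟨i, hi⟩ : ∃ i : ZMod n, π s = DihedralGroup.sr i := by
    cases hts : π s with
    | r j =>
      exfalso
      have h1 : π (s * s) = 1 := (hker _).mpr hs2
      rw [map_mul, hts, DihedralGroup.r_mul_r, DihedralGroup.one_def] at h1
      have h2 : j + j = 0 := DihedralGroup.r.inj h1
      have hj : j = 0 := by
        have h3 : ((2 : ℕ) : ZMod n) * j = 0 := by
          rw [← h2]; push_cast; ring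
        exact (h2u.mul_right_eq_zero).mp h3
      apply hsQ
      rw [← hker, hts, hj]
      rfl
    | sr i => exact ⟨i, rfl⟩
  -- images of the elements of `S`
  have hSimg : ∀ x ∈ S, π x = 1 ∨ π x = DihedralGroup.sr i := by
    intro x hx
    by_cases hxQ : x ∈ Q
    · exact Or.inl ((hker x).mpr hxQ)
    · right
      have h1 : (⟨x, hx⟩ : S) * ⟨s, hsS⟩ ∈ Q.subgroupOf S := by
        rw [Subgroup.mul_mem_iff_of_index_two hidx]
        simp [Subgroup.mem_subgroupOf, hxQ, hsQ]
      have h2 : x * s ∈ Q := by simpa [Subgroup.mem_subgroupOf] using h1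
      have h3 : π x * DihedralGroup.sr i = 1 := by
        rw [← hi, ← map_mul]
        exact (hker _).mpr h2
      calc π x = π x * (DihedralGroup.sr i * DihedralGroup.sr i) := by
            rw [DihedralGroup.sr_mul_self, mul_one]
        _ = DihedralGroup.sr i := by rw [← mul_assoc, h3, one_mul]
  obtain ⟨g, hg⟩ := hπsurj (DihedralGroup.r 1)
  have hconj : ∀ y : Γ, π (g * y * g⁻¹) = DihedralGroup.r 1 * π y * DihedralGroup.r (-1) := by
    intro y
    rw [map_mul, map_mul, map_inv, hg, DihedralGroup.inv_r]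
  have hS'img : ∀ x ∈ MulAut.conj g • S, π x = 1 ∨ π x = DihedralGroup.sr (i - 2) := by
    intro x hx
    rw [GEN_mem_conj_smul] at hx
    have hx' : x = g * (g⁻¹ * x * g) * g⁻¹ := by group
    rw [hx', hconj]
    rcases hSimg _ hx with h | h
    · left
      rw [h, mul_one, DihedralGroup.r_mul_r, add_neg_cancel, DihedralGroup.r_zero]
    · right
      rw [h, DihedralGroup.r_mul_sr, DihedralGroup.sr_mul_r]
      congr 1
      ring
  have h2ne : ((2 : ℕ) : ZMod n) ≠ 0 := by
    rw [Ne, ZMod.natCast_eq_zero_iff]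
    intro hdvd
    have := Nat.le_of_dvd (by norm_num) hdvd
    omega
  refine ⟨g, ?_, ?_⟩
  · -- generation
    set K := S ⊔ MulAut.conj g • S with hK
    have hQK : π.ker ≤ K := by
      intro x hx
      rw [MonoidHom.mem_ker, hker] at hx
      exact le_sup_left (a := S) (hQS hx)
    have hsK : s ∈ K := le_sup_left (a := S) hsS
    have hs'K : g * s * g⁻¹ ∈ K := by
      apply le_sup_right (a := S)
      rw [GEN_mem_conj_smul]
      have : g⁻¹ * (g * s * g⁻¹) * g = s := by group
      rw [this]
      exact hsS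
    have h1 : DihedralGroup.sr i ∈ K.map π := ⟨s, hsK, hi⟩
    have h2 : DihedralGroup.sr (i - 2) ∈ K.map π := by
      refine ⟨g * s * g⁻¹, hs'K, ?_⟩
      rw [hconj, hi, DihedralGroup.r_mul_sr, DihedralGroup.sr_mul_r]
      congr 1
      ring
    have hr2 : DihedralGroup.r (2 : ZMod n) ∈ K.map π := by
      have := mul_mem h2 h1
      rw [DihedralGroup.sr_mul_sr] at this
      have e2 : i - (i - 2) = (2 : ZMod n) := by ring
      rwa [e2] at this
    have hrot : ∀ j : ZMod n, DihedralGroup.r j ∈ K.map π := by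
      intro j
      obtain ⟨m, hm⟩ := hn
      -- `n = 2 * m + 1`, so `2 * (m + 1) = n + 1 ≡ 1`
      have hpow := pow_mem hr2 (j.val * (m + 1))
      rw [DihedralGroup.r_pow] at hpow
      have e3 : (2 : ZMod n) * ((j.val * (m + 1) : ℕ) : ZMod n) = j := by
        have h4 : ((2 * (m + 1) : ℕ) : ZMod n) = 1 := by
          have : 2 * (m + 1) = n + 1 := by omega
          rw [this, Nat.cast_add, ZMod.natCast_self, zero_add, Nat.cast_one]
        push_cast at h4 ⊢
        rw [ZMod.natCast_zmod_val]
        calc (2 : ZMod n) * (j * ((m : ZMod n) + 1)) = j * (2 * ((m : ZMod n) + 1)) := by ring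
          _ = j := by rw [h4, mul_one]
      rwa [e3] at hpow
    have htop : K.map π = ⊤ := by
      rw [eq_top_iff]
      intro x _
      cases x with
      | r j => exact hrot j
      | sr j =>
        have := mul_mem h1 (hrot (j - i))
        rw [DihedralGroup.sr_mul_r] at this
        have e4 : i + (j - i) = j := by ring
        rwa [e4] at this
    have := Subgroup.comap_map_eq_self hQK
    rw [htop, Subgroup.comap_top] at this
    exact this.symm
  · -- intersection
    apply le_antisymm
    · intro x hx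
      rw [Subgroup.mem_inf] at hx
      rw [← hker]
      rcases hSimg x hx.1 with h | h
      · exact h
      · rcases hS'img x hx.2 with h' | h'
        · exact h'
        · exfalso
          rw [h] at h'
          have h5 : i = i - 2 := DihedralGroup.sr.inj h'
          apply h2ne
          have : (2 : ZMod n) = i - (i - 2) := by ring
          push_cast
          rw [this, ← h5, sub_self]
    · intro x hx
      rw [Subgroup.mem_inf]
      refine ⟨hQS hx, ?_⟩
      rw [GEN_mem_conj_smul]
      apply hQS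
      have hnorm : (Q : Subgroup Γ).Normal := by rw [hQ]; infer_instance
      have := hnorm.conj_mem x hx g⁻¹
      simpa using this

end Cfsg.Agent.Helper53.GD
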