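import Mathlib

/-!
# (GAG-A) Camina property from centralizer orders

If `|C_G(x)| = |C_{G/N}(xN)|` for all `x ∉ N`, then every `g ∉ N` is conjugate to every element of
its coset `gN`.
-/

set_option autoImplicit false

namespace Cfsg.Agent.Helper53.Gagola

open Subgroup

theorem camina_of_card_centralizer {G : Type*} [Group G] [Finite G] (N : Subgroup G) [N.Normal]
    (hcard : ∀ x : G, x ∉ N → Nat.card (Subgroup.centralizer ({x} : Set G)) =
      Nat.card (Subgroup.centralizer ({(x : G ⧸ N)} : Set (G ⧸ N)))) :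
    ∀ g : G, g ∉ N → ∀ n ∈ N, ∃ c : G, c * g * c⁻¹ = g * n := by
  classical
  intro g hg n hn
  set Cbar : Subgroup (G ⧸ N) := Subgroup.centralizer ({(g : G ⧸ N)} : Set (G ⧸ N)) with hCbar
  set D : Subgroup G := Cbar.comap (QuotientGroup.mk' N) with hD
  set C : Subgroup G := Subgroup.centralizer ({g} : Set G) with hC
  have hmemC : ∀ c : G, c ∈ C ↔ c * g = g * c := by
    intro c
    rw [hC, Subgroup.mem_centralizer_iff]
    constructor
    · intro h
      exact (h g (Set.mem_singleton g)).symm
    · intro h y hy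
      rw [Set.mem_singleton_iff] at hy
      subst hy
      exact h.symm
  have hmemD : ∀ c : G, c ∈ D ↔ c * g * c⁻¹ * g⁻¹ ∈ N := by
    intro c
    rw [hD, Subgroup.mem_comap, hCbar, Subgroup.mem_centralizer_iff]
    constructor
    · intro h
      have h1 := h (g : G ⧸ N) (Set.mem_singleton _)
      -- h1 : ↑g * mk' c = mk' c * ↑g
      rw [← QuotientGroup.eq_one_iff]
      have h2 : ((c * g * c⁻¹ * g⁻¹ : G) : G ⧸ N) =
          (QuotientGroup.mk' N c) * (g : G ⧸ N) * (QuotientGroup.mk' N c)⁻¹ * (g : G ⧸ N)⁻¹ := by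
        simp
      rw [h2, ← h1]
      group
    · intro h y hy
      rw [Set.mem_singleton_iff] at hy
      subst hy
      rw [← QuotientGroup.eq_one_iff] at h
      have h2 : ((c * g * c⁻¹ * g⁻¹ : G) : G ⧸ N) =
          (QuotientGroup.mk' N c) * (g : G ⧸ N) * (QuotientGroup.mk' N c)⁻¹ * (g : G ⧸ N)⁻¹ := by
        simp
      rw [h2] at h
      -- a * b * a⁻¹ * b⁻¹ = 1 → b * a = a * b
      have h3 : (QuotientGroup.mk' N c) * (g : G ⧸ N) =
          (g : G ⧸ N) * (QuotientGroup.mk' N c) := by
        have := congrArg (fun z => z * ((g : G ⧸ N) * (QuotientGroup.mk' N c))) h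
        simp only [one_mul] at this
        rw [← this]
        group
      exact h3.symm
  have hCD : C ≤ D := by
    intro c hc
    rw [hmemD]
    have := (hmemC c).mp hc
    have h1 : c * g * c⁻¹ * g⁻¹ = 1 := by
      rw [this]; group
    rw [h1]
    exact N.one_mem
  -- cardinalities
  have hsurj : Function.Surjective (QuotientGroup.mk' N) := QuotientGroup.mk'_surjective N
  have hidx : D.index = Cbar.index := Subgroup.index_comap_of_surjective Cbar hsurj
  have hcardG : Nat.card G = Nat.card N * Nat.card (G ⧸ N) := by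
    rw [mul_comm]
    exact Subgroup.card_eq_card_quotient_mul_card_subgroup N
  have hcardD : Nat.card D = Nat.card N * Nat.card Cbar := by
    have h1 : Nat.card D * D.index = Nat.card G := Subgroup.card_mul_index D
    have h2 : Nat.card Cbar * Cbar.index = Nat.card (G ⧸ N) := Subgroup.card_mul_index Cbar
    have hpos : 0 < Cbar.index := Nat.pos_of_ne_zero Subgroup.index_ne_zero_of_finite
    have : Nat.card D * Cbar.index = Nat.card N * Nat.card Cbar * Cbar.index := by
      rw [← hidx, h1, hcardG, ← h2, hidx]; ring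
    exact Nat.eq_of_mul_eq_mul_right hpos this
  have hcardC : Nat.card C = Nat.card Cbar := hcard g hg
  set C' : Subgroup D := C.subgroupOf D with hC'
  have hcardC' : Nat.card C' = Nat.card C :=
    Nat.card_congr (Subgroup.subgroupOfEquivOfLe hCD).toEquiv
  have hquot : Nat.card (D ⧸ C') = Nat.card N := by
    have h1 : Nat.card D = Nat.card (D ⧸ C') * Nat.card C' :=
      Subgroup.card_eq_card_quotient_mul_card_subgroup C'
    have hpos : 0 < Nat.card C := Nat.card_pos
    rw [hcardC', hcardD, ← hcardC] at h1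
    exact (Nat.eq_of_mul_eq_mul_right hpos h1).symm
  -- the map D ⧸ C' → N
  let ψ : D → N := fun c => ⟨(c : G) * g * (c : G)⁻¹ * g⁻¹, (hmemD c).mp c.2⟩
  have hψ : ∀ c d : D, ψ c = ψ d ↔ c⁻¹ * d ∈ C' := by
    intro c d
    rw [hC', Subgroup.mem_subgroupOf, hmemC]
    simp only [ψ, Subtype.mk.injEq, Subgroup.coe_mul, Subgroup.coe_inv]
    constructor
    · intro h
      have h1 : (c : G) * g * (c : G)⁻¹ = (d : G) * g * (d : G)⁻¹ := by
        have := congrArg (fun z => z * g) h
        simpa using this
      calc (c : G)⁻¹ * (d : G) * g = (c : G)⁻¹ * ((d : G) * g * (d : G)⁻¹) * (d : G) := by group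
        _ = (c : G)⁻¹ * ((c : G) * g * (c : G)⁻¹) * (d : G) := by rw [h1]
        _ = g * ((c : G)⁻¹ * (d : G)) := by group
    · intro h
      have h1 : (d : G) * g * (d : G)⁻¹ = (c : G) * g * (c : G)⁻¹ := by
        calc (d : G) * g * (d : G)⁻¹ = (c : G) * ((c : G)⁻¹ * (d : G) * g) * (d : G)⁻¹ := by group
          _ = (c : G) * (g * ((c : G)⁻¹ * (d : G))) * (d : G)⁻¹ := by rw [h]
          _ = (c : G) * g * (c : G)⁻¹ := by group
      rw [h1]
  let f : D ⧸ C' → N := Quotient.lift ψ (by
    intro c d hcd
    rw [hψ]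
    exact QuotientGroup.leftRel_apply.mp hcd)
  have hf_inj : Function.Injective f := by
    intro a b
    induction a using Quotient.inductionOn with
    | h c =>
      induction b using Quotient.inductionOn with
      | h d =>
        intro h
        have h1 : ψ c = ψ d := h
        rw [hψ] at h1
        exact Quotient.sound (QuotientGroup.leftRel_apply.mpr h1)
  have hf_bij : Function.Bijective f :=
    hf_inj.bijective_of_nat_card_le (le_of_eq hquot.symm)
  have hm : g * n * g⁻¹ ∈ N := ‹N.Normal›.conj_mem n hn g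
  obtain ⟨q, hq⟩ := hf_bij.2 ⟨g * n * g⁻¹, hm⟩
  induction q using Quotient.inductionOn with
  | h c =>
    have h1 : ψ c = ⟨g * n * g⁻¹, hm⟩ := hq
    have h2 : (c : G) * g * (c : G)⁻¹ * g⁻¹ = g * n * g⁻¹ := congrArg Subtype.val h1
    refine ⟨(c : G), ?_⟩
    have := congrArg (fun z => z * g) h2
    simpa using this
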