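import Mathlib

/-!
# (HQ) of S3032: the `H`-subgroup condition passes to quotients by normal `p'`-subgroups

Delivered to helper74 (board #5823).
-/

set_option autoImplicit false

namespace Cfsg.Agent.Helper53.HS

universe u

variable {G : Type u} [Group G] [Finite G]

/-- (HQ) -/
theorem isH_map_mk {p : ℕ} [Fact p.Prime] (N : Subgroup G) [N.Normal]
    (hN : ¬ p ∣ Nat.card N) (F : Subgroup G) (hF : IsPGroup p F)
    (h : ∀ g : G, F.map (MulAut.conj g).toMonoidHom ⊓ Subgroup.normalizer (F : Set G) ≤ F) :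
    ∀ x : G ⧸ N, (F.map (QuotientGroup.mk' N)).map (MulAut.conj x).toMonoidHom ⊓
      Subgroup.normalizer ((F.map (QuotientGroup.mk' N) : Subgroup (G ⧸ N)) : Set (G ⧸ N)) ≤
        F.map (QuotientGroup.mk' N) := by
  intro x ybar hyb
  obtain ⟨hy1, hy2⟩ := hyb
  obtain ⟨g, rfl⟩ := QuotientGroup.mk'_surjective N x
  obtain ⟨fbar, hfbar, rfl⟩ := hy1
  obtain ⟨f, hf, rfl⟩ := hfbar
  have hp : p.Prime := Fact.out
  set Fbar : Subgroup (G ⧸ N) := F.map (QuotientGroup.mk' N) with hFbar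
  have hFbarP : IsPGroup p Fbar := hF.map _
  -- the element `y`
  set y : G := g * f * g⁻¹ with hy
  have hyb : (MulAut.conj (QuotientGroup.mk' N g)).toMonoidHom (QuotientGroup.mk' N f) =
      QuotientGroup.mk' N y := by
    simp [hy]
  rw [hyb] at hy2 ⊢
  -- membership in `F ⊔ N`
  have hcomap : ∀ z : G, QuotientGroup.mk' N z ∈ Fbar ↔ z ∈ F ⊔ N := by
    intro z
    rw [← Subgroup.mem_comap, hFbar, Subgroup.comap_map_eq, QuotientGroup.ker_mk']
  -- the `p`-group `Sbar`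
  have hzp : IsPGroup p (Subgroup.zpowers (QuotientGroup.mk' N y)) := by
    have h1 : IsPGroup p (Fbar.map (MulAut.conj (QuotientGroup.mk' N g)).toMonoidHom) :=
      hFbarP.map _
    refine h1.to_le ?_
    rw [Subgroup.zpowers_le, ← hyb]
    exact Subgroup.mem_map_of_mem _ (Subgroup.mem_map_of_mem _ hf)
  have hzn : Subgroup.zpowers (QuotientGroup.mk' N y) ≤ Subgroup.normalizer (Fbar : Set (G ⧸ N)) := by
    rw [Subgroup.zpowers_le]
    exact hy2
  set Sbar : Subgroup (G ⧸ N) := Subgroup.zpowers (QuotientGroup.mk' N y) ⊔ Fbar with hSbar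
  have hSbarP : IsPGroup p Sbar := hzp.to_sup_of_normal_right' hFbarP hzn
  have hSbarN : Sbar ≤ Subgroup.normalizer (Fbar : Set (G ⧸ N)) :=
    sup_le hzn Subgroup.le_normalizer
  set H : Subgroup G := Sbar.comap (QuotientGroup.mk' N) with hH
  have hyH : y ∈ H := by
    rw [hH, Subgroup.mem_comap]
    exact (le_sup_left : _ ≤ Sbar) (Subgroup.mem_zpowers _)
  have hFH : F ≤ H := by
    intro z hz
    rw [hH, Subgroup.mem_comap]
    exact (le_sup_right : _ ≤ Sbar) (Subgroup.mem_map_of_mem _ hz)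
  -- a Sylow `p`-subgroup `R` of `H` containing `F`
  obtain ⟨R, hR⟩ := (hF.comap_subtype (K := H)).exists_le_sylow
  have hFR : ∀ z (hz : z ∈ F), (⟨z, hFH hz⟩ : ↥H) ∈ (R : Subgroup ↥H) := fun z hz => hR hz
  -- a Sylow `p`-subgroup of `H` containing `y`
  have hyP : IsPGroup p ((Subgroup.zpowers y).comap H.subtype) := by
    have h1 : IsPGroup p (Subgroup.zpowers y) := by
      have h2 : IsPGroup p (F.map (MulAut.conj g).toMonoidHom) := hF.map _
      refine h2.to_le ?_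
      rw [Subgroup.zpowers_le]
      exact ⟨f, hf, by simp [hy]⟩
    exact h1.comap_subtype
  obtain ⟨R', hR'⟩ := hyP.exists_le_sylow
  obtain ⟨k, hk⟩ := MulAction.exists_smul_eq ↥H R' R
  have hyR' : (⟨y, hyH⟩ : ↥H) ∈ (R' : Subgroup ↥H) := hR' (Subgroup.mem_zpowers y)
  have hkyR : k * ⟨y, hyH⟩ * k⁻¹ ∈ (R : Subgroup ↥H) := by
    have h2 : k * ⟨y, hyH⟩ * k⁻¹ ∈ ((k • R' : Sylow p ↥H) : Subgroup ↥H) := by
      rw [Sylow.coe_subgroup_smul]
      exact Subgroup.smul_mem_pointwise_smul _ _ _ hyR'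
    rw [hk] at h2
    exact h2
  -- `R` maps onto `Sbar`
  have hπ : Function.Surjective ((QuotientGroup.mk' N).subgroupComap Sbar) :=
    MonoidHom.subgroupComap_surjective_of_surjective _ _ (QuotientGroup.mk'_surjective N)
  have hRtop : (R : Subgroup ↥H).map ((QuotientGroup.mk' N).subgroupComap Sbar) = ⊤ :=
    ((R.mapSurjective hπ).3 (hSbarP.to_subgroup ⊤) le_top).symm
  -- decompose `k`
  obtain ⟨s, hsR, hsk⟩ : ∃ s ∈ (R : Subgroup ↥H),
      (QuotientGroup.mk' N).subgroupComap Sbar s = (QuotientGroup.mk' N).subgroupComap Sbar k := by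
    have : (QuotientGroup.mk' N).subgroupComap Sbar k ∈
        (R : Subgroup ↥H).map ((QuotientGroup.mk' N).subgroupComap Sbar) := by
      rw [hRtop]; exact Subgroup.mem_top _
    obtain ⟨s, hs, hsk⟩ := this
    exact ⟨s, hs, hsk⟩
  have hsk' : QuotientGroup.mk' N (s : G) = QuotientGroup.mk' N (k : G) := by
    exact congrArg Subtype.val hsk
  set u : ↥H := s⁻¹ * k with hu
  have huN : (u : G) ∈ N := by
    have h3 : QuotientGroup.mk' N ((s : G)⁻¹ * (k : G)) = 1 := by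
      rw [map_mul, map_inv, hsk', inv_mul_cancel]
    exact (QuotientGroup.eq_one_iff _).mp h3
  have huyR : u * ⟨y, hyH⟩ * u⁻¹ ∈ (R : Subgroup ↥H) := by
    have : u * ⟨y, hyH⟩ * u⁻¹ = s⁻¹ * (k * ⟨y, hyH⟩ * k⁻¹) * s := by
      rw [hu]; group
    rw [this]
    exact Subgroup.mul_mem _ (Subgroup.mul_mem _ (Subgroup.inv_mem _ hsR) hkyR) hsR
  -- `R` normalizes `F`
  have hcop : (Nat.card (R : Subgroup ↥H)).Coprime (Nat.card (N.subgroupOf H)) := by
    obtain ⟨n, hn⟩ := IsPGroup.iff_card.mp R.2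
    rw [hn]
    apply Nat.Coprime.pow_left
    rw [Nat.Prime.coprime_iff_not_dvd hp]
    intro hdvd
    apply hN
    refine hdvd.trans ?_
    have : Nat.card (N.subgroupOf H) = Nat.card ↥(N ⊓ H) := by
      rw [← Subgroup.inf_subgroupOf_right]
      exact Nat.card_congr (Subgroup.subgroupOfEquivOfLe (inf_le_right : N ⊓ H ≤ H)).toEquiv
    rw [this]
    exact Subgroup.card_dvd_of_le inf_le_left
  have hdisj : (R : Subgroup ↥H) ⊓ N.subgroupOf H = ⊥ :=
    (Subgroup.disjoint_of_coprime_natCard hcop).eq_bot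
  have hnorm : ∀ r : ↥H, r ∈ (R : Subgroup ↥H) → ∀ z ∈ F, (r : G) * z * (r : G)⁻¹ ∈ F := by
    intro r hr z hz
    have hrS : QuotientGroup.mk' N (r : G) ∈ Sbar := r.2
    have h1 : QuotientGroup.mk' N ((r : G) * z * (r : G)⁻¹) ∈ Fbar := by
      have h2 := (Subgroup.mem_normalizer_iff.mp (hSbarN hrS) (QuotientGroup.mk' N z)).mp
        (Subgroup.mem_map_of_mem _ hz)
      simpa using h2
    rw [hcomap] at h1
    have h2 : (r : G) * z * (r : G)⁻¹ ∈ ((F ⊔ N : Subgroup G) : Set G) := h1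
    rw [Subgroup.mul_normal, Set.mem_mul] at h2
    obtain ⟨z', hz', n, hn, hzn⟩ := h2
    have hz'F : z' ∈ F := hz'
    have hnN : n ∈ N := hn
    have hnH : n ∈ H := by
      have hn0 : QuotientGroup.mk' N n = 1 := (QuotientGroup.eq_one_iff n).mpr hnN
      rw [hH, Subgroup.mem_comap, hn0]
      exact Subgroup.one_mem _
    have hn1 : (⟨n, hnH⟩ : ↥H) ∈ (R : Subgroup ↥H) ⊓ N.subgroupOf H := by
      refine ⟨?_, ?_⟩
      · have : (⟨n, hnH⟩ : ↥H) = (⟨z', hFH hz'F⟩ : ↥H)⁻¹ * (r * ⟨z, hFH hz⟩ * r⁻¹) := by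
          apply Subtype.ext
          show n = z'⁻¹ * ((r : G) * z * (r : G)⁻¹)
          rw [← hzn]; group
        rw [this]
        exact Subgroup.mul_mem _ (Subgroup.inv_mem _ (hFR z' hz'F))
          (Subgroup.mul_mem _ (Subgroup.mul_mem _ hr (hFR z hz)) (Subgroup.inv_mem _ hr))
      · exact Subgroup.mem_subgroupOf.mpr hnN
    rw [hdisj, Subgroup.mem_bot] at hn1
    have hn1' : n = 1 := congrArg Subtype.val hn1
    rw [← hzn, hn1', mul_one]
    exact hz'F
  -- the element `w`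
  set w : G := (u : G) * y * (u : G)⁻¹ with hw
  have hwR : ∀ z ∈ F, w * z * w⁻¹ ∈ F := hnorm _ huyR
  have hwR' : ∀ z ∈ F, w⁻¹ * z * w⁻¹⁻¹ ∈ F := hnorm _ (Subgroup.inv_mem _ huyR)
  have hwnorm : w ∈ Subgroup.normalizer (F : Set G) := by
    rw [Subgroup.mem_normalizer_iff]
    intro z
    refine ⟨hwR z, fun hz => ?_⟩
    have := hwR' _ hz
    have h5 : w⁻¹ * (w * z * w⁻¹) * w⁻¹⁻¹ = z := by group
    rwa [h5] at this
  have hwconj : w ∈ F.map (MulAut.conj ((u : G) * g)).toMonoidHom := by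
    refine ⟨f, hf, ?_⟩
    simp only [MulEquiv.coe_toMonoidHom, MulAut.conj_apply, hw, hy]
    group
  have hwF : w ∈ F := h ((u : G) * g) ⟨hwconj, hwnorm⟩
  have hwy : QuotientGroup.mk' N w = QuotientGroup.mk' N y := by
    have hu0 : QuotientGroup.mk' N (u : G) = 1 := (QuotientGroup.eq_one_iff (u : G)).mpr huN
    rw [hw, map_mul, map_mul, map_inv, hu0]
    simp
  rw [← hwy]
  exact Subgroup.mem_map_of_mem _ hwF

end Cfsg.Agent.Helper53.HS
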