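import Mathlib
import Cfsg.Agent.Helper74.HSDefs

/-!
# (U1) of S3032: a normal subgroup of prime order inside a normal `q`-subgroup
centralized by the `q'`-elements of `resid q G`

Delivered to helper74 (board #5823).
-/

set_option autoImplicit false

namespace Cfsg.Agent.Helper53.HS

open Cfsg.Agent.Helper74.HS

universe u

/-- an endomorphism of a nonzero finite `𝔽_q`-space with `T ^ (q - 1) = 1` has an eigenvector -/
theorem exists_eigenvector_of_pow_pred {q : ℕ} [Fact q.Prime] {V : Type*} [AddCommGroup V]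
    [Module (ZMod q) V] [Finite V] [Nontrivial V] (T : Module.End (ZMod q) V)
    (hT : T ^ (q - 1) = 1) : ∃ (μ : ZMod q) (v : V), v ≠ 0 ∧ T v = μ • v := by
  have hq : q.Prime := Fact.out
  have : Module.Finite (ZMod q) V := Module.Finite.of_finite
  have hdvd : minpoly (ZMod q) T ∣ (Polynomial.X ^ q - Polynomial.X : Polynomial (ZMod q)) := by
    apply minpoly.dvd
    have h1 : (Polynomial.X ^ q - Polynomial.X : Polynomial (ZMod q)) =
        Polynomial.X * (Polynomial.X ^ (q - 1) - 1) := by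
      rw [mul_sub, mul_one, ← pow_succ', Nat.sub_add_cancel hq.one_le]
    rw [h1]
    simp [hT]
  have hne : (Polynomial.X ^ q - Polynomial.X : Polynomial (ZMod q)) ≠ 0 :=
    FiniteField.X_pow_card_sub_X_ne_zero (ZMod q) hq.one_lt
  have hs : (minpoly (ZMod q) T).Splits :=
    (GaloisField.splits_zmod_X_pow_sub_X q).of_dvd hne hdvd
  have hint : IsIntegral (ZMod q) T := Algebra.IsIntegral.isIntegral T
  obtain ⟨μ, hμ⟩ := hs.exists_eval_eq_zero (minpoly.degree_pos hint).ne'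
  have hev : T.HasEigenvalue μ := Module.End.hasEigenvalue_of_isRoot hμ
  obtain ⟨v, hv⟩ := hev.exists_hasEigenvector
  exact ⟨μ, v, hv.2, hv.apply_eq_smul⟩

/-- an endomorphism `c` of a nontrivial finite abelian group of exponent `q` with
`c ^ (q - 1) = id` maps some nontrivial element to a power of itself -/
theorem exists_apply_eq_pow {q : ℕ} [Fact q.Prime] {A : Type*} [CommGroup A] [Finite A]
    [Nontrivial A] (hexp : ∀ x : A, x ^ q = 1) (c : A →* A) (hc : ∀ x : A, c^[q - 1] x = x) :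
    ∃ (m : ℕ) (x : A), x ≠ 1 ∧ c x = x ^ m := by
  classical
  have _inst : Module (ZMod q) (Additive A) := AddCommGroup.zmodModule (n := q) (by
    intro v
    have h2 : q • v = Additive.ofMul ((Additive.toMul v) ^ q) := rfl
    rw [h2, hexp]
    rfl)
  let T : Module.End (ZMod q) (Additive A) := (MonoidHom.toAdditive c).toZModLinearMap q
  have hT1 : ∀ v : Additive A, T v = Additive.ofMul (c (Additive.toMul v)) := fun v => rfl
  have hTk : ∀ k : ℕ, ∀ v : Additive A, (T ^ k) v = Additive.ofMul (c^[k] (Additive.toMul v)) := by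
    intro k
    induction k with
    | zero => intro v; simp
    | succ k ih =>
      intro v
      rw [pow_succ', Module.End.mul_apply, ih, hT1, Function.iterate_succ_apply']
      rfl
  have hT : T ^ (q - 1) = 1 := by
    apply LinearMap.ext
    intro v
    rw [hTk, hc, Module.End.one_apply]
    rfl
  obtain ⟨μ, v, hv0, hv⟩ := exists_eigenvector_of_pow_pred T hT
  refine ⟨μ.val, Additive.toMul v, ?_, ?_⟩
  · intro h
    apply hv0
    exact Additive.toMul.injective h
  · have h1 := hT1 v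
    rw [hv] at h1
    have h2 : μ • v = μ.val • v := by
      conv_lhs => rw [← ZMod.natCast_zmod_val μ]
      exact Nat.cast_smul_eq_nsmul (ZMod q) μ.val v
    rw [h2] at h1
    have h3 : Additive.toMul (μ.val • v) = (Additive.toMul v) ^ μ.val := rfl
    rw [← h3, h1]
    rfl

variable {G : Type u} [Group G] [Finite G]

/-- group form of the eigenvector lemma -/
theorem exists_conj_eq_pow {q : ℕ} [Fact q.Prime] (N : Subgroup G) (hne : N ≠ ⊥)
    (hab : ∀ x ∈ N, ∀ y ∈ N, x * y = y * x) (hexp : ∀ x ∈ N, x ^ q = 1)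
    (g : G) (hg : ∀ x ∈ N, g * x * g⁻¹ ∈ N)
    (hgq : ∀ x ∈ N, g ^ (q - 1) * x = x * g ^ (q - 1)) :
    ∃ (m : ℕ) (x : G), x ∈ N ∧ x ≠ 1 ∧ g * x * g⁻¹ = x ^ m := by
  classical
  let inst : CommGroup ↥N := { (inferInstance : Group ↥N) with
    mul_comm := fun a b => Subtype.ext (hab a.1 a.2 b.1 b.2) }
  have hnt : Nontrivial ↥N := (Subgroup.nontrivial_iff_ne_bot N).mpr hne
  let c : ↥N →* ↥N := MonoidHom.mk' (fun x => ⟨g * x * g⁻¹, hg x x.2⟩) (by
    intro a b
    apply Subtype.ext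
    show g * (a * b : G) * g⁻¹ = (g * a * g⁻¹) * (g * b * g⁻¹)
    group)
  have hck : ∀ k : ℕ, ∀ x : ↥N, ((c^[k] x : ↥N) : G) = g ^ k * (x : G) * (g ^ k)⁻¹ := by
    intro k
    induction k with
    | zero => intro x; simp
    | succ k ih =>
      intro x
      rw [Function.iterate_succ_apply']
      show g * ((c^[k] x : ↥N) : G) * g⁻¹ = _
      rw [ih, pow_succ']
      group
  have hc : ∀ x : ↥N, c^[q - 1] x = x := by
    intro x
    apply Subtype.ext
    rw [hck, hgq _ x.2]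
    group
  have hexp' : ∀ x : ↥N, x ^ q = 1 := fun x => Subtype.ext (hexp _ x.2)
  obtain ⟨m, x, hx1, hx⟩ := @exists_apply_eq_pow q _ ↥N inst _ hnt hexp' c hc
  refine ⟨m, (x : G), x.2, ?_, ?_⟩
  · intro h
    exact hx1 (Subtype.ext h)
  · have := congrArg Subtype.val hx
    exact this

/-- `Ω₁(Z(Q))` as a normal subgroup of `G` -/
theorem exists_central_elementary {q : ℕ} [Fact q.Prime] (Q : Subgroup G) [Q.Normal]
    (hQ : IsPGroup q Q) (hne : Q ≠ ⊥) :
    ∃ W : Subgroup G, W ≤ Q ∧ W.Normal ∧ W ≠ ⊥ ∧ (∀ x ∈ W, ∀ y ∈ Q, x * y = y * x) ∧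
      (∀ x ∈ W, x ^ q = 1) := by
  classical
  have hq : q.Prime := Fact.out
  let W : Subgroup G :=
    { carrier := {x | x ∈ Q ∧ (∀ y ∈ Q, x * y = y * x) ∧ x ^ q = 1}
      one_mem' := ⟨Q.one_mem, fun y _ => by simp, one_pow q⟩
      mul_mem' := by
        rintro a b ⟨ha, hac, haq⟩ ⟨hb, hbc, hbq⟩
        refine ⟨Q.mul_mem ha hb, fun y hy => ?_, ?_⟩
        · rw [mul_assoc, hbc y hy, ← mul_assoc, hac y hy, mul_assoc]
        · have hcomm : Commute a b := hac b hb
          rw [hcomm.mul_pow, haq, hbq, one_mul]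
      inv_mem' := by
        rintro a ⟨ha, hac, haq⟩
        refine ⟨Q.inv_mem ha, fun y hy => ?_, by rw [inv_pow, haq, inv_one]⟩
        have h1 := hac y hy
        calc a⁻¹ * y = a⁻¹ * (y * a) * a⁻¹ := by group
          _ = a⁻¹ * (a * y) * a⁻¹ := by rw [h1]
          _ = y * a⁻¹ := by group }
  have hWmem : ∀ x, x ∈ W ↔ x ∈ Q ∧ (∀ y ∈ Q, x * y = y * x) ∧ x ^ q = 1 := fun x => Iff.rfl
  refine ⟨W, fun x hx => hx.1, ?_, ?_, fun x hx => hx.2.1, fun x hx => hx.2.2⟩
  · constructor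
    intro x hx g
    obtain ⟨hxQ, hxc, hxq⟩ := hx
    refine ⟨(inferInstance : Q.Normal).conj_mem x hxQ g, fun y hy => ?_, ?_⟩
    · have hy' : g⁻¹ * y * g ∈ Q := by
        have := (inferInstance : Q.Normal).conj_mem y hy g⁻¹
        simpa using this
      have h1 := hxc _ hy'
      calc g * x * g⁻¹ * y = g * (x * (g⁻¹ * y * g)) * g⁻¹ := by group
        _ = g * ((g⁻¹ * y * g) * x) * g⁻¹ := by rw [h1]
        _ = y * (g * x * g⁻¹) := by group
    · rw [conj_pow, hxq]; group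
  · have hQnt : Nontrivial ↥Q := (Subgroup.nontrivial_iff_ne_bot Q).mpr hne
    have hZnt : Nontrivial ↥(Subgroup.center ↥Q) := hQ.center_nontrivial
    have hZp : IsPGroup q ↥(Subgroup.center ↥Q) := hQ.to_subgroup _
    obtain ⟨n, hn0, hn⟩ := hZp.nontrivial_iff_card.mp hZnt
    have hdvd : q ∣ Nat.card ↥(Subgroup.center ↥Q) := hn ▸ dvd_pow_self q hn0.ne'
    obtain ⟨z, hz⟩ := exists_prime_orderOf_dvd_card' q hdvd
    have hzq : z ^ q = 1 := hz ▸ pow_orderOf_eq_one z
    have hzW : ((z : ↥Q) : G) ∈ W := by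
      refine ⟨(z : ↥Q).2, fun y hy => ?_, ?_⟩
      · have h1 := Subgroup.mem_center_iff.mp z.2 ⟨y, hy⟩
        exact (congrArg Subtype.val h1).symm
      · have h1 := congrArg (fun w : ↥(Subgroup.center ↥Q) => ((w : ↥Q) : G)) hzq
        simpa using h1
    intro hW
    rw [hW, Subgroup.mem_bot] at hzW
    have hz1 : z = 1 := Subtype.ext (Subtype.ext hzW)
    rw [hz1, orderOf_one] at hz
    exact hq.ne_one hz.symm

/-- `resid q G` centralizes a minimal normal subgroup inside `Q` -/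
theorem resid_centralizes_of_minimal {q : ℕ} [Fact q.Prime] (Q : Subgroup G) (hQ : IsPGroup q Q)
    (hB : ∀ b ∈ resid q G, (orderOf b).Coprime q → ∀ x ∈ Q, b * x = x * b)
    (N : Subgroup G) [N.Normal] (hNQ : N ≤ Q) (hne : N ≠ ⊥)
    (hmin : ∀ M : Subgroup G, M ≤ N → M.Normal → M ≠ ⊥ → M = N) :
    ∀ b ∈ resid q G, ∀ x ∈ N, b * x = x * b := by
  classical
  have hq : q.Prime := Fact.out
  let φ : G →* MulAut ↥N := MulAut.conjNormal
  let A : Subgroup (MulAut ↥N) := (resid q G).map φ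
  have hA : IsPGroup q ↥A := by
    rintro ⟨a, b, hb, rfl⟩
    have hb0 : orderOf b ≠ 0 := (orderOf_pos b).ne'
    obtain ⟨e, m, hm, hbm⟩ := Nat.exists_eq_pow_mul_and_not_dvd hb0 q hq.ne_one
    refine ⟨e, ?_⟩
    apply Subtype.ext
    show (φ b) ^ (q ^ e) = 1
    rw [← map_pow]
    set c := b ^ (q ^ e) with hc
    have hcB : c ∈ resid q G := Subgroup.pow_mem _ hb _
    have hcm : c ^ m = 1 := by
      rw [hc, ← pow_mul, ← hbm]; exact pow_orderOf_eq_one b
    have hcop : (orderOf c).Coprime q := by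
      have h1 : orderOf c ∣ m := orderOf_dvd_of_pow_eq_one hcm
      have h2 : m.Coprime q := ((Nat.Prime.coprime_iff_not_dvd hq).mpr hm).symm
      exact Nat.Coprime.coprime_dvd_left h1 h2
    ext x
    rw [MulAut.conjNormal_apply]
    have h3 := hB c hcB hcop x (hNQ x.2)
    rw [h3]; simp
  have hNp : IsPGroup q ↥N := hQ.to_le hNQ
  have hNnt : Nontrivial ↥N := (Subgroup.nontrivial_iff_ne_bot N).mpr hne
  obtain ⟨n, hn0, hn⟩ := hNp.nontrivial_iff_card.mp hNnt
  have hdvd : q ∣ Nat.card ↥N := hn ▸ dvd_pow_self q hn0.ne'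
  have h1fix : (1 : ↥N) ∈ MulAction.fixedPoints ↥A ↥N := by
    intro a
    show ((a : MulAut ↥N) (1 : ↥N)) = 1
    exact map_one _
  obtain ⟨x, hxfix, hx1⟩ := hA.exists_fixed_point_of_prime_dvd_card_of_fixed_point ↥N hdvd h1fix
  let C : Subgroup G := N ⊓ Subgroup.centralizer (resid q G : Set G)
  have hCn : C.Normal := by
    constructor
    intro n hn g
    refine ⟨(inferInstance : N.Normal).conj_mem n hn.1 g, ?_⟩
    refine Subgroup.mem_centralizer_iff.mpr ?_
    intro b hb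
    have hb' : g⁻¹ * b * g ∈ resid q G := by
      have := (resid_normal q G).conj_mem b hb g⁻¹
      simpa using this
    have h2 := Subgroup.mem_centralizer_iff.mp hn.2 _ hb'
    calc b * (g * n * g⁻¹) = g * ((g⁻¹ * b * g) * n) * g⁻¹ := by group
      _ = g * (n * (g⁻¹ * b * g)) * g⁻¹ := by rw [h2]
      _ = g * n * g⁻¹ * b := by group
  have hxC : (x : G) ∈ C := by
    refine ⟨x.2, ?_⟩
    refine Subgroup.mem_centralizer_iff.mpr ?_
    intro b hb
    have h2 := hxfix ⟨φ b, Subgroup.mem_map_of_mem φ hb⟩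
    have h3 : ((φ b) x : ↥N) = x := h2
    have h4 := congrArg Subtype.val h3
    rw [MulAut.conjNormal_apply] at h4
    calc b * (x : G) = b * x * b⁻¹ * b := by group
      _ = x * b := by rw [h4]
  have hCne : C ≠ ⊥ := by
    intro h
    rw [h, Subgroup.mem_bot] at hxC
    exact hx1 (Subtype.ext hxC).symm
  have hC : C = N := hmin C inf_le_left hCn hCne
  intro b hb x hx
  have hx' : x ∈ C := hC ▸ hx
  exact Subgroup.mem_centralizer_iff.mp hx'.2 b hb

/-- (U1) -/
theorem exists_normal_card_prime_of_resid_centralizes {q : ℕ} [Fact q.Prime] (Q : Subgroup G)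
    [Q.Normal] (hQ : IsPGroup q Q) (hne : Q ≠ ⊥)
    (hB : ∀ b ∈ resid q G, (orderOf b).Coprime q → ∀ x ∈ Q, b * x = x * b) :
    ∃ N : Subgroup G, N ≤ Q ∧ N.Normal ∧ Nat.card N = q := by
  classical
  have hq : q.Prime := Fact.out
  obtain ⟨W, hWQ, hWn, hWne, hWc, hWe⟩ := exists_central_elementary Q hQ hne
  have hex : ∃ n : ℕ, ∃ N : Subgroup G, N ≤ W ∧ N.Normal ∧ N ≠ ⊥ ∧ Nat.card N = n :=
    ⟨_, W, le_rfl, hWn, hWne, rfl⟩
  obtain ⟨N, hNW, hNn, hNne, hNcard⟩ := Nat.find_spec hex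
  have hmin : ∀ M : Subgroup G, M ≤ N → M.Normal → M ≠ ⊥ → M = N := by
    intro M hMN hMn hMne
    have h1 : Nat.find hex ≤ Nat.card M :=
      Nat.find_min' hex ⟨M, hMN.trans hNW, hMn, hMne, rfl⟩
    rw [← hNcard] at h1
    exact Subgroup.eq_of_le_of_card_ge hMN h1
  have := hNn
  have hNQ : N ≤ Q := hNW.trans hWQ
  have hcent := resid_centralizes_of_minimal Q hQ hB N hNQ hNne hmin
  have hab : ∀ x ∈ N, ∀ y ∈ N, x * y = y * x := fun x hx y hy => hWc x (hNW hx) y (hNQ hy)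
  have hexp : ∀ x ∈ N, x ^ q = 1 := fun x hx => hWe x (hNW hx)
  have hpow : ∀ g : G, ∃ m : ℕ, ∀ x ∈ N, g * x * g⁻¹ = x ^ m := by
    intro g
    obtain ⟨m, x₀, hx₀N, hx₀1, hx₀⟩ := exists_conj_eq_pow N hNne hab hexp g
      (fun x hx => hNn.conj_mem x hx g)
      (fun x hx => hcent _ (pow_pred_mem_resid g) x hx)
    refine ⟨m, ?_⟩
    let E : Subgroup G :=
      { carrier := {x | x ∈ N ∧ g * x * g⁻¹ = x ^ m}
        one_mem' := ⟨N.one_mem, by simp⟩
        mul_mem' := by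
          rintro a b ⟨ha, hae⟩ ⟨hb, hbe⟩
          refine ⟨N.mul_mem ha hb, ?_⟩
          have hcomm : Commute a b := hab a ha b hb
          rw [hcomm.mul_pow, ← hae, ← hbe]; group
        inv_mem' := by
          rintro a ⟨ha, hae⟩
          refine ⟨N.inv_mem ha, ?_⟩
          rw [inv_pow, ← hae]; group }
    have hEN : E ≤ N := fun x hx => hx.1
    have hEn : E.Normal := by
      constructor
      intro x hx k
      obtain ⟨hxN, hxe⟩ := hx
      refine ⟨hNn.conj_mem x hxN k, ?_⟩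
      have hd : g * k * g⁻¹ * k⁻¹ ∈ resid q G := commutator_mem_resid g k
      have hkx : k * x ^ m * k⁻¹ ∈ N := hNn.conj_mem _ (N.pow_mem hxN m) k
      have hdc := hcent _ hd _ hkx
      rw [conj_pow]
      calc g * (k * x * k⁻¹) * g⁻¹
          = (g * k * g⁻¹ * k⁻¹) * (k * (g * x * g⁻¹) * k⁻¹) * (g * k * g⁻¹ * k⁻¹)⁻¹ := by group
        _ = (g * k * g⁻¹ * k⁻¹) * (k * x ^ m * k⁻¹) * (g * k * g⁻¹ * k⁻¹)⁻¹ := by rw [hxe]
        _ = (k * x ^ m * k⁻¹) * (g * k * g⁻¹ * k⁻¹) * (g * k * g⁻¹ * k⁻¹)⁻¹ := by rw [hdc]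
        _ = k * x ^ m * k⁻¹ := by group
    have hEne : E ≠ ⊥ := by
      intro h
      have h1 : x₀ ∈ E := ⟨hx₀N, hx₀⟩
      rw [h, Subgroup.mem_bot] at h1
      exact hx₀1 h1
    have hE : E = N := hmin E hEN hEn hEne
    intro x hx
    have hx' : x ∈ E := hE ▸ hx
    exact hx'.2
  obtain ⟨⟨x₀, hx₀N⟩, hx₀1⟩ := (Subgroup.ne_bot_iff_exists_ne_one).mp hNne
  have hx₀1' : x₀ ≠ 1 := fun h => hx₀1 (Subtype.ext h)
  refine ⟨Subgroup.zpowers x₀, ?_, ?_, ?_⟩
  · rw [Subgroup.zpowers_le]; exact hNQ hx₀N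
  · constructor
    intro z hz g
    obtain ⟨m, hm⟩ := hpow g
    have hzN : z ∈ N := (Subgroup.zpowers_le.mpr hx₀N) hz
    rw [hm z hzN]
    exact Subgroup.pow_mem _ hz m
  · rw [Nat.card_zpowers]
    exact orderOf_eq_prime (hexp x₀ hx₀N) hx₀1'

end Cfsg.Agent.Helper53.HS
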