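import Mathlib

set_option autoImplicit false

namespace Cfsg.Agent.Helper53

variable {G : Type*} [Group G]

/-- `|K| = |H ∩ K| · |K : H ∩ K|` -/
lemma card_eq_card_inf_mul_relIndex (H K : Subgroup G) :
    Nat.card ↥K = Nat.card ↥(H ⊓ K) * H.relIndex K := by
  rw [← Subgroup.inf_relIndex_right, Subgroup.relIndex,
    ← Subgroup.card_mul_index ((H ⊓ K).subgroupOf K)]
  congr 1
  exact (Nat.card_congr (Subgroup.subgroupOfEquivOfLe (inf_le_right : H ⊓ K ≤ K)).toEquiv)

/-- if `G = K H` then `|K : H ∩ K| = |G : H|` -/
lemma relIndex_eq_index_of_prod (H K : Subgroup G)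
    (h : ∀ g : G, ∃ k ∈ K, ∃ x ∈ H, g = k * x) : H.relIndex K = H.index := by
  rw [Subgroup.relIndex, Subgroup.index, Subgroup.index]
  let f : ↥K ⧸ H.subgroupOf K → G ⧸ H :=
    Quotient.map' (fun k : ↥K => (k : G)) (by
      intro a b hab
      rw [QuotientGroup.leftRel_apply] at hab ⊢
      rw [Subgroup.mem_subgroupOf] at hab
      simpa using hab)
  have hf : Function.Bijective f := by
    constructor
    · intro a b
      induction a using Quotient.inductionOn' with | _ a => ?_
      induction b using Quotient.inductionOn' with | _ b => ?_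
      intro hab
      simp only [f, Quotient.map'_mk''] at hab
      rw [Quotient.eq''] at hab ⊢
      rw [QuotientGroup.leftRel_apply] at hab ⊢
      rw [Subgroup.mem_subgroupOf]
      simpa using hab
    · intro q
      induction q using Quotient.inductionOn' with | _ g => ?_
      obtain ⟨k, hk, x, hx, rfl⟩ := h g
      refine ⟨Quotient.mk'' ⟨k, hk⟩, ?_⟩
      simp only [f, Quotient.map'_mk'']
      rw [Quotient.eq'', QuotientGroup.leftRel_apply]
      simpa using hx
  exact Nat.card_congr (Equiv.ofBijective f hf)

end Cfsg.Agent.Helper53
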