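import Mathlib

set_option autoImplicit false

namespace Cfsg.Agent.Helper53

variable {G : Type*} [Group G]

/-- Squares of elements of `K` lie in a subgroup of relative index two. -/
lemma sq_mem_of_relIndex_two {H K : Subgroup G} (h : H.relIndex K = 2) {w : G} (hw : w ∈ K) :
    w ^ 2 ∈ H := by
  have h1 := Subgroup.sq_mem_of_index_two h (⟨w, hw⟩ : ↥K)
  rw [Subgroup.mem_subgroupOf] at h1
  exact h1

lemma mul_mem_iff_of_relIndex_two {H K : Subgroup G} (h : H.relIndex K = 2) {x y : G}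
    (hx : x ∈ K) (hy : y ∈ K) : x * y ∈ H ↔ (x ∈ H ↔ y ∈ H) := by
  have h1 := Subgroup.mul_mem_iff_of_index_two h (a := (⟨x, hx⟩ : ↥K)) (b := (⟨y, hy⟩ : ↥K))
  rw [Subgroup.mem_subgroupOf, Subgroup.mem_subgroupOf, Subgroup.mem_subgroupOf] at h1
  exact h1

/-- The involution of a cyclic group of order `2 ^ (m + 1)` is unique. -/
lemma eq_pow_of_sq_eq_one_of_mem_zpowers {a : G} {m : ℕ} (hao : orderOf a = 2 ^ (m + 1))
    {y : G} (hy : y ∈ Subgroup.zpowers a) (hy2 : y ^ 2 = 1) (hy1 : y ≠ 1) : y = a ^ (2 ^ m) := by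
  obtain ⟨i, rfl⟩ := Subgroup.mem_zpowers_iff.mp hy
  have h1 : a ^ (i * 2) = 1 := by rw [zpow_mul]; exact_mod_cast hy2
  rw [← orderOf_dvd_iff_zpow_eq_one, hao] at h1
  have h2 : ((2 : ℤ) ^ m) ∣ i := by
    have : ((2 ^ (m + 1) : ℕ) : ℤ) = 2 ^ m * 2 := by push_cast; ring
    rw [this] at h1
    exact (mul_dvd_mul_iff_right (by norm_num : (2 : ℤ) ≠ 0)).mp h1
  obtain ⟨j, rfl⟩ := h2
  have hz2 : (a ^ (2 ^ m)) ^ 2 = 1 := by
    rw [← pow_mul, ← pow_succ, ← hao]; exact pow_orderOf_eq_one a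
  have e : a ^ ((2 : ℤ) ^ m * j) = (a ^ (2 ^ m)) ^ j := by
    rw [zpow_mul]; congr 1; exact_mod_cast zpow_natCast a (2 ^ m)
  rw [e] at hy1 ⊢
  rcases Int.even_or_odd j with ⟨t, ht⟩ | ⟨t, ht⟩
  · exfalso; apply hy1
    rw [ht, ← two_mul, zpow_mul, zpow_ofNat, hz2, one_zpow]
  · rw [ht, zpow_add, zpow_mul, zpow_ofNat, hz2, one_zpow, one_mul, zpow_one]

end Cfsg.Agent.Helper53
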