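import Mathlib
import Cfsg.Prelude.Def_Transfer

/-!
Helper53 for helper78 (S4931), piece (BURN): Burnside's transfer theorem inside a subgroup `R` containing the Sylow subgroup.
-/

set_option autoImplicit false

namespace Cfsg.Agent.Helper53.NC

open Cfsg

universe u

variable {G : Type u} [Group G] [Fintype G]

/-- (BURN) Burnside's transfer theorem inside the normal subgroup `R`. -/
theorem hasNormalPComplement_of_abelian_selfNormalizing (p : ℕ) [Fact p.Prime] (R : Subgroup G)
    (P : Sylow p G) (hPR : (P : Subgroup G) ≤ R)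
    (hab : ∀ a ∈ (P : Subgroup G), ∀ b ∈ (P : Subgroup G), a * b = b * a)
    (hself : ∀ r ∈ R, r ∈ Subgroup.normalizer ((P : Subgroup G) : Set G) → r ∈ (P : Subgroup G)) :
    HasNormalPComplement p ↥R := by
  classical
  set PR : Sylow p ↥R := P.subtype hPR with hPRd
  have hmem : ∀ x : ↥R, x ∈ (PR : Subgroup ↥R) ↔ (x : G) ∈ (P : Subgroup G) := by
    intro x
    rw [hPRd, Sylow.coe_subtype, Subgroup.mem_subgroupOf]
  have hnc : Subgroup.normalizer ((PR : Subgroup ↥R) : Set ↥R) ≤
      Subgroup.centralizer ((PR : Subgroup ↥R) : Set ↥R) := by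
    intro x hx
    have hxN : (x : G) ∈ Subgroup.normalizer ((P : Subgroup G) : Set G) := by
      rw [Subgroup.mem_normalizer_iff]
      intro g
      rw [Subgroup.mem_normalizer_iff] at hx
      constructor
      · intro hg
        have := (hx ⟨g, hPR hg⟩).mp ((hmem _).mpr hg)
        exact (hmem _).mp this
      · intro hg
        have hgR : g ∈ R := by
          have h1 : (x : G) * g * (x : G)⁻¹ ∈ R := hPR hg
          have h2 : g = (x : G)⁻¹ * ((x : G) * g * (x : G)⁻¹) * (x : G) := by group
          rw [h2]
          exact mul_mem (mul_mem (inv_mem x.2) h1) x.2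
        have := (hx ⟨g, hgR⟩).mpr ((hmem _).mpr hg)
        exact (hmem _).mp this
    have hxP : (x : G) ∈ (P : Subgroup G) := hself x x.2 hxN
    rw [Subgroup.mem_centralizer_iff]
    intro y hy
    have hyP : (y : G) ∈ (P : Subgroup G) := (hmem y).mp hy
    apply Subtype.ext
    exact hab _ hyP _ hxP
  have hc := MonoidHom.ker_transferSylow_isComplement' PR hnc
  exact ⟨PR, (MonoidHom.transferSylow PR hnc).ker, inferInstance, hc⟩

end Cfsg.Agent.Helper53.NC
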