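import Mathlib
import Cfsg.Prelude.Def_Solvable
import Cfsg.Agent.Lib.Cores
import Cfsg.Agent.Helper21.Fitting

set_option autoImplicit false

namespace Cfsg.Agent.Helper53

open Cfsg Cfsg.Agent.Lib

/-- In a finite solvable group with `O_2(G) = 1`, every involution fails to centralize
`O_r(G)` for some odd prime `r`. -/
theorem exists_pCore_not_commute {G : Type*} [Group G] [Finite G] [hsol : Group.IsSolvable G]
    (hO2 : Cfsg.pCore 2 G = ⊥) (t : G) (ht : t ≠ 1) (ht2 : t ^ 2 = 1) :
    ∃ r : ℕ, r.Prime ∧ r ≠ 2 ∧ ∃ y ∈ Cfsg.pCore r G, t * y ≠ y * t := by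
  by_contra hcon
  push Not at hcon
  have hFc : (Cfsg.fittingSubgroup G).Characteristic := fittingSubgroup_characteristic
  have hFn : (Cfsg.fittingSubgroup G).Normal := inferInstance
  -- every `O_r(G)` lies in `C_G(t)`
  have hle : ∀ r : ℕ, r.Prime → Cfsg.pCore r G ≤ Subgroup.centralizer ({t} : Set G) := by
    intro r hr y hy
    rw [Subgroup.mem_centralizer_iff]
    intro h hh
    rw [Set.mem_singleton_iff] at hh
    subst hh
    by_cases h2 : r = 2
    · subst h2
      rw [hO2, Subgroup.mem_bot] at hy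
      subst hy
      rw [mul_one, one_mul]
    · exact hcon r hr h2 y hy
  have hrel : (Subgroup.centralizer ({t} : Set G)).relIndex (Cfsg.fittingSubgroup G) = 1 := by
    rw [Nat.eq_one_iff_not_exists_prime_dvd]
    intro r hr hdvd
    have : Fact r.Prime := ⟨hr⟩
    have h1 := Subgroup.relIndex_dvd_of_le_left (Cfsg.fittingSubgroup G) (hle r hr)
    have h2 := relIndex_pCore_fittingSubgroup_coprime (G := G) r
    have h3 : r ∣ (Cfsg.pCore r G).relIndex (Cfsg.fittingSubgroup G) := hdvd.trans h1
    exact (Nat.Prime.coprime_iff_not_dvd hr).mp h2.symm h3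
  rw [Subgroup.relIndex_eq_one] at hrel
  -- `t` centralizes `F(G)`
  have htC : t ∈ Subgroup.centralizer (Cfsg.fittingSubgroup G : Set G) := by
    rw [Subgroup.mem_centralizer_iff]
    intro f hf
    have := Subgroup.mem_centralizer_iff.mp (hrel hf) t (Set.mem_singleton t)
    exact this.symm
  have hAs : Group.IsSolvable ↥(Subgroup.centralizer (Cfsg.fittingSubgroup G : Set G)) :=
    inferInstance
  have hAF := Cfsg.Agent.Helper21.le_fittingSubgroup_of_isSolvable_of_le_centralizer
    (Nat.card ↥(Subgroup.centralizer (Cfsg.fittingSubgroup G : Set G)))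
    (Subgroup.centralizer (Cfsg.fittingSubgroup G : Set G)) le_rfl inferInstance hAs le_rfl
  have htF : t ∈ Cfsg.fittingSubgroup G := hAF htC
  -- `F(G)` has odd order
  have : Fact (Nat.Prime 2) := ⟨Nat.prime_two⟩
  have hodd := relIndex_pCore_fittingSubgroup_coprime (G := G) 2
  rw [hO2, Subgroup.relIndex_bot_left] at hodd
  have h1 : (⟨t, htF⟩ : Cfsg.fittingSubgroup G) ^ Nat.card (Cfsg.fittingSubgroup G) = 1 :=
    pow_card_eq_one'
  have h2 : t ^ Nat.card (Cfsg.fittingSubgroup G) = 1 := by
    have := congrArg Subtype.val h1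
    rw [Subgroup.coe_pow] at this
    exact this
  have ho : orderOf t = 2 := orderOf_eq_prime ht2 ht
  have h3 : 2 ∣ Nat.card (Cfsg.fittingSubgroup G) := by
    rw [← ho]; exact orderOf_dvd_of_pow_eq_one h2
  exact (Nat.Prime.coprime_iff_not_dvd Nat.prime_two).mp hodd.symm h3

end Cfsg.Agent.Helper53
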