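import Mathlib
import Cfsg.Agent.Helper17.VTrick

set_option autoImplicit false

/-!
A group of order 120 cannot have a Sylow 5-subgroup `P` with `N(P) ≤ C(P)` and `3 ∤ |C(P)|`
(Burnside's normal 5-complement `K` of order 24 would have to contain 20 elements of order three
and a subgroup of order eight).
-/

namespace Cfsg.Agent.Helper53

open Subgroup MulAction

theorem key_n3_40 : ∀ n ∈ Nat.divisors 40, n % 3 = 1 → n = 1 ∨ n = 4 ∨ n = 10 ∨ n = 40 := by
  decide

theorem no_order120 {M : Type*} [Group M] [Finite M] (hM : Nat.card M = 120)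
    [Fact (Nat.Prime 5)] [Fact (Nat.Prime 3)] [Fact (Nat.Prime 2)]
    (P : Sylow 5 M)
    (hNC : normalizer ((P : Subgroup M) : Set M) ≤ centralizer ((P : Subgroup M) : Set M))
    (h3 : ¬ 3 ∣ Nat.card (centralizer ((P : Subgroup M) : Set M))) : False := by
  classical
  have hP : Nat.card (P : Subgroup M) = 5 := by
    have := Cfsg.Agent.Helper17.card_sylow_subgroup_of_card_eq (p := 5) (k := 1) (m := 24)
      (by rw [hM]; norm_num) (by norm_num) P
    simpa using this
  -- Burnside complement
  have hc := MonoidHom.ker_transferSylow_isComplement' P hNC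
  set f := MonoidHom.transferSylow P hNC with hf
  have hK : Nat.card f.ker = 24 := by
    have := hc.card_mul_card
    rw [hP, hM] at this
    omega
  -- elements of order three
  have hQ : ∀ Q : Sylow 3 M, Nat.card (Q : Subgroup M) = 3 := by
    intro Q
    have := Cfsg.Agent.Helper17.card_sylow_subgroup_of_card_eq (p := 3) (k := 1) (m := 40)
      (by rw [hM]; norm_num) (by norm_num) Q
    simpa using this
  have hY := Cfsg.Agent.Helper17.card_orderOf_eq_prime (G := M) (p := 3) hQ
  have hn1 : Nat.card (Sylow 3 M) ∣ 40 :=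
    Cfsg.Agent.Helper17.card_sylow_dvd_of_card_eq (p := 3) (k := 1) (m := 40) (by rw [hM]; norm_num)
      (by norm_num)
  have hn2 : Nat.card (Sylow 3 M) ≡ 1 [MOD 3] := card_sylow_modEq_one 3 M
  -- P acts on the elements of order three without fixed points
  let act : MulAction ↥(P : Subgroup M) {y : M // orderOf y = 3} :=
    { smul := fun u y => ⟨(u : M) * y.1 * (u : M)⁻¹, by
        have : orderOf ((u : M) * y.1 * (u : M)⁻¹) = orderOf y.1 := by
          have := (MulAut.conj (u : M)).orderOf_eq y.1
          simpa [MulAut.conj_apply] using this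
        rw [this]; exact y.2⟩
      one_smul := fun y => Subtype.ext (by
        change ((1 : (P : Subgroup M)) : M) * y.1 * ((1 : (P : Subgroup M)) : M)⁻¹ = y.1
        simp)
      mul_smul := fun u v y => Subtype.ext (by
        change ((u * v : (P : Subgroup M)) : M) * y.1 * ((u * v : (P : Subgroup M)) : M)⁻¹
          = (u : M) * ((v : M) * y.1 * (v : M)⁻¹) * (u : M)⁻¹
        simp [mul_assoc]) }
  have hsmul : ∀ (u : (P : Subgroup M)) (y : {y : M // orderOf y = 3}),
      ((u • y : {y : M // orderOf y = 3}) : M) = (u : M) * y.1 * (u : M)⁻¹ := fun _ _ => rfl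
  have hmod := (P.2 : IsPGroup 5 (P : Subgroup M)).card_modEq_card_fixedPoints
    {y : M // orderOf y = 3}
  have hfp : Nat.card (fixedPoints (P : Subgroup M) {y : M // orderOf y = 3}) = 0 := by
    rw [Nat.card_eq_zero]
    left
    refine ⟨fun ⟨y, hy⟩ => ?_⟩
    apply h3
    have hyC : y.1 ∈ centralizer ((P : Subgroup M) : Set M) := by
      rw [mem_centralizer_iff]
      intro u hu
      have := congrArg Subtype.val (hy ⟨u, hu⟩)
      rw [hsmul] at this
      simp only at this
      calc u * y.1 = u * y.1 * u⁻¹ * u := by group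
        _ = y.1 * u := by rw [this]
    have := Subgroup.orderOf_dvd_natCard (centralizer ((P : Subgroup M) : Set M)) hyC
    rwa [y.2] at this
  rw [hfp] at hmod
  -- the set of order three elements lies in the kernel
  have hYK : ∀ y : M, orderOf y = 3 → y ∈ f.ker := by
    intro y hy
    rw [MonoidHom.mem_ker]
    have h1 : (f y) ^ 3 = 1 := by rw [← map_pow, ← hy, pow_orderOf_eq_one, map_one]
    have h2 : (f y) ^ 5 = 1 := by
      have := pow_card_eq_one' (G := (P : Subgroup M)) (x := f y)
      rwa [hP] at this
    have : f y = (f y) ^ 1 := (pow_one _).symm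
    rw [this, show (1 : ℕ) = Nat.gcd 3 5 from by norm_num]
    exact pow_gcd_eq_one.mpr ⟨h1, h2⟩
  -- a subgroup of order eight in the kernel
  obtain ⟨T₁, hT₁⟩ := Sylow.exists_subgroup_card_pow_prime (G := f.ker) 2 (n := 3)
    (by rw [hK]; norm_num)
  set T : Subgroup M := T₁.map f.ker.subtype with hT
  have hT8 : Nat.card T = 8 := by
    rw [hT, Subgroup.card_map_of_injective (Subgroup.subtype_injective _), hT₁]; norm_num
  have hTK : T ≤ f.ker := by
    rw [hT]
    rintro _ ⟨x, -, rfl⟩
    exact x.2
  have hdisj : Disjoint {y : M | orderOf y = 3} (T : Set M) := by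
    rw [Set.disjoint_left]
    intro y hy hyT
    have := Subgroup.orderOf_dvd_natCard T hyT
    rw [hT8, show orderOf y = 3 from hy] at this
    norm_num at this
  have hunion : {y : M | orderOf y = 3} ∪ (T : Set M) ⊆ (f.ker : Set M) := by
    intro y hy
    rcases hy with hy | hy
    · exact hYK y hy
    · exact hTK hy
  have hcount := Set.ncard_le_ncard hunion (Set.toFinite _)
  rw [Set.ncard_union_eq hdisj (Set.toFinite _) (Set.toFinite _)] at hcount
  have e1 : ({y : M | orderOf y = 3}).ncard = Nat.card {y : M // orderOf y = 3} :=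
    (Nat.card_coe_set_eq _).symm
  have e2 : ((T : Set M)).ncard = 8 := by rw [← Nat.card_coe_set_eq]; exact hT8
  have e3 : ((f.ker : Set M)).ncard = 24 := by rw [← Nat.card_coe_set_eq]; exact hK
  rw [e1, e2, e3, hY] at hcount
  rw [hY] at hmod
  rcases key_n3_40 _ (Nat.mem_divisors.mpr ⟨hn1, by norm_num⟩) hn2 with h | h | h | h <;>
    rw [h] at hcount hmod <;> (unfold Nat.ModEq at hmod; omega)

end Cfsg.Agent.Helper53
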