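import Cfsg.Agent.Helper86.PG63.Defs
import Cfsg.Agent.Helper8.G24S

/-!
Helper53 for helper86 (S3664), piece (G): the prime graph of `V ⋊ P` for `V` of exponent `2`.
-/

set_option autoImplicit false

namespace Cfsg.Agent.Helper53.PG63

open Cfsg Cfsg.Agent.Helper86.PG63 Cfsg.Agent.Helper6

theorem prime_dvd_87360 {p : ℕ} (hp : p.Prime) : p ∣ 87360 ↔ Vert p := by
  constructor
  · intro hd
    have h : (87360 : ℕ) = 2 ^ 6 * 3 * 5 * 7 * 13 := by norm_num
    rw [h] at hd
    unfold Vert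
    rcases (Nat.Prime.dvd_mul hp).mp hd with hd | hd
    · rcases (Nat.Prime.dvd_mul hp).mp hd with hd | hd
      · rcases (Nat.Prime.dvd_mul hp).mp hd with hd | hd
        · rcases (Nat.Prime.dvd_mul hp).mp hd with hd | hd
          · left
            exact (Nat.prime_dvd_prime_iff_eq hp Nat.prime_two).mp (hp.dvd_of_dvd_pow hd)
          · right; left
            exact (Nat.prime_dvd_prime_iff_eq hp Nat.prime_three).mp hd
        · right; right; left
          exact (Nat.prime_dvd_prime_iff_eq hp Nat.prime_five).mp hd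
      · right; right; right; left
        exact (Nat.prime_dvd_prime_iff_eq hp (by norm_num)).mp hd
    · right; right; right; right
      exact (Nat.prime_dvd_prime_iff_eq hp (by norm_num)).mp hd
  · rintro (rfl | rfl | rfl | rfl | rfl) <;> norm_num

section

variable {P V : Type} [Group P] [CommGroup V] (ψ : P →* MulAut V)

theorem commute_inl_inr {a : P} {u : V} (hu : ψ a u = u) :
    Commute (SemidirectProduct.inl u : V ⋊[ψ] P) (SemidirectProduct.inr a) := by
  have h := SemidirectProduct.inl_aut (φ := ψ) a u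
  rw [hu] at h
  show (SemidirectProduct.inl u : V ⋊[ψ] P) * SemidirectProduct.inr a =
    SemidirectProduct.inr a * SemidirectProduct.inl u
  calc (SemidirectProduct.inl u : V ⋊[ψ] P) * SemidirectProduct.inr a
      = (SemidirectProduct.inr a * SemidirectProduct.inl u * SemidirectProduct.inr a⁻¹) *
          SemidirectProduct.inr a := by rw [← h]
    _ = SemidirectProduct.inr a * SemidirectProduct.inl u := by rw [map_inv]; group

theorem exists_orderOf_two_mul (hV2 : ∀ u : V, u * u = 1) {a : P} {n : ℕ} (ha : orderOf a = n)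
    (hn : Nat.Coprime 2 n) {u : V} (hu1 : u ≠ 1) (hu : ψ a u = u) :
    ∃ g : V ⋊[ψ] P, orderOf g = 2 * n := by
  refine ⟨SemidirectProduct.inl u * SemidirectProduct.inr a, ?_⟩
  have h2 : orderOf (SemidirectProduct.inl u : V ⋊[ψ] P) = 2 := by
    rw [orderOf_injective (SemidirectProduct.inl : V →* V ⋊[ψ] P) SemidirectProduct.inl_injective u]
    exact orderOf_eq_prime (by rw [pow_two]; exact hV2 u) hu1
  have hn' : orderOf (SemidirectProduct.inr a : V ⋊[ψ] P) = n := by
    rw [orderOf_injective (SemidirectProduct.inr : P →* V ⋊[ψ] P) SemidirectProduct.inr_injective a]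
    exact ha
  rw [(commute_inl_inr ψ hu).orderOf_mul_eq_mul_orderOf_of_coprime (by rw [h2, hn']; exact hn), h2, hn']

end

/-- (G) the prime graph of `V ⋊ P` for `V` of exponent `2` -/
theorem hasGraph_semidirect {P V : Type} [Group P] [Finite P] [CommGroup V] [Finite V]
    (ψ : P →* MulAut V) (hV2 : ∀ u : V, u * u = 1) (hV : ∃ k : ℕ, 0 < k ∧ Nat.card V = 2 ^ k)
    (hP : Nat.card P = 87360)
    (h6 : ∃ a : P, orderOf a = 6) (h15 : ∃ a : P, orderOf a = 15)
    (h5 : ∃ a : P, orderOf a = 5 ∧ ∃ u : V, u ≠ 1 ∧ ψ a u = u)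
    (h7 : ∃ a : P, orderOf a = 7 ∧ ∃ u : V, u ≠ 1 ∧ ψ a u = u)
    (h13 : ∀ a : P, orderOf a = 13 → ∀ u : V, ψ a u = u → u = 1)
    (hno : NoBad P) : HasGraph (V ⋊[ψ] P) := by
  obtain ⟨k, hk, hVk⟩ := hV
  have hfin : Finite (V ⋊[ψ] P) := Finite.of_equiv _ (SemidirectProduct.equivProd (φ := ψ)).symm
  have hcard : Nat.card (V ⋊[ψ] P) = 2 ^ k * 87360 := by
    rw [Nat.card_congr (SemidirectProduct.equivProd (φ := ψ)), Nat.card_prod, hVk, hP]
  -- no bad orders
  have hnoG : NoBad (V ⋊[ψ] P) := by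
    intro g
    have hno' := hno g.right
    rcases Cfsg.Agent.Helper8.G24.orderOf_semidirect ψ hV2 g with h | h
    · rw [h]; exact hno'
    · refine ⟨by omega, by omega, ?_, by omega, by omega, by omega⟩
      intro h26
      have h13r : orderOf g.right = 13 := by omega
      have h1 := Cfsg.Agent.Helper8.G24.pow_eq_one_of_fpf ψ g 13
        (by rw [← h13r]; exact pow_orderOf_eq_one _) (h13 _ h13r)
      have h2 : orderOf g ∣ 13 := orderOf_dvd_of_pow_eq_one h1
      rw [h26] at h2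
      norm_num at h2
  -- the four edges
  obtain ⟨a6, ha6⟩ := h6
  obtain ⟨a15, ha15⟩ := h15
  obtain ⟨a5, ha5, u5, hu5, hf5⟩ := h5
  obtain ⟨a7, ha7, u7, hu7, hf7⟩ := h7
  have g6 : ∃ g : V ⋊[ψ] P, orderOf g = 6 := ⟨SemidirectProduct.inr a6, by
    rw [orderOf_injective (SemidirectProduct.inr : P →* V ⋊[ψ] P) SemidirectProduct.inr_injective a6]
    exact ha6⟩
  have g15 : ∃ g : V ⋊[ψ] P, orderOf g = 15 := ⟨SemidirectProduct.inr a15, by
    rw [orderOf_injective (SemidirectProduct.inr : P →* V ⋊[ψ] P) SemidirectProduct.inr_injective a15]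
    exact ha15⟩
  have g10 : ∃ g : V ⋊[ψ] P, orderOf g = 10 :=
    exists_orderOf_two_mul ψ hV2 ha5 (by norm_num) hu5 hf5
  have g14 : ∃ g : V ⋊[ψ] P, orderOf g = 14 :=
    exists_orderOf_two_mul ψ hV2 ha7 (by norm_num) hu7 hf7
  have hvert : ∀ p : ℕ, p.Prime → (p ∣ Nat.card (V ⋊[ψ] P) ↔ Vert p) := by
    intro p hp
    rw [hcard]
    constructor
    · intro hd
      rcases (Nat.Prime.dvd_mul hp).mp hd with hd | hd
      · left
        exact (Nat.prime_dvd_prime_iff_eq hp Nat.prime_two).mp (hp.dvd_of_dvd_pow hd)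
      · exact (prime_dvd_87360 hp).mp hd
    · intro hv
      exact Dvd.dvd.mul_left ((prime_dvd_87360 hp).mpr hv) _
  refine ⟨hvert, ?_⟩
  intro p q hp hq hpq
  constructor
  · rintro ⟨g, hg⟩
    have hpd : p ∣ Nat.card (V ⋊[ψ] P) :=
      dvd_trans (Dvd.intro _ hg.symm) (orderOf_dvd_natCard g)
    have hqd : q ∣ Nat.card (V ⋊[ψ] P) :=
      dvd_trans (Dvd.intro_left _ hg.symm) (orderOf_dvd_natCard g)
    have hp' := (hvert p hp).mp hpd
    have hq' := (hvert q hq).mp hqd
    have hb := hnoG g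
    unfold Vert at hp' hq'
    unfold Edge
    rcases hp' with rfl | rfl | rfl | rfl | rfl <;> rcases hq' with rfl | rfl | rfl | rfl | rfl <;>
      first
        | exact absurd rfl hpq
        | omega
  · unfold Edge
    rintro (⟨rfl, rfl⟩ | ⟨rfl, rfl⟩ | ⟨rfl, rfl⟩ | ⟨rfl, rfl⟩ | ⟨rfl, rfl⟩ | ⟨rfl, rfl⟩ | ⟨rfl, rfl⟩ | ⟨rfl, rfl⟩)
    · exact g6
    · exact g6
    · exact g10
    · exact g10
    · exact g15
    · exact g15
    · exact g14
    · exact g14

end Cfsg.Agent.Helper53.PG63
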