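import Mathlib
import Cfsg.Agent.Helper99.PGDefs
import Cfsg.Agent.Helper99.BCDefs
import Cfsg.Agent.Helper93.BCLA1
import Cfsg.Agent.Helper93.BCLA2
import Cfsg.Agent.Helper87.BCLA3

/-!
# S2474 (helper99's architecture): the twisted form `T(x,y) = B(x, (A - A⁻¹) y)` on `movS A r`

Common lemmas for the transfer pieces (AU2), (AP1): for an isometry `A` of a bilinear form `B` with
`A ^ r = 1`, `r` odd and invertible in `F`: `fixS A ⟂ movS A r`, `B` is non-degenerate on both,
the twisted form is (anti)symmetric, invariant under the isometries commuting with `A`, and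
non-degenerate on `movS A r`; restriction of endomorphisms to `movS A r` and their orders.
-/

set_option autoImplicit false

namespace Cfsg.Agent.Helper53.PG

open Module Cfsg.Agent.Helper99.BC Cfsg.Agent.Helper99.PG Cfsg.Agent.Helper93.BC

universe u

variable {F : Type u} [Field F] {V : Type u} [AddCommGroup V] [Module F V]

section ortho

variable (B : LinearMap.BilinForm F V) (A : Module.End F V)

theorem bilin_pow_of_iso (hiso : ∀ x y, B (A x) (A y) = B x y) (i : ℕ) (x y : V) :
    B ((A ^ i) x) ((A ^ i) y) = B x y := by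
  induction i generalizing x y with
  | zero => rw [pow_zero, Module.End.one_apply, Module.End.one_apply]
  | succ i ih =>
    rw [pow_succ', Module.End.mul_apply, Module.End.mul_apply, hiso, ih]

/-- the fixed space is orthogonal to the moving space -/
theorem bilin_fix_mov (r : ℕ) (hr : (r : F) ≠ 0)
    (hiso : ∀ x y, B (A x) (A y) = B x y) {x y : V}
    (hx : x ∈ fixS A) (hy : y ∈ movS A r) : B x y = 0 := by
  have h1 : ∀ i ∈ Finset.range r, B x ((A ^ i) y) = B x y := by
    intro i _
    conv_lhs => rw [← pow_apply_of_mem_fixS hx i]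
    exact bilin_pow_of_iso B A hiso i x y
  have h2 : B x (∑ i ∈ Finset.range r, (A ^ i) y) = ∑ i ∈ Finset.range r, B x ((A ^ i) y) := by
    rw [map_sum]
  rw [mem_movS.1 hy, map_zero, Finset.sum_congr rfl h1, Finset.sum_const, Finset.card_range,
    nsmul_eq_mul] at h2
  rcases mul_eq_zero.1 h2.symm with h | h
  · exact absurd h hr
  · exact h

/-- the moving space is orthogonal to the fixed space -/
theorem bilin_mov_fix (r : ℕ) (hr : (r : F) ≠ 0)
    (hiso : ∀ x y, B (A x) (A y) = B x y) {x y : V}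
    (hx : x ∈ fixS A) (hy : y ∈ movS A r) : B y x = 0 := by
  have h1 : ∀ i ∈ Finset.range r, B ((A ^ i) y) x = B y x := by
    intro i _
    conv_lhs => rw [← pow_apply_of_mem_fixS hx i]
    exact bilin_pow_of_iso B A hiso i y x
  have h2 : B (∑ i ∈ Finset.range r, (A ^ i) y) x = ∑ i ∈ Finset.range r, B ((A ^ i) y) x := by
    rw [map_sum, LinearMap.sum_apply]
  rw [mem_movS.1 hy, map_zero, LinearMap.zero_apply, Finset.sum_congr rfl h1, Finset.sum_const,
    Finset.card_range, nsmul_eq_mul] at h2
  rcases mul_eq_zero.1 h2.symm with h | h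
  · exact absurd h hr
  · exact h

/-- `B` is left non-degenerate on the moving space -/
theorem nondeg_on_movS (r : ℕ) (hr : (r : F) ≠ 0) (hA : A ^ r = 1)
    (hiso : ∀ x y, B (A x) (A y) = B x y) (hnd : ∀ x, (∀ y, B x y = 0) → x = 0) :
    ∀ x ∈ movS A r, (∀ y ∈ movS A r, B x y = 0) → x = 0 := by
  intro x hx hxy
  apply hnd x
  intro y
  have hc := isCompl_fixS_movS A r hr hA
  have hy : y ∈ fixS A ⊔ movS A r := by
    rw [hc.sup_eq_top]; exact Submodule.mem_top
  obtain ⟨y1, hy1, y2, hy2, rfl⟩ := Submodule.mem_sup.mp hy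
  rw [map_add, hxy y2 hy2, bilin_mov_fix B A r hr hiso hy1 hx, add_zero]

/-- `B` is left non-degenerate on the fixed space -/
theorem nondeg_on_fixS' (r : ℕ) (hr : (r : F) ≠ 0) (hA : A ^ r = 1)
    (hiso : ∀ x y, B (A x) (A y) = B x y) (hnd : ∀ x, (∀ y, B x y = 0) → x = 0) :
    ∀ x ∈ fixS A, (∀ y ∈ fixS A, B x y = 0) → x = 0 := by
  intro x hx hxy
  apply hnd x
  intro y
  have hc := isCompl_fixS_movS A r hr hA
  have hy : y ∈ fixS A ⊔ movS A r := by
    rw [hc.sup_eq_top]; exact Submodule.mem_top
  obtain ⟨y1, hy1, y2, hy2, rfl⟩ := Submodule.mem_sup.mp hy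
  rw [map_add, hxy y1 hy1, bilin_fix_mov B A r hr hiso hx hy2, add_zero]

end ortho

section twist

variable (B : LinearMap.BilinForm F V) (A : Module.End F V) (r : ℕ)

/-- the twisted form `T(x,y) = B(x, (A - A^(r-1)) y)` -/
def twist : LinearMap.BilinForm F V := B.compl₁₂ LinearMap.id (A - A ^ (r - 1))

theorem twist_apply (x y : V) : twist B A r x y = B x (A y) - B x ((A ^ (r - 1)) y) := by
  unfold twist
  rw [LinearMap.compl₁₂_apply, LinearMap.id_apply, LinearMap.sub_apply, map_sub]

variable {A r}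

theorem pow_pred_apply (hr1 : 1 ≤ r) (hA : A ^ r = 1) (x : V) : A ((A ^ (r - 1)) x) = x := by
  rw [← Module.End.mul_apply, ← pow_succ', Nat.sub_add_cancel hr1, hA, Module.End.one_apply]

theorem pow_pred_apply' (hr1 : 1 ≤ r) (hA : A ^ r = 1) (x : V) : (A ^ (r - 1)) (A x) = x := by
  rw [← Module.End.mul_apply, ← pow_succ, Nat.sub_add_cancel hr1, hA, Module.End.one_apply]

variable {B}

theorem adj_left (hr1 : 1 ≤ r) (hA : A ^ r = 1) (hiso : ∀ x y, B (A x) (A y) = B x y) (x y : V) :
    B (A x) y = B x ((A ^ (r - 1)) y) := by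
  rw [← hiso x ((A ^ (r - 1)) y), pow_pred_apply hr1 hA]

theorem adj_right (hr1 : 1 ≤ r) (hA : A ^ r = 1) (hiso : ∀ x y, B (A x) (A y) = B x y) (x y : V) :
    B ((A ^ (r - 1)) x) y = B x (A y) := by
  rw [← hiso ((A ^ (r - 1)) x) y, pow_pred_apply hr1 hA]

/-- alternating `B`: the twisted form is symmetric -/
theorem twist_symm_of_alt (hr1 : 1 ≤ r) (hA : A ^ r = 1) (hiso : ∀ x y, B (A x) (A y) = B x y)
    (halt : B.IsAlt) (x y : V) : twist B A r x y = twist B A r y x := by
  have hskew : ∀ x y, B x y = -B y x := fun x y => (halt.neg_eq y x).symm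
  rw [twist_apply, twist_apply, ← adj_right hr1 hA hiso x y, ← adj_left hr1 hA hiso x y,
    hskew ((A ^ (r - 1)) x) y, hskew (A x) y]
  ring

/-- symmetric `B`: the twisted form is alternating -/
theorem twist_self_of_symm (hr1 : 1 ≤ r) (hA : A ^ r = 1) (hiso : ∀ x y, B (A x) (A y) = B x y)
    (hsymm : ∀ x y, B x y = B y x) (x : V) : twist B A r x x = 0 := by
  rw [twist_apply, ← adj_left hr1 hA hiso x x, hsymm (A x) x, sub_self]

/-- the twisted form is invariant under the isometries commuting with `A` -/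
theorem twist_invariant (C : Module.End F V) (hC : ∀ x y, B (C x) (C y) = B x y)
    (hCA : Commute C A) (x y : V) : twist B A r (C x) (C y) = twist B A r x y := by
  have h1 : A (C y) = C (A y) := by
    rw [← Module.End.mul_apply, ← hCA.eq, Module.End.mul_apply]
  have h2 : (A ^ (r - 1)) (C y) = C ((A ^ (r - 1)) y) := by
    rw [← Module.End.mul_apply, ← (hCA.pow_right (r - 1)).eq, Module.End.mul_apply]
  rw [twist_apply, twist_apply, h1, h2, hC, hC]

/-- for odd `r`, a vector of the moving space fixed by `A²` is zero -/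
theorem eq_zero_of_sq_fix (hodd : Odd r) (hr : (r : F) ≠ 0) (hA : A ^ r = 1) {x : V}
    (hx : x ∈ movS A r) (h2 : A (A x) = x) : x = 0 := by
  obtain ⟨k, hk⟩ := hodd
  have hpow : ∀ i : ℕ, (A ^ (2 * i)) x = x := by
    intro i
    induction i with
    | zero => simp
    | succ i ih =>
      rw [show 2 * (i + 1) = 2 * i + 1 + 1 by ring, pow_succ, pow_succ, Module.End.mul_apply,
        Module.End.mul_apply, h2, ih]
  have hfix : A x = x := by
    have h3 : (A ^ r) x = x := by rw [hA, Module.End.one_apply]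
    rw [hk, pow_succ', Module.End.mul_apply, hpow k] at h3
    exact h3
  exact Cfsg.Agent.Helper87.BC.eq_zero_of_fix_of_mem_movS A r hr hfix hx

/-- the twisted form is left non-degenerate on the moving space -/
theorem twist_nondeg_on_movS (hodd : Odd r) (hr : (r : F) ≠ 0) (hA : A ^ r = 1)
    (hiso : ∀ x y, B (A x) (A y) = B x y) (hnd : ∀ x, (∀ y, B x y = 0) → x = 0)
    (hBrefl : ∀ x y, B x y = 0 → B y x = 0)
    (hTrefl : ∀ x y, twist B A r x y = 0 → twist B A r y x = 0) :
    ∀ x ∈ movS A r, (∀ y ∈ movS A r, twist B A r x y = 0) → x = 0 := by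
  intro x hx hxy
  have hr1 : 1 ≤ r := hodd.pos
  have hAx : A x ∈ movS A r := map_mem_movS (Commute.refl A) hx
  have hA'x : (A ^ (r - 1)) x ∈ movS A r :=
    map_mem_movS ((Commute.refl A).pow_left (r - 1)) hx
  have hδ : A x - (A ^ (r - 1)) x ∈ movS A r := Submodule.sub_mem _ hAx hA'x
  -- `B y (δ x) = 0` for all `y` in the moving space
  have h1 : ∀ y ∈ movS A r, B y (A x - (A ^ (r - 1)) x) = 0 := by
    intro y hy
    have h := hTrefl x y (hxy y hy)
    rw [twist_apply] at h
    rw [map_sub]
    exact h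
  have h2 : A x - (A ^ (r - 1)) x = 0 := by
    apply nondeg_on_movS B A r hr hA hiso hnd _ hδ
    intro y hy
    exact hBrefl _ _ (h1 y hy)
  have h3 : A x = (A ^ (r - 1)) x := sub_eq_zero.mp h2
  apply eq_zero_of_sq_fix hodd hr hA hx
  rw [h3, pow_pred_apply hr1 hA]

end twist

section restrict

variable {A : Module.End F V} {r : ℕ}

/-- the restriction to `movS A r` of an endomorphism commuting with `A` -/
def resM (A : Module.End F V) (r : ℕ) (C : Module.End F V) (hC : Commute C A) :
    Module.End F ↥(movS A r) :=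
  C.restrict (fun _ hx => map_mem_movS hC hx)

theorem resM_apply (C : Module.End F V) (hC : Commute C A) (x : ↥(movS A r)) :
    ((resM A r C hC x : ↥(movS A r)) : V) = C (x : V) := rfl

theorem resM_pow_apply (C : Module.End F V) (hC : Commute C A) (k : ℕ) (x : ↥(movS A r)) :
    (((resM A r C hC ^ k) x : ↥(movS A r)) : V) = (C ^ k) (x : V) := by
  induction k with
  | zero => rw [pow_zero, pow_zero, Module.End.one_apply, Module.End.one_apply]
  | succ k ih =>
    rw [pow_succ', pow_succ', Module.End.mul_apply, Module.End.mul_apply, resM_apply, ih]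

theorem resM_pow_eq_one_iff (C : Module.End F V) (hC : Commute C A) (k : ℕ) :
    resM A r C hC ^ k = 1 ↔ ∀ x ∈ movS A r, (C ^ k) x = x := by
  constructor
  · intro h x hx
    have h1 := resM_pow_apply C hC k ⟨x, hx⟩
    rw [h, Module.End.one_apply] at h1
    exact h1.symm
  · intro h
    apply LinearMap.ext
    intro x
    apply Subtype.ext
    rw [resM_pow_apply, Module.End.one_apply]
    exact h x x.2

end restrict

end Cfsg.Agent.Helper53.PG
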