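import Mathlib
import Cfsg.Prelude.Def_Classical
import Cfsg.Agent.Helper99.PGDefs
import Cfsg.Agent.Helper99.BCDefs
import Cfsg.Agent.Helper36.AltForm
import Cfsg.Agent.Helper53.PGTw

/-!
# S2474 piece (AP1) of helper99's architecture (board WANTED #10721)

Transfer `Sp → O` for the order `r p`: `a = g ^ p`, `u = g ^ r`, `M = movS a r` with the symmetric
form `S(x,y) = B(x, (a - a⁻¹) y)`, invariant under `g`.  If `u ≠ 1` on `M` then `g|M` has order `r p`;
otherwise `fixS a ≠ 0` is a non-degenerate alternating space, so `dim M ≤ 2n - 2`, and `a|M` has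
order `r`.
-/

set_option autoImplicit false

universe u

namespace Cfsg.Agent.Helper53.PG

open Module Matrix Cfsg.Agent.Helper99.BC Cfsg.Agent.Helper99.PG Cfsg.Agent.Helper93.BC

variable {F : Type u} [Field F] [Fintype F]

section transfer

variable {V : Type u} [AddCommGroup V] [Module F V] [FiniteDimensional F V]

/-- the quadratic form `x ↦ T(x,x)/2` of a symmetric bilinear form `T` on a submodule -/
noncomputable def halfQ (T : LinearMap.BilinForm F V) (M : Submodule F V) : QuadraticForm F ↥M :=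
  (2 : F)⁻¹ • LinearMap.BilinMap.toQuadraticMap (T.restrict M)

theorem halfQ_apply (T : LinearMap.BilinForm F V) (M : Submodule F V) (x : ↥M) :
    halfQ T M x = 2⁻¹ * T (x : V) (x : V) := by
  unfold halfQ
  rw [QuadraticMap.smul_apply, LinearMap.BilinMap.toQuadraticMap_apply, smul_eq_mul]
  rfl

theorem polar_halfQ (h2 : (2 : F) ≠ 0) (T : LinearMap.BilinForm F V) (M : Submodule F V)
    (hT : ∀ x y, T x y = T y x) (x y : ↥M) :
    QuadraticMap.polar (halfQ T M) x y = T (x : V) (y : V) := by
  simp only [QuadraticMap.polar, halfQ_apply, Submodule.coe_add, map_add, LinearMap.add_apply]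
  rw [hT (y : V) (x : V)]
  field_simp
  ring

/-- an endomorphism which is the identity on `movS A r` and commutes... : if `C = 1` on both
`fixS A` and `movS A r` then `C = 1` -/
theorem eq_one_of_fix_mov (A C : Module.End F V) (r : ℕ) (hr : (r : F) ≠ 0) (hA : A ^ r = 1)
    (h1 : ∀ x ∈ fixS A, C x = x) (h2 : ∀ x ∈ movS A r, C x = x) : C = 1 := by
  apply LinearMap.ext
  intro v
  have hc := isCompl_fixS_movS A r hr hA
  have hv : v ∈ fixS A ⊔ movS A r := by
    rw [hc.sup_eq_top]; exact Submodule.mem_top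
  obtain ⟨v1, hv1, v2, hv2, rfl⟩ := Submodule.mem_sup.mp hv
  rw [map_add, h1 v1 hv1, h2 v2 hv2, Module.End.one_apply]

/-- (AP1) transfer `Sp → O` for order `r p`: `a = g ^ p`, `u = g ^ r`, `M = movS a r`; the form
`S(x,y) = B(x, (a - a⁻¹) y)` on `M` is invariant under `g`; if `u ≠ 1` on `M` then `g|M` has order
`r p`; otherwise `u ≠ 1` on `fixS a`, which is non-degenerate alternating, so `dim M ≤ 2n - 2` -/
theorem omodel_of_sp_char (h2 : (2 : F) ≠ 0) (p : ℕ) [Fact p.Prime] [CharP F p]
    (B : LinearMap.BilinForm F V) (hB : B.IsAlt)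
    (hnd : B.Nondegenerate) (g : Module.End F V) (hg : ∀ x y, B (g x) (g y) = B x y)
    (n r : ℕ) (hV : finrank F V = 2 * n) (hr : r.Prime) (hr2 : r ≠ 2) (hrp : r ≠ p)
    (hgN : orderOf g = r * p) :
    (∃ m : ℕ, m ≤ n ∧ OModel F m (r * p)) ∨ (∃ m : ℕ, m + 1 ≤ n ∧ OModel F m r) := by
  have hp : p.Prime := Fact.out
  haveI : Fact r.Prime := ⟨hr⟩
  have hodd : Odd r := hr.odd_of_ne_two hr2
  have hr1 : 1 ≤ r := hr.one_lt.le
  have hrF : (r : F) ≠ 0 := by
    intro h0
    have hdvd : p ∣ r := (CharP.cast_eq_zero_iff F p r).mp h0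
    exact hrp ((Nat.prime_dvd_prime_iff_eq hp hr).mp hdvd).symm
  have hgrp : g ^ (r * p) = 1 := by rw [← hgN]; exact pow_orderOf_eq_one g
  -- `a = g ^ p`
  have haR : (g ^ p) ^ r = 1 := by rw [← pow_mul, mul_comm p r, hgrp]
  have ha1 : g ^ p ≠ 1 := by
    intro h
    have hdvd : r * p ∣ p := by rw [← hgN]; exact orderOf_dvd_of_pow_eq_one h
    have hle := Nat.le_of_dvd hp.pos hdvd
    have : 2 * p ≤ r * p := Nat.mul_le_mul_right p hr.two_le
    have := hp.pos
    omega
  have hu1 : g ^ r ≠ 1 := by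
    intro h
    have hdvd : r * p ∣ r := by rw [← hgN]; exact orderOf_dvd_of_pow_eq_one h
    have hle := Nat.le_of_dvd hr.pos hdvd
    have : r * 2 ≤ r * p := Nat.mul_le_mul_left r hp.two_le
    have := hr.pos
    omega
  have hisoA : ∀ x y, B ((g ^ p) x) ((g ^ p) y) = B x y := bilin_pow_of_iso B g hg p
  have hcomm : Commute g (g ^ p) := (Commute.refl g).pow_right p
  have hndL : ∀ x, (∀ y, B x y = 0) → x = 0 := hnd.1
  have hBrefl : ∀ x y, B x y = 0 → B y x = 0 := fun x y h => hB.isRefl x y h
  have hTsymm : ∀ x y, twist B (g ^ p) r x y = twist B (g ^ p) r y x :=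
    twist_symm_of_alt hr1 haR hisoA hB
  have hTrefl : ∀ x y, twist B (g ^ p) r x y = 0 → twist B (g ^ p) r y x = 0 := by
    intro x y h
    rw [← hTsymm x y]; exact h
  have hTnd := twist_nondeg_on_movS hodd hrF haR hisoA hndL hBrefl hTrefl
  -- the quadratic form on `M`
  have hQnd : ∀ x : ↥(movS (g ^ p) r),
      (∀ y, QuadraticMap.polar (halfQ (twist B (g ^ p) r) (movS (g ^ p) r)) x y = 0) → x = 0 := by
    intro x hx
    apply Subtype.ext
    apply hTnd x x.2
    intro y hy
    have := hx ⟨y, hy⟩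
    rwa [polar_halfQ h2 _ _ hTsymm] at this
  -- `a = 1` on `M` is impossible
  have haM : ¬ ∀ x ∈ movS (g ^ p) r, (g ^ p) x = x := by
    intro h
    exact ha1 (eq_one_of_fix_mov (g ^ p) (g ^ p) r hrF haR (fun x hx => mem_fixS.mp hx) h)
  -- dimensions
  have haltM : (B.restrict (movS (g ^ p) r)).IsAlt := fun x => hB (x : V)
  have hsepM : (B.restrict (movS (g ^ p) r)).SeparatingLeft := by
    intro x hx
    apply Subtype.ext
    exact nondeg_on_movS B (g ^ p) r hrF haR hisoA hndL x x.2 (fun y hy => hx ⟨y, hy⟩)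
  have hevM := Cfsg.Agent.Helper36.even_finrank_of_isAlt_nondegenerate
    (finrank F ↥(movS (g ^ p) r)) _ haltM
    ((haltM.isRefl.nondegenerate_iff_separatingLeft).mpr hsepM) rfl
  obtain ⟨m, hm⟩ := hevM
  have hle : finrank F ↥(movS (g ^ p) r) ≤ finrank F V := Submodule.finrank_le _
  by_cases hu : ∀ x ∈ movS (g ^ p) r, (g ^ r) x = x
  · -- second alternative
    right
    have haltX : (B.restrict (fixS (g ^ p))).IsAlt := fun x => hB (x : V)
    have hsepX : (B.restrict (fixS (g ^ p))).SeparatingLeft := by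
      intro x hx
      apply Subtype.ext
      exact nondeg_on_fixS' B (g ^ p) r hrF haR hisoA hndL x x.2 (fun y hy => hx ⟨y, hy⟩)
    have hevX := Cfsg.Agent.Helper36.even_finrank_of_isAlt_nondegenerate
      (finrank F ↥(fixS (g ^ p))) _ haltX
      ((haltX.isRefl.nondegenerate_iff_separatingLeft).mpr hsepX) rfl
    obtain ⟨k, hk⟩ := hevX
    have hsum := Submodule.finrank_add_eq_of_isCompl (isCompl_fixS_movS (g ^ p) r hrF haR)
    have hXne : finrank F ↥(fixS (g ^ p)) ≠ 0 := by
      intro h0
      have hbot : fixS (g ^ p) = ⊥ := Submodule.finrank_eq_zero.mp h0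
      apply hu1
      apply eq_one_of_fix_mov (g ^ p) (g ^ r) r hrF haR _ hu
      intro x hx
      rw [hbot, Submodule.mem_bot] at hx
      rw [hx, map_zero]
    refine ⟨m, by omega, ↥(movS (g ^ p) r), inferInstance, inferInstance, inferInstance,
      halfQ (twist B (g ^ p) r) (movS (g ^ p) r),
      resM (g ^ p) r (g ^ p) (Commute.refl _), hQnd, by omega, ?_, ?_⟩
    · intro x
      rw [halfQ_apply, halfQ_apply, resM_apply,
        twist_invariant (g ^ p) hisoA (Commute.refl _) (x : V) (x : V)]
    · apply orderOf_eq_prime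
      · rw [resM_pow_eq_one_iff]
        intro x _
        rw [haR, Module.End.one_apply]
      · intro h
        apply haM
        have h' := (resM_pow_eq_one_iff (A := g ^ p) (r := r) (g ^ p) (Commute.refl _) 1).mp
          (by rw [pow_one]; exact h)
        intro x hx
        have := h' x hx
        rwa [pow_one] at this
  · -- first alternative
    left
    refine ⟨m, by omega, ↥(movS (g ^ p) r), inferInstance, inferInstance, inferInstance,
      halfQ (twist B (g ^ p) r) (movS (g ^ p) r),
      resM (g ^ p) r g hcomm, hQnd, by omega, ?_, ?_⟩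
    · intro x
      rw [halfQ_apply, halfQ_apply, resM_apply,
        twist_invariant g hg hcomm (x : V) (x : V)]
    · apply orderOf_eq_of_pow_and_pow_div_prime (Nat.mul_pos hr.pos hp.pos)
      · rw [resM_pow_eq_one_iff]
        intro x _
        rw [hgrp, Module.End.one_apply]
      · intro q hq hqd
        rcases (Nat.Prime.dvd_mul hq).mp hqd with h | h
        · have hqr : q = r := (Nat.prime_dvd_prime_iff_eq hq hr).mp h
          rw [hqr, Nat.mul_div_cancel_left p hr.pos, Ne, resM_pow_eq_one_iff]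
          exact haM
        · have hqp : q = p := (Nat.prime_dvd_prime_iff_eq hq hp).mp h
          rw [hqp, Nat.mul_div_cancel r hp.pos, Ne, resM_pow_eq_one_iff]
          exact hu

end transfer

end Cfsg.Agent.Helper53.PG
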