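import Mathlib
import Cfsg.Prelude.Def_Classical
import Cfsg.Agent.Helper99.PGDefs
import Cfsg.Agent.Helper99.BCDefs
import Cfsg.Agent.Helper93.BCLA4
import Cfsg.Agent.Helper36.AltForm
import Cfsg.Agent.Helper53.PGTw

/-!
# S2474 piece (AU2) of helper99's architecture (board WANTED #10721)

Uniform transfer `O → Sp`: an isometry `g` of odd order `N` (prime to the characteristic) of a
non-degenerate quadratic space of dimension `2n+1` gives a symplectic model of dimension `2m ≤ 2n`
with an isometry of order `N`: the space `movS g N` with `B(x,y) = polar Q x ((g - g⁻¹) y)`.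
-/

set_option autoImplicit false

universe u

namespace Cfsg.Agent.Helper53.PG

open Module Matrix Cfsg.Agent.Helper99.BC Cfsg.Agent.Helper99.PG Cfsg.Agent.Helper93.BC

variable {F : Type u} [Field F] [Fintype F]

section transfer

variable {V : Type u} [AddCommGroup V] [Module F V] [FiniteDimensional F V]

/-- (AU2) uniform transfer `O → Sp`: the same with `B(x,y) = polar Q x ((g - g⁻¹) y)`, alternating -/
theorem spmodel_of_orth (h2 : (2 : F) ≠ 0) (Q : QuadraticForm F V)
    (hnd : ∀ x, (∀ y, QuadraticMap.polar Q x y = 0) → x = 0) (g : Module.End F V)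
    (hg : ∀ x, Q (g x) = Q x)
    (n N : ℕ) (hV : finrank F V = 2 * n + 1) (hN : Odd N) (hNF : (N : F) ≠ 0) (hgN : orderOf g = N) :
    ∃ m : ℕ, m ≤ n ∧ SpModel F m N := by
  have hN1 : 1 ≤ N := hN.pos
  have hgN1 : g ^ N = 1 := by rw [← hgN]; exact pow_orderOf_eq_one g
  have hiso : ∀ x y, QuadraticMap.polarBilin Q (g x) (g y) = QuadraticMap.polarBilin Q x y :=
    fun x y => polar_map_of_isometry Q g hg x y
  have hsymm : ∀ x y, QuadraticMap.polarBilin Q x y = QuadraticMap.polarBilin Q y x :=
    fun x y => QuadraticMap.polar_comm Q x y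
  have hndB : ∀ x, (∀ y, QuadraticMap.polarBilin Q x y = 0) → x = 0 := hnd
  have hBrefl : ∀ x y, QuadraticMap.polarBilin Q x y = 0 → QuadraticMap.polarBilin Q y x = 0 := by
    intro x y h
    rw [hsymm y x]; exact h
  have hTalt : (twist (QuadraticMap.polarBilin Q) g N).IsAlt :=
    fun x => twist_self_of_symm hN1 hgN1 hiso hsymm x
  have hTrefl : ∀ x y, twist (QuadraticMap.polarBilin Q) g N x y = 0 →
      twist (QuadraticMap.polarBilin Q) g N y x = 0 := by
    intro x y h
    rw [← hTalt.neg_eq x y, h, neg_zero]
  -- the restricted form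
  have halt : ((twist (QuadraticMap.polarBilin Q) g N).restrict (movS g N)).IsAlt :=
    fun x => hTalt (x : V)
  have hsepL : ((twist (QuadraticMap.polarBilin Q) g N).restrict (movS g N)).SeparatingLeft := by
    intro x hx
    apply Subtype.ext
    exact twist_nondeg_on_movS hN hNF hgN1 hiso hndB hBrefl hTrefl x x.2
      (fun y hy => hx ⟨y, hy⟩)
  have hnondeg : ((twist (QuadraticMap.polarBilin Q) g N).restrict (movS g N)).Nondegenerate :=
    (halt.isRefl.nondegenerate_iff_separatingLeft).mpr hsepL
  have heven := Cfsg.Agent.Helper36.even_finrank_of_isAlt_nondegenerate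
    (finrank F ↥(movS g N)) _ halt hnondeg rfl
  obtain ⟨m, hm⟩ := heven
  have hle : finrank F ↥(movS g N) ≤ finrank F V := Submodule.finrank_le _
  refine ⟨m, by omega, ↥(movS g N), inferInstance, inferInstance, inferInstance,
    (twist (QuadraticMap.polarBilin Q) g N).restrict (movS g N),
    resM g N g (Commute.refl g), halt, hnondeg, by omega, ?_, ?_⟩
  · intro x y
    exact twist_invariant g hiso (Commute.refl g) (x : V) (y : V)
  · have hord : orderOf (resM g N g (Commute.refl g)) = orderOf g := by
      apply orderOf_eq_orderOf_iff.mpr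
      intro k
      rw [resM_pow_eq_one_iff]
      constructor
      · intro h
        apply LinearMap.ext
        intro v
        have hc := isCompl_fixS_movS g N hNF hgN1
        have hv : v ∈ fixS g ⊔ movS g N := by
          rw [hc.sup_eq_top]; exact Submodule.mem_top
        obtain ⟨v1, hv1, v2, hv2, rfl⟩ := Submodule.mem_sup.mp hv
        rw [map_add, pow_apply_of_mem_fixS hv1 k, h v2 hv2, Module.End.one_apply]
      · intro h x _
        rw [h, Module.End.one_apply]
    rw [hord, hgN]

end transfer

end Cfsg.Agent.Helper53.PG
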