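import Mathlib
import Cfsg.Agent.Helper5.SuBN.Main
import Cfsg.Agent.Helper6.BN
import Cfsg.Agent.Helper9.PronAU.Defs

/-!
# BLOCK AU of S2225/S2226 (helper9's farm), leaf (D1) `lt_of_conj_mem_Bsub`
-/

set_option autoImplicit false
set_option linter.unusedSectionVars false
set_option linter.unusedVariables false

namespace Cfsg.Agent.Helper53.PronAU

open Matrix Cfsg.Agent.Helper5.SuBN Cfsg.Agent.Helper5.SuBN.Pair Cfsg.Agent.Helper5.SuBN.Main
  Cfsg.Agent.Helper9.PronAU

section matrix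

variable {F : Type*} [Field F] {n : ℕ} {σ : F →+* F}

/-- (D1) -/
theorem lt_of_conj_mem_Bsub (m : UG n σ) (π : Equiv.Perm (Fin n)) (hπ : ∀ a b : Fin n, a ≠ π b → mat m a b = 0)
    (k : Fin (n / 2)) (x₀ : UG n σ) (hx₀ : mat x₀ (ia k) (ib k) ≠ 0) (h : m * x₀ * m⁻¹ ∈ Bsub n σ) :
    π (ia k) < π (ib k) := by
  have hne : ia k ≠ ib k := by
    intro h0
    have := congrArg Fin.val h0
    rw [val_ia, val_ib] at this
    omega
  have hne' : π (ia k) ≠ π (ib k) := fun h0 => hne (π.injective h0)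
  rcases lt_or_gt_of_ne hne' with h1 | h1
  · exact h1
  · exfalso
    have h2 := (mem_Bsub_iff _).1 h (π (ia k)) (π (ib k)) h1
    rw [mono_conj_apply' m π hπ x₀ (ia k) (ib k)] at h2
    have h3 := mono_apply_ne_zero m π hπ (ia k)
    have h4 := mono_inv_apply_ne_zero m π hπ (ib k)
    exact mul_ne_zero (mul_ne_zero h3 hx₀) h4 h2

end matrix

end Cfsg.Agent.Helper53.PronAU
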