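import Mathlib
import Cfsg.Agent.Helper5.SuBN.Main
import Cfsg.Agent.Helper6.BN
import Cfsg.Agent.Helper9.PronAU.Defs

/-!
# BLOCK AU of S2225/S2226 (helper9's farm), leaf (NE) `exists_mem_Xset_ne`
-/

set_option autoImplicit false
set_option linter.unusedSectionVars false
set_option linter.unusedVariables false

namespace Cfsg.Agent.Helper53.PronAU

open Matrix Cfsg.Agent.Helper5.SuBN Cfsg.Agent.Helper5.SuBN.Pair Cfsg.Agent.Helper5.SuBN.Main
  Cfsg.Agent.Helper9.PronAU

section matrix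

variable {F : Type*} [Field F] {n : ℕ} {σ : F →+* F}

/-- (NE) -/
theorem exists_mem_Xset_ne (hn : Even n) (hσ : ∀ x, σ (σ x) = x) (c : F) (hc0 : c ≠ 0) (hc : σ c = -c)
    (k : Fin (n / 2)) : ∃ x ∈ Xset σ k, mat x (ia k) (ib k) ≠ 0 := by
  have hk := k.2
  have hab : ia k ≠ ib k := by
    intro h0
    have := congrArg Fin.val h0
    rw [val_ia, val_ib] at this
    omega
  by_cases h1 : 2 * k.val + 3 < n
  · -- kind (I)
    have hP : Param σ k (1 : F) 0 := by
      unfold Param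
      rw [if_pos h1]
    obtain ⟨x, hx⟩ := exists_of_isUJ (xMat_isUJ hσ k 1 0 hP)
    refine ⟨x, ⟨1, 0, hP, hx⟩, ?_⟩
    rw [hx, xMat_apply]
    have h2 : ¬ (Fin.rev (ib k) = ia k ∧ Fin.rev (ia k) = ib k) := by
      rintro ⟨h3, -⟩
      have := congrArg Fin.val h3
      rw [val_rev, val_ia, val_ib] at this
      omega
    have h3 : ¬ (ia k = ia k ∧ Fin.rev (ia k) = ib k) := by
      rintro ⟨-, h3⟩
      have := congrArg Fin.val h3
      rw [val_rev, val_ia, val_ib] at this
      omega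
    rw [if_neg hab, if_pos ⟨rfl, rfl⟩, if_neg h2, if_neg h3]
    simp
  · -- kind (II)
    have h2 : 2 * k.val + 2 = n := by
      obtain ⟨r, hr⟩ := hn
      omega
    have hP : Param σ k (0 : F) c := by
      unfold Param
      rw [if_neg h1, if_pos h2]
      refine ⟨rfl, ?_⟩
      rw [hc]; ring
    obtain ⟨x, hx⟩ := exists_of_isUJ (xMat_isUJ hσ k 0 c hP)
    refine ⟨x, ⟨0, c, hP, hx⟩, ?_⟩
    rw [hx, xMat_apply]
    have h3 : Fin.rev (ia k) = ib k := by
      apply Fin.ext
      rw [val_rev, val_ia, val_ib]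
      omega
    rw [h3]
    simp [hab, hc0]

end matrix

end Cfsg.Agent.Helper53.PronAU
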