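import Mathlib
import Cfsg.Agent.Helper68.PronBU1.Defs

/-!
# Block BU1 of S2225/S2226 (helper68's farm), leaf (FG) `exists_gen`
-/

set_option autoImplicit false
set_option linter.unusedVariables false
set_option linter.unusedSectionVars false

namespace Cfsg.Agent.Helper53.PronBU1

open Matrix Cfsg.Agent.Helper99.Pron Cfsg.Agent.Helper68.PronBU1

variable {F : Type*} [Field F]

/-- (FG) -/
theorem exists_gen (q : ℕ) (hq : q % 4 = 1) (hq1 : 1 < q)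
    (hO : ∀ n, n ∣ q ^ 2 - 1 → ∃ x : Fˣ, orderOf x = n)
    (hpm : ∀ l : Fˣ, l ∈ Lam2 F → l ^ (q - 1) = 1 ∨ l ^ (q - 1) = -1) :
    ∃ l : Fˣ, l ∈ Lam2 F ∧ l ^ (q - 1) = -1 := by
  have hne : q - 1 ≠ 0 := by omega
  obtain ⟨a, m, hm, ham⟩ := Nat.exists_eq_two_pow_mul_odd hne
  have hfac : q ^ 2 - 1 = (q - 1) * (q + 1) := by
    obtain ⟨s, rfl⟩ : ∃ s, q = s + 1 := ⟨q - 1, by omega⟩
    have h1 : (s + 1) ^ 2 = s * (s + 1 + 1) + 1 := by ring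
    rw [h1, Nat.add_sub_cancel, Nat.add_sub_cancel]
  obtain ⟨r, hr⟩ : ∃ r, q + 1 = 2 * r := ⟨(q + 1) / 2, by omega⟩
  have hdvd : 2 ^ (a + 1) ∣ q ^ 2 - 1 := by
    rw [hfac, ham, hr]
    exact ⟨m * r, by ring⟩
  obtain ⟨l, hl⟩ := hO _ hdvd
  have hlam : l ∈ Lam2 F := ⟨a + 1, by rw [← hl]; exact pow_orderOf_eq_one l⟩
  refine ⟨l, hlam, ?_⟩
  rcases hpm l hlam with h1 | h1
  · exfalso
    have h2 := orderOf_dvd_of_pow_eq_one h1
    rw [hl, ham, pow_succ] at h2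
    have h3 : 2 ∣ m := (Nat.mul_dvd_mul_iff_left (by positivity)).1 h2
    obtain ⟨t, ht⟩ := hm
    omega
  · exact h1

end Cfsg.Agent.Helper53.PronBU1
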