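import Mathlib
import Cfsg.Agent.Helper68.PronBU1.Defs

/-!
# Block BU1 of S2225/S2226 (helper68's farm), leaf (MU3) `Uq_conj`
-/

set_option autoImplicit false
set_option linter.unusedVariables false
set_option linter.unusedSectionVars false

namespace Cfsg.Agent.Helper53.PronBU1

open Matrix Cfsg.Agent.Helper99.Pron Cfsg.Agent.Helper68.PronBU1

variable {F : Type*} [Field F]

/-- (MU3) -/
theorem Uq_conj (q : ℕ) (σ : F →+* F) (hσ : ∀ x, σ x = x ^ q) (g a : GL (Fin 2) F)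
    (hg : ((g : Matrix (Fin 2) (Fin 2) F))ᵀ * (g : Matrix (Fin 2) (Fin 2) F).map (· ^ q) = Jm)
    (ha : ((a : Matrix (Fin 2) (Fin 2) F))ᵀ * Jm * (a : Matrix (Fin 2) (Fin 2) F).map (· ^ q) = Jm) :
    Uq q ((g * a * g⁻¹ : GL (Fin 2) F) : Matrix (Fin 2) (Fin 2) F) := by
  have hmap : ∀ M : Matrix (Fin 2) (Fin 2) F, M.map (· ^ q) = M.map σ := by
    intro M
    ext i j
    simp [hσ]
  unfold Uq
  rw [hmap] at hg ha ⊢
  simp only [Units.val_mul, Matrix.transpose_mul, Matrix.map_mul]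
  have hGG' : (g : Matrix (Fin 2) (Fin 2) F) * ((g⁻¹ : GL (Fin 2) F) : Matrix (Fin 2) (Fin 2) F) = 1 := by
    rw [← Units.val_mul, mul_inv_cancel, Units.val_one]
  generalize (g : Matrix (Fin 2) (Fin 2) F) = G at *
  generalize (a : Matrix (Fin 2) (Fin 2) F) = A at *
  generalize ((g⁻¹ : GL (Fin 2) F) : Matrix (Fin 2) (Fin 2) F) = G' at *
  calc G'ᵀ * (Aᵀ * Gᵀ) * (G.map σ * A.map σ * G'.map σ)
      = G'ᵀ * (Aᵀ * (Gᵀ * G.map σ) * A.map σ) * G'.map σ := by simp only [Matrix.mul_assoc]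
    _ = G'ᵀ * (Gᵀ * G.map σ) * G'.map σ := by rw [hg, ha]
    _ = (G * G')ᵀ * (G * G').map σ := by
        rw [Matrix.transpose_mul, Matrix.map_mul]; simp only [Matrix.mul_assoc]
    _ = 1 := by rw [hGG']; simp

end Cfsg.Agent.Helper53.PronBU1
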