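import Cfsg.Agent.Helper61.PslDefs

/-!
Helper53 for helper61 (S3616), piece (TRANS): multiple transitivity from the stabiliser of `none`.
-/

set_option autoImplicit false

namespace Cfsg.Agent.Helper53.PslTRANS

open Equiv MulAction Cfsg.Agent.Helper61.Zp DihedralGroup Cfsg.Agent.Helper61.Orbital Cfsg.Agent.Helper61.Psl

/-- (TRANS) multiple transitivity from the stabiliser of `none`. -/
theorem multTrans_succ_of_stabInf {α : Type*} [Finite α] (𝔛 : Subgroup (Perm (Option α)))
    [IsPretransitive 𝔛 (Option α)] (n : ℕ)
    (h : IsMultiplyPretransitive ↥(stabInf 𝔛) α n) :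
    IsMultiplyPretransitive ↥𝔛 (Option α) (n + 1) := by
  rw [SubMulAction.ofStabilizer.isMultiplyPretransitive (G := ↥𝔛) (α := Option α) (n := n)
    (a := (none : Option α))]
  -- the group map `stabInf 𝔛 → stabilizer 𝔛 none`
  let σ : ↥(stabInf 𝔛) → ↥(stabilizer ↥𝔛 (none : Option α)) := fun s =>
    ⟨⟨optHom α (s : Perm α), mem_stabInf.mp s.2⟩, by
      rw [mem_stabilizer_iff]
      exact optHom_apply_none (s : Perm α)⟩
  -- the equivariant map `α → ofStabilizer 𝔛 none`
  let f : α →ₑ[σ] ↥(SubMulAction.ofStabilizer ↥𝔛 (none : Option α)) :=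
    { toFun := fun x => ⟨some x, by
        rw [SubMulAction.mem_ofStabilizer_iff]
        exact Option.some_ne_none x⟩
      map_smul' := by
        intro s x
        apply Subtype.ext
        show some ((s : Perm α) x) = optHom α (s : Perm α) (some x)
        rw [optHom_apply_some] }
  have hf : Function.Surjective f := by
    rintro ⟨y, hy⟩
    rw [SubMulAction.mem_ofStabilizer_iff] at hy
    rcases y with _ | x
    · exact absurd rfl hy
    · exact ⟨x, rfl⟩
  exact IsPretransitive.of_embedding (f := f) hf

end Cfsg.Agent.Helper53.PslTRANS
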