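import Cfsg.Agent.Helper61.PslDefs

/-!
Helper53 for helper61 (S3616), piece (WCONJ): conjugation by `inv0` on the stabiliser of `∞` and `0`.
-/

set_option autoImplicit false

namespace Cfsg.Agent.Helper53.PslWCONJ

open Equiv MulAction Cfsg.Agent.Helper61.Zp DihedralGroup Cfsg.Agent.Helper61.Orbital Cfsg.Agent.Helper61.Psl

/-- a permutation of `Option α` fixing `none` is the extension of a permutation of `α` -/
theorem optHom_removeNone {α : Type*} (τ : Perm (Option α)) (h : τ none = none) :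
    optHom α (Equiv.removeNone τ) = τ := by
  ext x : 1
  cases x with
  | none => rw [optHom_apply_none, h]
  | some x =>
    rw [optHom_apply_some]
    have hx : ∃ x', τ (some x) = some x' := by
      rcases hτ : τ (some x) with _ | x'
      · exfalso
        have := τ.injective (hτ.trans h.symm)
        exact Option.some_ne_none x this
      · exact ⟨x', rfl⟩
    exact Equiv.removeNone_some τ hx

variable {p : ℕ} [Fact p.Prime]

/-- the conjugate by `inv0` of (the extension of) a permutation fixing `0` -/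
noncomputable def conjPerm (σ : Perm (ZMod p)) : Perm (ZMod p) :=
  Equiv.removeNone (inv0 * optHom (ZMod p) σ * inv0)

theorem conj_none (σ : Perm (ZMod p)) (h0 : σ 0 = 0) :
    (inv0 * optHom (ZMod p) σ * inv0 : Perm (Option (ZMod p))) none = none := by
  rw [Perm.mul_apply, Perm.mul_apply, inv0_none, optHom_apply_some, h0, inv0_zero]

theorem optHom_conjPerm (σ : Perm (ZMod p)) (h0 : σ 0 = 0) :
    optHom (ZMod p) (conjPerm σ) = inv0 * optHom (ZMod p) σ * inv0 :=
  optHom_removeNone _ (conj_none σ h0)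

theorem conjPerm_zero (σ : Perm (ZMod p)) (h0 : σ 0 = 0) : conjPerm σ 0 = 0 := by
  have h1 : optHom (ZMod p) (conjPerm σ) (some 0) = some 0 := by
    rw [optHom_conjPerm σ h0, Perm.mul_apply, Perm.mul_apply, inv0_zero, optHom_apply_none, inv0_none]
  rw [optHom_apply_some] at h1
  exact Option.some_injective _ h1

theorem conjPerm_apply (σ : Perm (ZMod p)) (h0 : σ 0 = 0) {v : ZMod p} (hv : v ≠ 0) :
    conjPerm σ (-v⁻¹) = -(σ v)⁻¹ := by
  have hv' : -v⁻¹ ≠ 0 := neg_ne_zero.mpr (inv_ne_zero hv)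
  have hσv : σ v ≠ 0 := by
    intro h
    exact hv (σ.injective (h.trans h0.symm))
  have h1 : optHom (ZMod p) (conjPerm σ) (some (-v⁻¹)) = some (-(σ v)⁻¹) := by
    rw [optHom_conjPerm σ h0, Perm.mul_apply, Perm.mul_apply, inv0_some hv']
    have e : -(-v⁻¹)⁻¹ = v := by rw [inv_neg, inv_inv, neg_neg]
    rw [e, optHom_apply_some, inv0_some hσv]
  rw [optHom_apply_some] at h1
  exact Option.some_injective _ h1

/-- (WCONJ) conjugation by `inv0` on the stabiliser of `∞` and `0`. -/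
theorem exists_conj (𝔛 : Subgroup (Perm (Option (ZMod p)))) (hinv0 : inv0 ∈ 𝔛) :
    ∃ φ : ↥(stabilizer ↥(stabInf 𝔛) (0 : ZMod p)) → ↥(stabilizer ↥(stabInf 𝔛) (0 : ZMod p)),
      ∀ (g : ↥(stabilizer ↥(stabInf 𝔛) (0 : ZMod p)))
        (v : ↥(SubMulAction.ofStabilizer ↥(stabInf 𝔛) (0 : ZMod p))),
        φ g • (negInvV (stabInf 𝔛) v) = negInvV (stabInf 𝔛) (g • v) := by
  -- the underlying permutation of an element of the stabiliser fixes `0`
  have hfix : ∀ g : ↥(stabilizer ↥(stabInf 𝔛) (0 : ZMod p)),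
      ((g : ↥(stabInf 𝔛)) : Perm (ZMod p)) 0 = 0 := by
    intro g
    have h := g.2
    rw [mem_stabilizer_iff] at h
    exact h
  have hmem : ∀ g : ↥(stabilizer ↥(stabInf 𝔛) (0 : ZMod p)),
      conjPerm ((g : ↥(stabInf 𝔛)) : Perm (ZMod p)) ∈ stabInf 𝔛 := by
    intro g
    rw [mem_stabInf, optHom_conjPerm _ (hfix g)]
    exact 𝔛.mul_mem (𝔛.mul_mem hinv0 (mem_stabInf.mp (g : ↥(stabInf 𝔛)).2)) hinv0
  refine ⟨fun g => ⟨⟨conjPerm ((g : ↥(stabInf 𝔛)) : Perm (ZMod p)), hmem g⟩, ?_⟩, ?_⟩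
  · rw [mem_stabilizer_iff]
    exact conjPerm_zero _ (hfix g)
  · intro g v
    apply Subtype.ext
    have hv : v.1 ≠ 0 := (SubMulAction.mem_ofStabilizer_iff _ _).mp v.2
    show conjPerm ((g : ↥(stabInf 𝔛)) : Perm (ZMod p)) (-(v.1)⁻¹) =
      -(((g : ↥(stabInf 𝔛)) : Perm (ZMod p)) v.1)⁻¹
    exact conjPerm_apply _ (hfix g) hv

end Cfsg.Agent.Helper53.PslWCONJ
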