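import Mathlib
import Cfsg.Agent.Helper77.Res.Defs
import Cfsg.Agent.S0120
import Cfsg.Agent.S0016
import Cfsg.Agent.Helper63.PGroup

/-!
# S5289 piece (D1), sub-piece (CYC) (helper53 for helper68)
-/

set_option autoImplicit false

universe u

namespace Cfsg.Agent.Helper53.Res

open Subgroup Cfsg.Agent.Helper77.Res

variable {Ω : Type u} [Group Ω] {p : ℕ} [hp : Fact p.Prime]

/-- (CYC) a `p`-group (`p` odd) with only one subgroup of order `p` is cyclic. -/
theorem D1_CYC (hp2 : p ≠ 2) (C Z : Subgroup Ω) [Finite C] (hC : IsPGroup p C) (hZC : Z ≤ C) (hZ : Nat.card Z = p)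
    (hall : ∀ x ∈ C, x ^ p = 1 → x ∈ Z) : IsCyclic C := by
  have hZ' : Nat.card (Z.subgroupOf C) = p := by
    rw [← hZ]
    exact Nat.card_congr (Subgroup.subgroupOfEquivOfLe hZC).toEquiv
  have key : ∀ H : Subgroup C, Nat.card H = p → H = Z.subgroupOf C := by
    intro H hH
    have hle : H ≤ Z.subgroupOf C := by
      intro h hh
      rw [Subgroup.mem_subgroupOf]
      apply hall _ h.2
      have h1 : (⟨h, hh⟩ : H) ^ p = 1 := by
        rw [← hH]
        exact pow_card_eq_one'
      have h2 : h ^ p = 1 := by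
        have := congrArg (fun y : H => (y : C)) h1
        simpa using this
      have h3 := congrArg (fun y : C => (y : Ω)) h2
      simpa using h3
    exact Subgroup.eq_of_le_of_card_ge hle (by rw [hZ', hH])
  rcases Cfsg.Agent.S0016.result (G := C) p hC
    (fun H K hH hK => (key H hH).trans (key K hK).symm) with h | ⟨h2, -⟩
  · exact h
  · exact absurd h2 hp2

end Cfsg.Agent.Helper53.Res
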