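import Mathlib
import Cfsg.Agent.Helper77.Res.Defs
import Cfsg.Agent.S0120
import Cfsg.Agent.S0016
import Cfsg.Agent.Helper63.PGroup

/-!
# S5289 piece (D1), sub-piece (UNI) (helper53 for helper68)
-/

set_option autoImplicit false

universe u

namespace Cfsg.Agent.Helper53.Res

open Subgroup Cfsg.Agent.Helper77.Res

variable {Ω : Type u} [Group Ω] {p : ℕ} [hp : Fact p.Prime]

/-- (UNI) an automorphism acting trivially on the factors of `R ≥ L ≥ Z` (`R` of exponent `p`, `Z` central in `R`,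
`α Z = Z`) has `α^p` trivial on `R/Z`. -/
theorem D1_UNI (P R L Z : Subgroup Ω) (hZL : Z ≤ L) (hLR : L ≤ R) (hRP : R ≤ P) (hRexp : ∀ r ∈ R, r ^ p = 1)
    (hZc : ∀ z ∈ Z, ∀ r ∈ R, z * r = r * z)
    (α : MulAut P) (hαZ : ∀ x : P, (x : Ω) ∈ Z → ((α x : P) : Ω) ∈ Z)
    (h1 : ∀ x : P, (x : Ω) ∈ L → (x : Ω)⁻¹ * ((α x : P) : Ω) ∈ Z)
    (h2 : ∀ x : P, (x : Ω) ∈ R → (x : Ω)⁻¹ * ((α x : P) : Ω) ∈ L) :
    ∀ x : P, (x : Ω) ∈ R → (x : Ω)⁻¹ * (((α ^ p) x : P) : Ω) ∈ Z := by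
  intro x hx
  -- work inside `P` with the pulled back subgroups
  have hαZ' : ∀ y : P, y ∈ Z.subgroupOf P → α y ∈ Z.subgroupOf P := fun y hy => by
    rw [Subgroup.mem_subgroupOf] at hy ⊢
    exact hαZ y hy
  have h1' : ∀ y : P, y ∈ L.subgroupOf P → y⁻¹ * α y ∈ Z.subgroupOf P := fun y hy => by
    rw [Subgroup.mem_subgroupOf] at hy ⊢
    simpa using h1 y hy
  have h2' : ∀ y : P, y ∈ R.subgroupOf P → y⁻¹ * α y ∈ L.subgroupOf P := fun y hy => by
    rw [Subgroup.mem_subgroupOf] at hy ⊢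
    simpa using h2 y hy
  have hcomm : ∀ z : P, z ∈ Z.subgroupOf P → ∀ r : P, r ∈ R.subgroupOf P → z * r = r * z := by
    intro z hz r hr
    rw [Subgroup.mem_subgroupOf] at hz hr
    apply Subtype.ext
    simpa using hZc z hz r hr
  have hx' : x ∈ R.subgroupOf P := by rwa [Subgroup.mem_subgroupOf]
  set l : P := x⁻¹ * α x with hl
  have hlL : l ∈ L.subgroupOf P := h2' x hx'
  have hlR : l ∈ R.subgroupOf P := by
    rw [Subgroup.mem_subgroupOf] at hlL ⊢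
    exact hLR hlL
  set z₀ : P := l⁻¹ * α l with hz₀
  have hz₀Z : z₀ ∈ Z.subgroupOf P := h1' l hlL
  have hαx : α x = x * l := by rw [hl]; group
  have hαl : α l = l * z₀ := by rw [hz₀]; group
  have hlz : Commute l z₀ := (hcomm z₀ hz₀Z l hlR).symm
  have hind : ∀ k : ℕ, ∃ z : P, z ∈ Z.subgroupOf P ∧ (α ^ k) x = x * l ^ k * z := by
    intro k
    induction k with
    | zero => exact ⟨1, one_mem _, by simp⟩
    | succ k ih =>
      obtain ⟨z, hz, hk⟩ := ih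
      refine ⟨z₀ ^ k * α z, mul_mem (pow_mem hz₀Z k) (hαZ' z hz), ?_⟩
      rw [pow_succ', MulAut.mul_apply, hk, map_mul, map_mul, map_pow, hαx, hαl, hlz.mul_pow,
        pow_succ']
      simp only [mul_assoc]
  obtain ⟨z, hz, hpz⟩ := hind p
  have hlp : l ^ p = 1 := by
    apply Subtype.ext
    rw [Subgroup.mem_subgroupOf] at hlR
    simpa using hRexp _ hlR
  rw [hlp, mul_one] at hpz
  rw [Subgroup.mem_subgroupOf] at hz
  have : (x : Ω)⁻¹ * (((α ^ p) x : P) : Ω) = (z : Ω) := by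
    rw [hpz]
    simp
  rw [this]
  exact hz

end Cfsg.Agent.Helper53.Res
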