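import Cfsg.Agent.Helper21.SC3C.Defs
import Cfsg.Agent.S0840
import Cfsg.Agent.Helper17.G4320d
import Cfsg.Agent.Helper17.InvolPairs
import Cfsg.Agent.Helper74.DefectZero
import Cfsg.Agent.Helper79.Counting

/-!
# S3331 block C (helper21's farm), leaf (NOMIX) `no_mix`
-/

set_option autoImplicit false

namespace Cfsg.Agent.Helper53.SC3C

open Cfsg Cfsg.Agent Cfsg.Agent.Helper62.SC3 Cfsg.Agent.Helper21.SC3C
open scoped ComplexConjugate

universe u

variable {G : Type u} [Group G]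

/-- the `p`-part of `3 * a * b * w ^ 2` is the `p`-part of `a` when `p ∤ 3, b, w` -/
theorem NOMIX_fact (a b w p : ℕ) (hp : p.Prime) (ha : a ≠ 0) (hb : b ≠ 0) (hw : w ≠ 0)
    (h3 : ¬ p ∣ 3) (hpb : ¬ p ∣ b) (hpw : ¬ p ∣ w) :
    (3 * a * b * w ^ 2).factorization p = a.factorization p := by
  have hw2 : w ^ 2 ≠ 0 := pow_ne_zero _ hw
  rw [Nat.factorization_mul (by positivity) hw2, Nat.factorization_mul (by positivity) hb,
    Nat.factorization_mul (by norm_num) ha, Nat.factorization_pow]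
  simp only [Finsupp.coe_add, Pi.add_apply, Finsupp.coe_smul, Pi.smul_apply, smul_eq_mul]
  rw [Nat.factorization_eq_zero_of_not_dvd h3, Nat.factorization_eq_zero_of_not_dvd hpb,
    Nat.factorization_eq_zero_of_not_dvd hpw]
  ring

/-- (NOMIX) -/
theorem no_mix [Finite G] (S : Setup G) (D : CData S) (w : ℕ)
    (hG : Nat.card G = 3 * D.f * (D.f + 1) * w ^ 2) (hf3 : D.f % 3 = 1)
    (y : G) (p q : ℕ) (hp : p.Prime) (hq : q.Prime) (hpf : p ∣ D.f) (hqf : q ∣ D.f + 1)
    (hpw : ¬ p ∣ w) (hqw : ¬ q ∣ w) (hpy : p ∣ orderOf y) (hqy : q ∣ orderOf y) : False := by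
  classical
  haveI : Fintype G := Fintype.ofFinite G
  have hGpos : 0 < Nat.card G := Nat.card_pos
  have hf0 : D.f ≠ 0 := by
    intro h0
    rw [h0] at hf3
    norm_num at hf3
  have hw0 : w ≠ 0 := by
    intro h0
    rw [hG, h0] at hGpos
    simp at hGpos
  have hp3 : ¬ p ∣ 3 := by
    intro h
    have : p = 3 := (Nat.prime_dvd_prime_iff_eq hp Nat.prime_three).mp h
    rw [this] at hpf
    omega
  have hq3 : ¬ q ∣ 3 := by
    intro h
    have : q = 3 := (Nat.prime_dvd_prime_iff_eq hq Nat.prime_three).mp h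
    rw [this] at hqf
    omega
  have hpf1 : ¬ p ∣ D.f + 1 := by
    intro h
    have h1 : p ∣ 1 := (Nat.dvd_add_right hpf).mp h
    exact hp.one_lt.ne' (Nat.dvd_one.mp h1)
  have hqf0 : ¬ q ∣ D.f := by
    intro h
    have h1 : q ∣ 1 := (Nat.dvd_add_right h).mp hqf
    exact hq.one_lt.ne' (Nat.dvd_one.mp h1)
  -- `χ y = 0`
  have hχy : D.χ y = 0 := by
    have hdeg : charDegree D.χ = D.f := Helper79.charDegree_natCast_fun D.hχ1
    have hfac : (Nat.card G).factorization p = D.f.factorization p := by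
      rw [hG]
      exact NOMIX_fact D.f (D.f + 1) w p hp hf0 (Nat.succ_ne_zero _) hw0 hp3 hpf1 hpw
    have hdiv : p ^ (Nat.card G).factorization p ∣ charDegree ((⟨D.χ, D.hχ⟩ : IrrCharacter G) : G → ℂ) := by
      show p ^ (Nat.card G).factorization p ∣ charDegree D.χ
      rw [hdeg, hfac]
      exact Nat.ordProj_dvd D.f p
    exact Helper74.irr_eq_zero_of_defect_zero (⟨D.χ, D.hχ⟩ : IrrCharacter G) hp hdiv y hpy
  have hψy : D.ψ y = 0 := by
    have hdeg : charDegree D.ψ = D.f + 1 :=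
      Helper79.charDegree_natCast_fun (n := D.f + 1) (by rw [D.hψ1]; push_cast; ring)
    have hfac : (Nat.card G).factorization q = (D.f + 1).factorization q := by
      rw [hG]
      have : 3 * D.f * (D.f + 1) * w ^ 2 = 3 * (D.f + 1) * D.f * w ^ 2 := by ring
      rw [this]
      exact NOMIX_fact (D.f + 1) D.f w q hq (Nat.succ_ne_zero _) hf0 hw0 hq3 hqf0 hqw
    have hdiv : q ^ (Nat.card G).factorization q ∣ charDegree ((⟨D.ψ, D.hψ⟩ : IrrCharacter G) : G → ℂ) := by
      show q ^ (Nat.card G).factorization q ∣ charDegree D.ψ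
      rw [hdeg, hfac]
      exact Nat.ordProj_dvd (D.f + 1) q
    exact Helper74.irr_eq_zero_of_defect_zero (⟨D.ψ, D.hψ⟩ : IrrCharacter G) hq hdiv y hqy
  have hy3 : orderOf y ≠ 3 := by
    intro h
    rw [h] at hpy
    exact hp3 hpy
  have := D.hrel y hy3
  rw [hχy, hψy] at this
  norm_num at this

end Cfsg.Agent.Helper53.SC3C
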