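import Cfsg.Agent.Helper21.SC3C.Defs
import Cfsg.Agent.S0840
import Cfsg.Agent.Helper17.G4320d
import Cfsg.Agent.Helper17.InvolPairs
import Cfsg.Agent.Helper74.DefectZero
import Cfsg.Agent.Helper79.Counting

/-!
# S3331 block C (helper21's farm), leaf (S3R) `s3_restrict`: restriction of a character to `⟨x, t⟩ ≅ S₃`
-/

set_option autoImplicit false

namespace Cfsg.Agent.Helper53.SC3C

open Cfsg Cfsg.Agent Cfsg.Agent.Helper62.SC3 Cfsg.Agent.Helper21.SC3C
open scoped ComplexConjugate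

universe u

variable {G : Type u} [Group G]

theorem S3R_pw_add {x : G} (hx3 : orderOf x = 3) (i j : ZMod 3) :
    x ^ (i + j).val = x ^ i.val * x ^ j.val := by
  rw [ZMod.val_add, ← pow_add]
  have := pow_mod_orderOf x (i.val + j.val)
  rw [hx3] at this
  exact this

theorem S3R_pw_sub {x : G} (hx3 : orderOf x = 3) (i j : ZMod 3) :
    x ^ (j - i).val = x ^ j.val * (x ^ i.val)⁻¹ := by
  have h := S3R_pw_add hx3 (j - i) i
  rw [sub_add_cancel] at h
  rw [h]; group

/-- The homomorphism from the dihedral group of order 6 attached to an element `x` of order 3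
inverted by an involution `t`. -/
noncomputable def S3R_dihHom {x t : G} (hx3 : orderOf x = 3) (htt : t * t = 1)
    (hinv : t * x * t⁻¹ = x⁻¹) : DihedralGroup 3 →* G :=
  MonoidHom.mk' (fun g => match g with
    | .r i => x ^ i.val
    | .sr i => t * x ^ i.val) (by
      have htinv : t⁻¹ = t := inv_eq_of_mul_eq_one_left htt
      have hconj : ∀ k : ℕ, t * x ^ k * t⁻¹ = (x ^ k)⁻¹ := by
        intro k
        rw [← conj_pow, hinv, inv_pow]
      have hconj' : ∀ k : ℕ, x ^ k * t = t * (x ^ k)⁻¹ := by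
        intro k
        have := hconj k
        calc x ^ k * t = t * (t⁻¹ * x ^ k * t) := by group
          _ = t * (t * x ^ k * t⁻¹) := by rw [htinv]
          _ = t * (x ^ k)⁻¹ := by rw [this]
      have hcomm : ∀ a b : ℕ, x ^ a * (x ^ b)⁻¹ = (x ^ b)⁻¹ * x ^ a := by
        intro a b
        exact ((Commute.refl x).pow_pow a b).inv_right.eq
      rintro (i | i) (j | j)
      · exact S3R_pw_add hx3 i j
      · show t * x ^ (j - i).val = x ^ i.val * (t * x ^ j.val)
        rw [S3R_pw_sub hx3 i j, ← mul_assoc (x ^ i.val), hconj', hcomm]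
        group
      · show t * x ^ (i + j).val = t * x ^ i.val * x ^ j.val
        rw [S3R_pw_add hx3 i j, mul_assoc]
      · show x ^ (j - i).val = t * x ^ i.val * (t * x ^ j.val)
        rw [S3R_pw_sub hx3 i j, hcomm]
        calc (x ^ i.val)⁻¹ * x ^ j.val = (t * x ^ i.val * t⁻¹) * x ^ j.val := by rw [hconj]
          _ = t * x ^ i.val * (t * x ^ j.val) := by rw [htinv]; group)

/-- the sign character of the dihedral group of order 6 -/
noncomputable def S3R_dihSign : DihedralGroup 3 →* ℂˣ :=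
  MonoidHom.mk' (fun g => match g with
    | .r _ => 1
    | .sr _ => -1) (by
      rintro (i | i) (j | j) <;> simp)

theorem S3R_sum_dihedral (F : DihedralGroup 3 → ℂ) :
    ∑ g, F g = (F (.r 0) + F (.r 1) + F (.r 2)) + (F (.sr 0) + F (.sr 1) + F (.sr 2)) := by
  rw [Fintype.sum_equiv DihedralGroup.equivSum F (fun s => F (DihedralGroup.equivSum.symm s))
    (fun g => by rw [Equiv.symm_apply_apply]), Fintype.sum_sum_type]
  have e1 : ∀ f : ZMod 3 → ℂ, ∑ i, f i = f 0 + f 1 + f 2 := by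
    intro f
    exact Fin.sum_univ_three f
  rw [e1, e1]
  rfl

/-- (S3R) -/
theorem s3_restrict [Finite G] {θ : G → ℂ} (hθ : IsCharacter G θ) {x t : G}
    (hx3 : orderOf x = 3) (htt : t * t = 1) (hinv : t * x * t⁻¹ = x⁻¹) (d : ℕ) (a c : ℤ)
    (h1 : θ 1 = (d : ℂ)) (ha : θ x = (a : ℂ)) (hc : θ t = (c : ℂ)) :
    ∃ m₀ m₁ : ℕ, (d : ℤ) + 2 * a + 3 * c = 6 * m₀ ∧ (d : ℤ) + 2 * a - 3 * c = 6 * m₁ := by
  classical
  have htinv : t⁻¹ = t := inv_eq_of_mul_eq_one_left htt
  have hx3' : x ^ 3 = 1 := by rw [← hx3]; exact pow_orderOf_eq_one x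
  -- values on the other elements
  have ha2 : θ (x ^ 2) = (a : ℂ) := by
    have hx2 : x ^ 2 = x⁻¹ := by
      apply eq_inv_of_mul_eq_one_left
      rw [← pow_succ]; exact hx3'
    rw [hx2, ← hinv, ← ha]
    exact (Helper80.IsCharacter.eq_of_isConj hθ (isConj_iff.mpr ⟨t, rfl⟩)).symm
  have hxt : x * t = t * x⁻¹ := by
    calc x * t = t * (t⁻¹ * x * t) := by group
      _ = t * (t * x * t⁻¹) := by rw [htinv]
      _ = t * x⁻¹ := by rw [hinv]
  have hxx : x * x = x⁻¹ := by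
    apply eq_inv_of_mul_eq_one_left
    rw [← pow_two, ← pow_succ]; exact hx3'
  have hxx' : x⁻¹ * x⁻¹ = x := by
    rw [← mul_inv_rev, hxx, inv_inv]
  have hxit : x⁻¹ * t = t * x := by
    calc x⁻¹ * t = (t * x * t⁻¹) * t := by rw [hinv]
      _ = t * x := by group
  have hc1 : θ (t * x) = (c : ℂ) := by
    rw [← hc]
    have h3 : x * t * x⁻¹ = t * x := by
      rw [hxt, mul_assoc, hxx']
    rw [← h3]
    exact (Helper80.IsCharacter.eq_of_isConj hθ (isConj_iff.mpr ⟨x, rfl⟩)).symm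
  have hc2 : θ (t * x ^ 2) = (c : ℂ) := by
    rw [← hc]
    have h3 : x⁻¹ * t * (x⁻¹)⁻¹ = t * x ^ 2 := by
      rw [inv_inv, hxit, mul_assoc, ← pow_two]
    rw [← h3]
    exact (Helper80.IsCharacter.eq_of_isConj hθ (isConj_iff.mpr ⟨x⁻¹, rfl⟩)).symm
  set φ := S3R_dihHom hx3 htt hinv with hφ
  have hψ : IsCharacter (DihedralGroup 3) (θ ∘ φ) := Helper74.isCharacter_comp φ hθ
  have hr : ∀ i : ZMod 3, φ (.r i) = x ^ i.val := fun i => rfl
  have hsr : ∀ i : ZMod 3, φ (.sr i) = t * x ^ i.val := fun i => rfl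
  have hv0 : (0 : ZMod 3).val = 0 := rfl
  have hv1 : (1 : ZMod 3).val = 1 := rfl
  have hv2 : (2 : ZMod 3).val = 2 := rfl
  have hcard : (Nat.card (DihedralGroup 3) : ℂ) = 6 := by
    rw [DihedralGroup.nat_card]; norm_num
  obtain ⟨m₀, hm₀⟩ := Helper15.isCharacter_inner_nat hψ
    (Helper74.linFun_isCharacter (1 : DihedralGroup 3 →* ℂˣ))
  obtain ⟨m₁, hm₁⟩ := Helper15.isCharacter_inner_nat hψ (Helper74.linFun_isCharacter S3R_dihSign)
  rw [classInner, hcard, S3R_sum_dihedral] at hm₀ hm₁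
  simp only [Function.comp_apply, hr, hsr, hv0, hv1, hv2, pow_zero, pow_one, h1, hc, ha, ha2, hc1,
    hc2, Helper74.linFun_apply, MonoidHom.one_apply, Units.val_one, map_one, mul_one] at hm₀ hm₁
  have hs_r : ∀ i : ZMod 3, ((S3R_dihSign (.r i) : ℂˣ) : ℂ) = 1 := fun i => rfl
  have hs_sr : ∀ i : ZMod 3, ((S3R_dihSign (.sr i) : ℂˣ) : ℂ) = -1 := fun i => by
    show ((-1 : ℂˣ) : ℂ) = -1
    simp
  simp only [hs_r, hs_sr, map_one, map_neg, mul_one, mul_neg] at hm₁
  refine ⟨m₀, m₁, ?_, ?_⟩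
  · have : ((d : ℤ) + 2 * a + 3 * c : ℂ) = ((6 * m₀ : ℤ) : ℂ) := by
      push_cast
      linear_combination 6 * hm₀
    exact_mod_cast this
  · have : ((d : ℤ) + 2 * a - 3 * c : ℂ) = ((6 * m₁ : ℤ) : ℂ) := by
      push_cast
      linear_combination 6 * hm₁
    exact_mod_cast this

end Cfsg.Agent.Helper53.SC3C
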