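import Mathlib

set_option autoImplicit false

namespace Cfsg.Agent.Helper53

open Matrix Polynomial

variable {F : Type*} [Field F] [Fintype F]

/-- every element of a finite field of odd order is a sum of two squares -/
lemma exists_sq_add_sq (hF : Odd (Fintype.card F)) (c : F) : ∃ α β : F, α ^ 2 + β ^ 2 = c := by
  have h1 : (X ^ 2 : F[X]).degree = 2 := by simp
  have h2 : (X ^ 2 - C c : F[X]).degree = 2 := by
    rw [degree_sub_eq_left_of_degree_lt]
    · simp
    · simp only [degree_X_pow, Nat.cast_ofNat]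
      exact lt_of_le_of_lt degree_C_le (by norm_num)
  obtain ⟨a, b, hab⟩ := FiniteField.exists_root_sum_quadratic h1 h2 (Nat.odd_iff.mp hF)
  refine ⟨a, b, ?_⟩
  simp at hab
  linear_combination hab

lemma two_ne_zero_of_odd_card (hF : Odd (Fintype.card F)) : (2 : F) ≠ 0 := by
  apply Ring.two_ne_zero
  intro h
  have := FiniteField.even_card_iff_char_two.mp h
  rw [Nat.odd_iff] at hF
  omega

/-- the standard element of order 4 of `SL₂` -/
def wSL : Matrix.SpecialLinearGroup (Fin 2) F :=
  ⟨!![0, -1; 1, 0], by simp [Matrix.det_fin_two]⟩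

omit [Fintype F] in
lemma wSL_sq : (wSL : Matrix.SpecialLinearGroup (Fin 2) F) * wSL = -1 := by
  apply Subtype.ext
  rw [Matrix.SpecialLinearGroup.coe_mul, Matrix.SpecialLinearGroup.coe_neg,
    Matrix.SpecialLinearGroup.coe_one]
  ext i j
  fin_cases i <;> fin_cases j <;> simp [wSL, Matrix.mul_apply, Fin.sum_univ_two]

omit [Fintype F] in
/-- entrywise description of `x * x = -1` in `SL₂` -/
lemma sq_eq_neg_one_iff (x : Matrix.SpecialLinearGroup (Fin 2) F) :
    x * x = -1 ↔ (x 0 0 * x 0 0 + x 0 1 * x 1 0 = -1 ∧ x 0 0 * x 0 1 + x 0 1 * x 1 1 = 0 ∧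
      x 1 0 * x 0 0 + x 1 1 * x 1 0 = 0 ∧ x 1 0 * x 0 1 + x 1 1 * x 1 1 = -1) := by
  constructor
  · intro h
    have h' : ∀ i j, (x * x : Matrix.SpecialLinearGroup (Fin 2) F) i j = (-1 : Matrix.SpecialLinearGroup (Fin 2) F) i j := by
      intro i j; rw [h]
    have h00 := h' 0 0
    have h01 := h' 0 1
    have h10 := h' 1 0
    have h11 := h' 1 1
    simp [Matrix.mul_apply, Fin.sum_univ_two] at h00 h01 h10 h11
    exact ⟨h00, h01, h10, h11⟩
  · rintro ⟨h00, h01, h10, h11⟩
    apply Subtype.ext
    ext i j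
    fin_cases i <;> fin_cases j <;> simp [Matrix.mul_apply, Fin.sum_univ_two] <;> assumption

/-- every `x ∈ SL₂(F)` with `x² = -1` is conjugate to the standard one -/
lemma conj_wSL_of_sq_eq_neg_one (hF : Odd (Fintype.card F)) (x : Matrix.SpecialLinearGroup (Fin 2) F)
    (hx : x * x = -1) : ∃ g : Matrix.SpecialLinearGroup (Fin 2) F, g * wSL * g⁻¹ = x := by
  have h2 : (2 : F) ≠ 0 := two_ne_zero_of_odd_card hF
  obtain ⟨h00, h01, h10, h11⟩ := (sq_eq_neg_one_iff x).mp hx
  have hdet : x 0 0 * x 1 1 - x 0 1 * x 1 0 = 1 := by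
    have := x.2
    rw [Matrix.det_fin_two] at this
    exact this
  set a := x 0 0 with ha
  set b := x 0 1 with hb
  set c := x 1 0 with hc
  set d := x 1 1 with hd
  -- trace zero
  have htr : a + d = 0 := by
    by_contra hne
    have hb0 : b = 0 := by
      have : (a + d) * b = 0 := by linear_combination h01
      exact (mul_eq_zero.mp this).resolve_left hne
    have hc0 : c = 0 := by
      have : (a + d) * c = 0 := by linear_combination h10
      exact (mul_eq_zero.mp this).resolve_left hne
    rw [hb0, hc0] at h00 h11 hdet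
    apply hne
    have ha0 : a ≠ 0 := by
      intro h; rw [h] at hdet; simp at hdet
    have : a * (a + d) = 0 := by linear_combination h00 + hdet
    exact (mul_eq_zero.mp this).resolve_left ha0
  have hd' : d = -a := by linear_combination htr
  -- find (p, q) with c p² + (d - a) p q - b q² = 1
  obtain ⟨p, q, hpq⟩ : ∃ p q : F, c * p ^ 2 + (d - a) * p * q - b * q ^ 2 = 1 := by
    by_cases hc0 : c = 0
    · have ha2 : a * a = -1 := by rw [hc0] at h00; linear_combination h00
      have ha0 : a ≠ 0 := by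
        intro h; rw [h] at ha2; simp at ha2
      refine ⟨-(1 + b) / (2 * a), 1, ?_⟩
      rw [hc0, hd']
      field_simp
      ring
    · obtain ⟨α, β, hαβ⟩ := exists_sq_add_sq hF c
      have hcp : c * ((α + a * β) / c) = α + a * β := by field_simp
      refine ⟨(α + a * β) / c, β, ?_⟩
      generalize (α + a * β) / c = p at hcp
      rw [hd']
      apply mul_left_cancel₀ hc0
      linear_combination (c * p + (α + a * β) - 2 * a * β) * hcp + hαβ - β ^ 2 * h00
  -- define g with columns v = (p, q) and x v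
  let r := a * p + b * q
  let s := c * p + d * q
  have hg : Matrix.det !![p, r; q, s] = 1 := by
    rw [Matrix.det_fin_two]
    simp only [Matrix.of_apply, Matrix.cons_val', Matrix.cons_val_zero, Matrix.cons_val_one,
      Matrix.empty_val', Matrix.cons_val_fin_one, r, s]
    linear_combination hpq
  let g : Matrix.SpecialLinearGroup (Fin 2) F := ⟨!![p, r; q, s], hg⟩
  refine ⟨g, ?_⟩
  rw [mul_inv_eq_iff_eq_mul]
  apply Subtype.ext
  rw [Matrix.SpecialLinearGroup.coe_mul, Matrix.SpecialLinearGroup.coe_mul]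
  ext i j
  fin_cases i <;> fin_cases j
  · simp [g, wSL, Matrix.mul_apply, Fin.sum_univ_two, r, s, ← ha, ← hb]
  · simp [g, wSL, Matrix.mul_apply, Fin.sum_univ_two, r, s, ← ha, ← hb]
    linear_combination (-p) * h00 - q * h01
  · simp [g, wSL, Matrix.mul_apply, Fin.sum_univ_two, r, s, ← hc, ← hd]
  · simp [g, wSL, Matrix.mul_apply, Fin.sum_univ_two, r, s, ← hc, ← hd]
    linear_combination (-p) * h10 - q * h11

/-- all `x ∈ SL₂(F)` with `x² = -1` are conjugate -/
lemma conj_of_sq_eq_neg_one (hF : Odd (Fintype.card F)) (x y : Matrix.SpecialLinearGroup (Fin 2) F)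
    (hx : x * x = -1) (hy : y * y = -1) :
    ∃ g : Matrix.SpecialLinearGroup (Fin 2) F, g * x * g⁻¹ = y := by
  obtain ⟨g₁, hg₁⟩ := conj_wSL_of_sq_eq_neg_one hF x hx
  obtain ⟨g₂, hg₂⟩ := conj_wSL_of_sq_eq_neg_one hF y hy
  refine ⟨g₂ * g₁⁻¹, ?_⟩
  rw [← hg₁, ← hg₂]
  group

omit [Fintype F] in
/-- the only elements of `SL₂(F)` with `x² = 1` are `±1` (char ≠ 2) -/
lemma eq_one_or_neg_one_of_sq_eq_one (h2 : (2 : F) ≠ 0) (x : Matrix.SpecialLinearGroup (Fin 2) F)
    (hx : x * x = 1) : x = 1 ∨ x = -1 := by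
  have h' : ∀ i j, (x * x : Matrix.SpecialLinearGroup (Fin 2) F) i j = (1 : Matrix.SpecialLinearGroup (Fin 2) F) i j := by
    intro i j; rw [hx]
  have h00 := h' 0 0
  have h01 := h' 0 1
  have h10 := h' 1 0
  have h11 := h' 1 1
  simp [Matrix.mul_apply, Fin.sum_univ_two] at h00 h01 h10 h11
  have hdet : x 0 0 * x 1 1 - x 0 1 * x 1 0 = 1 := by
    have := x.2
    rw [Matrix.det_fin_two] at this
    exact this
  set a := x 0 0 with ha
  set b := x 0 1 with hb
  set c := x 1 0 with hc
  set d := x 1 1 with hd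
  -- a² + bc = 1, ad - bc = 1 → a (a + d) = 2; similarly d (a + d) = 2; b (a + d) = 0; c (a+d) = 0
  have e1 : a * (a + d) = 2 := by linear_combination h00 + hdet
  have e2 : d * (a + d) = 2 := by linear_combination h11 + hdet
  have hne : a + d ≠ 0 := by
    intro h; rw [h] at e1; simp at e1; exact h2 e1.symm
  have hb0 : b = 0 := by
    have : (a + d) * b = 0 := by linear_combination h01
    exact (mul_eq_zero.mp this).resolve_left hne
  have hc0 : c = 0 := by
    have : (a + d) * c = 0 := by linear_combination h10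
    exact (mul_eq_zero.mp this).resolve_left hne
  have had : a = d := by
    have : (a - d) * (a + d) = 0 := by linear_combination e1 - e2
    have := (mul_eq_zero.mp this).resolve_right hne
    linear_combination this
  have ha2 : a * a = 1 := by rw [hb0] at h00; linear_combination h00
  have ha1 : a = 1 ∨ a = -1 := by
    have : (a - 1) * (a + 1) = 0 := by linear_combination ha2
    rcases mul_eq_zero.mp this with h | h
    · left; linear_combination h
    · right; linear_combination h
  rcases ha1 with h | h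
  · left
    apply Subtype.ext
    ext i j
    fin_cases i <;> fin_cases j <;> simp [← ha, ← hb, ← hc, ← hd, hb0, hc0, ← had, h]
  · right
    apply Subtype.ext
    ext i j
    fin_cases i <;> fin_cases j <;> simp [← ha, ← hb, ← hc, ← hd, hb0, hc0, ← had, h]

end Cfsg.Agent.Helper53
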