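import Mathlib
import Cfsg.Agent.Helper84.SU3P.Defs

/-!
S2289 (helper84), piece (ZG): the elements of `Z̃` are good, and `t² ∈ H̃`.
-/

set_option autoImplicit false
set_option linter.unusedSimpArgs false
set_option linter.unnecessarySeqFocus false

namespace Cfsg.Agent.Helper53.SU3P

open Matrix Polynomial Cfsg.Agent.Helper84.RU3 Cfsg.Agent.Helper96.SLPres
  Cfsg.Agent.Helper96.StemSLTwo Cfsg.Agent.Helper96.StPres Cfsg.Agent.Helper84.SU3P

variable {D : Type*} [Group D] {K₀ : Type*} [Field K₀]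

/-- the rank one Bruhat identity in `SL₂` -/
theorem WU_conj_uMat (s : K₀) (hs : s ≠ 0) :
    WU (1 : K₀) * uMat K₀ s * (WU (1 : K₀))⁻¹ =
      uMat K₀ (-s⁻¹) * dMat s⁻¹ (inv_ne_zero hs) * WU (1 : K₀) * uMat K₀ (-s⁻¹) := by
  rw [mul_inv_eq_iff_eq_mul]
  apply Subtype.ext
  simp only [Matrix.SpecialLinearGroup.coe_mul, WU_coe (1 : K₀) one_ne_zero, uMat_coe, dMat_coe]
  ext i j
  fin_cases i <;> fin_cases j <;>
    simp [Matrix.mul_apply, Fin.sum_univ_two, hs]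

/-- the square of the Weyl element -/
theorem WU_one_sq : WU (1 : K₀) ^ 2 = dMat (-1 : K₀) (neg_ne_zero.mpr one_ne_zero) := by
  rw [pow_two]
  apply Subtype.ext
  simp only [Matrix.SpecialLinearGroup.coe_mul, WU_coe (1 : K₀) one_ne_zero, dMat_coe]
  ext i j
  fin_cases i <;> fin_cases j <;>
    simp [Matrix.mul_apply, Fin.sum_univ_two, inv_neg]

/-- (ZG) the elements of `Z̃` are good, and `t² ∈ H̃` -/
theorem z_good (φ : SL2 K₀ →* D) (Ut Ht : Subgroup D) (t : D) (hφt : φ (WU 1) = t)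
    (hZU : ∀ s : K₀, φ (uMat K₀ s) ∈ Ut) (hdH : ∀ (r : K₀) (hr : r ≠ 0), φ (dMat r hr) ∈ Ht) :
    (∀ s : K₀, Good (Ut ⊔ Ht) t (φ (uMat K₀ s))) ∧ t ^ 2 ∈ Ht := by
  constructor
  · intro s
    unfold Good Sset
    by_cases hs : s = 0
    · left
      subst hs
      rw [uMat_zero, map_one, mul_one, mul_inv_cancel]
      exact one_mem _
    · right
      refine ⟨φ (uMat K₀ (-s⁻¹)) * φ (dMat s⁻¹ (inv_ne_zero hs)), ?_, φ (uMat K₀ (-s⁻¹)), ?_, ?_⟩
      · exact mul_mem (Subgroup.mem_sup_left (hZU _)) (Subgroup.mem_sup_right (hdH _ _))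
      · exact Subgroup.mem_sup_left (hZU _)
      · rw [← hφt, ← map_inv, ← map_mul, ← map_mul, WU_conj_uMat s hs, map_mul, map_mul, map_mul]
  · rw [← hφt, ← map_pow, WU_one_sq]
    exact hdH _ _

end Cfsg.Agent.Helper53.SU3P
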