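import Mathlib

set_option autoImplicit false

namespace Cfsg.Agent.Helper53

variable {G : Type*} [Group G]

/-- A conjugation-invariant set of elements of order `p`, closed under non-trivial powers, in which
any two commuting independent members span a "line" all of whose non-identity elements belong to
the set and which is met by the centralizer of each member. -/
structure ShultSet (p : ℕ) (K : Set G) : Prop where
  ne_one : ∀ g ∈ K, g ≠ 1
  pow_p : ∀ g ∈ K, g ^ p = 1
  conj : ∀ g ∈ K, ∀ h : G, h * g * h⁻¹ ∈ K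
  pow : ∀ g ∈ K, ∀ i : ℕ, g ^ i ≠ 1 → g ^ i ∈ K
  line : ∀ x ∈ K, ∀ y ∈ K, Commute x y → y ∉ Subgroup.zpowers x → ∀ i j : ℕ,
    x ^ i * y ^ j ≠ 1 → x ^ i * y ^ j ∈ K
  meet : ∀ x ∈ K, ∀ y ∈ K, Commute x y → y ∉ Subgroup.zpowers x → ∀ w ∈ K,
    ∃ i j : ℕ, x ^ i * y ^ j ≠ 1 ∧ Commute w (x ^ i * y ^ j)

namespace ShultSet

variable {p : ℕ} [hp : Fact p.Prime] {K : Set G}

theorem orderOf_eq (hK : ShultSet p K) {g : G} (hg : g ∈ K) : orderOf g = p :=
  orderOf_eq_prime (hK.pow_p g hg) (hK.ne_one g hg)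

/-- A non-identity power of a member generates the same cyclic group. -/
theorem mem_zpowers_of_mem_zpowers (hK : ShultSet p K) {g h : G} (hg : g ∈ K)
    (hh : h ∈ Subgroup.zpowers g) (h1 : h ≠ 1) : g ∈ Subgroup.zpowers h := by
  have hcard : Nat.card ↥(Subgroup.zpowers g) = p := by
    rw [Nat.card_zpowers, hK.orderOf_eq hg]
  have hle : Subgroup.zpowers h ≤ Subgroup.zpowers g := (Subgroup.zpowers_le).mpr hh
  have hdvd : Nat.card ↥(Subgroup.zpowers h) ∣ p := by
    rw [← hcard]; exact Subgroup.card_dvd_of_le hle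
  have hne : Nat.card ↥(Subgroup.zpowers h) ≠ 1 := by
    rw [Nat.card_zpowers]
    intro h0
    exact h1 (orderOf_eq_one_iff.mp h0)
  have heq : Nat.card ↥(Subgroup.zpowers h) = p := by
    rcases (Nat.dvd_prime hp.out).mp hdvd with h0 | h0
    · exact absurd h0 hne
    · exact h0
  have hfin : Finite ↥(Subgroup.zpowers g) := Nat.finite_of_card_ne_zero (by
    rw [hcard]; exact hp.out.ne_zero)
  have : Subgroup.zpowers h = Subgroup.zpowers g := by
    have hfin' : (Subgroup.zpowers g : Set G).Finite := Set.toFinite _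
    apply SetLike.coe_injective
    apply Set.eq_of_subset_of_ncard_le hle _ hfin'
    rw [← Nat.card_coe_set_eq, ← Nat.card_coe_set_eq]
    show Nat.card ↥(Subgroup.zpowers g) ≤ Nat.card ↥(Subgroup.zpowers h)
    rw [hcard, heq]
  rw [this]
  exact Subgroup.mem_zpowers g

theorem exists_pow_eq_of_mem_zpowers (hK : ShultSet p K) {g h : G} (hg : g ∈ K)
    (hh : h ∈ Subgroup.zpowers g) : ∃ i : ℕ, g ^ i = h := by
  have hfo : IsOfFinOrder g := by
    rw [← orderOf_pos_iff, hK.orderOf_eq hg]; exact hp.out.pos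
  exact hfo.mem_powers_iff_mem_zpowers.mpr hh

theorem mem_of_mem_zpowers (hK : ShultSet p K) {g h : G} (hg : g ∈ K)
    (hh : h ∈ Subgroup.zpowers g) (h1 : h ≠ 1) : h ∈ K := by
  obtain ⟨i, rfl⟩ := hK.exists_pow_eq_of_mem_zpowers hg hh
  exact hK.pow g hg i h1

/-- If `w` commutes with a non-identity element of `⟨x⟩` it commutes with `x`. -/
theorem commute_of_commute_mem_zpowers (hK : ShultSet p K) {x h w : G} (hx : x ∈ K)
    (hh : h ∈ Subgroup.zpowers x) (h1 : h ≠ 1) (hc : Commute w h) : Commute w x := by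
  have := hK.mem_zpowers_of_mem_zpowers hx hh h1
  obtain ⟨i, rfl⟩ := Subgroup.mem_zpowers_iff.mp this
  exact hc.zpow_right i

/-- Key step: on the line through `x` and `u`, the coset `⟨x⟩ u` contains an element commuting with
`w`. -/
theorem exists_pow_mul_commute (hK : ShultSet p K) {x u w : G} (hx : x ∈ K) (hu : u ∈ K)
    (hxu : Commute x u) (hux : u ∉ Subgroup.zpowers x) (hw : w ∈ K) (hxw : ¬ Commute x w) :
    ∃ i : ℕ, x ^ i * u ∈ K ∧ Commute w (x ^ i * u) := by
  obtain ⟨i, j, hne, hc⟩ := hK.meet x hx u hu hxu hux w hw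
  by_cases hj : p ∣ j
  · exfalso
    obtain ⟨k, rfl⟩ := hj
    rw [pow_mul, hK.pow_p u hu, one_pow, mul_one] at hne hc
    exact hxw (hK.commute_of_commute_mem_zpowers hx (Subgroup.npow_mem_zpowers x i) hne hc).symm
  · have hcop : Nat.Coprime j p := ((Nat.Prime.coprime_iff_not_dvd hp.out).mpr hj).symm
    obtain ⟨k, -, hk⟩ := Nat.exists_mul_mod_eq_one_of_coprime hcop hp.out.one_lt
    have h1 : (x ^ i * u ^ j) ^ k = x ^ (i * k) * u := by
      rw [(hxu.pow_pow i j).mul_pow, ← pow_mul, ← pow_mul, pow_eq_pow_mod (j * k) (hK.pow_p u hu),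
        hk, pow_one]
    have h2 : x ^ (i * k) * u ≠ 1 := by
      intro h0
      apply hux
      have : u = (x ^ (i * k))⁻¹ := by
        rw [eq_inv_iff_mul_eq_one, ← (hxu.pow_left (i * k)).eq]
        exact h0
      rw [this]
      exact (Subgroup.zpowers x).inv_mem (Subgroup.npow_mem_zpowers x _)
    refine ⟨i * k, ?_, ?_⟩
    · have := hK.line x hx u hu hxu hux (i * k) 1
      rw [pow_one] at this
      exact this h2
    · rw [← h1]
      exact hc.pow_right k

end ShultSet

end Cfsg.Agent.Helper53
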