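import Mathlib
import Cfsg.Agent.Helper53.Shult1

set_option autoImplicit false

namespace Cfsg.Agent.Helper53

variable {G : Type*} [Group G]

/-- Members of `K` commuting with `x`. -/
def shCen (K : Set G) (x : G) : Set G := {w | w ∈ K ∧ Commute x w}

/-- Members of `K` commuting with both `x` and `w`. -/
def shT (K : Set G) (x w : G) : Set G := {t | t ∈ K ∧ Commute x t ∧ Commute w t}

/-- Members of `K` commuting with `x` and outside `⟨x⟩`. -/
def shD (K : Set G) (x : G) : Set G := {u | u ∈ K ∧ Commute x u ∧ u ∉ Subgroup.zpowers x}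

theorem shT_comm (K : Set G) (x w : G) : shT K x w = shT K w x := by
  ext t
  simp only [shT, Set.mem_ofPred_eq]
  tauto

namespace ShultSet

variable {p : ℕ} [hp : Fact p.Prime] {K : Set G}

theorem not_mem_zpowers_of_mem_shT (hK : ShultSet p K) {x w t : G} (hx : x ∈ K)
    (hxw : ¬ Commute x w) (ht : t ∈ shT K x w) : t ∉ Subgroup.zpowers x := by
  intro h
  obtain ⟨htK, -, hwt⟩ := ht
  exact hxw (hK.commute_of_commute_mem_zpowers hx h (hK.ne_one t htK) hwt).symm

theorem card_shD [Finite G] (hK : ShultSet p K) {x w : G} (hx : x ∈ K) (hw : w ∈ K)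
    (hxw : ¬ Commute x w) : Nat.card ↥(shD K x) = Nat.card ↥(shT K x w) * p := by
  have hord : orderOf x = p := hK.orderOf_eq hx
  have hwd : ∀ (t : ↥(shT K x w)) (i : Fin p), x ^ (i : ℕ) * (t : G) ∈ shD K x := by
    intro t i
    obtain ⟨htK, hxt, hwt⟩ := t.2
    have htz := hK.not_mem_zpowers_of_mem_shT hx hxw t.2
    have hnz : x ^ (i : ℕ) * (t : G) ∉ Subgroup.zpowers x := by
      intro h0
      apply htz
      have : (t : G) = (x ^ (i : ℕ))⁻¹ * (x ^ (i : ℕ) * (t : G)) := by group
      rw [this]
      exact (Subgroup.zpowers x).mul_mem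
        ((Subgroup.zpowers x).inv_mem (Subgroup.npow_mem_zpowers x _)) h0
    refine ⟨?_, ?_, hnz⟩
    · have := hK.line x hx t htK hxt htz (i : ℕ) 1
      rw [pow_one] at this
      apply this
      intro h0
      apply hnz
      rw [h0]; exact (Subgroup.zpowers x).one_mem
    · exact ((Commute.refl x).pow_right _).mul_right hxt
  let f : ↥(shT K x w) × Fin p → ↥(shD K x) := fun q => ⟨x ^ (q.2 : ℕ) * (q.1 : G), hwd q.1 q.2⟩
  have hf : Function.Bijective f := by
    constructor
    · rintro ⟨t, i⟩ ⟨t', j⟩ h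
      have h1 : x ^ (i : ℕ) * (t : G) = x ^ (j : ℕ) * (t' : G) := congrArg Subtype.val h
      have hij : (i : ℕ) = (j : ℕ) := by
        by_contra hne
        -- the element (x^j)⁻¹ x^i is a non-identity element of ⟨x⟩ commuting with w
        have h2 : (x ^ (j : ℕ))⁻¹ * x ^ (i : ℕ) = (t' : G) * (t : G)⁻¹ := by
          have : x ^ (i : ℕ) = x ^ (j : ℕ) * (t' : G) * (t : G)⁻¹ := by
            rw [← h1]; group
          rw [this]; group
        have h3 : Commute w ((x ^ (j : ℕ))⁻¹ * x ^ (i : ℕ)) := by
          rw [h2]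
          exact t'.2.2.2.mul_right t.2.2.2.inv_right
        have h4 : (x ^ (j : ℕ))⁻¹ * x ^ (i : ℕ) ≠ 1 := by
          intro h0
          apply hne
          have h5 : x ^ (i : ℕ) = x ^ (j : ℕ) := by
            rw [inv_mul_eq_one] at h0; exact h0.symm
          have hi : (i : ℕ) < orderOf x := by rw [hord]; exact i.2
          have hj : (j : ℕ) < orderOf x := by rw [hord]; exact j.2
          exact pow_injOn_Iio_orderOf hi hj h5
        have h6 : (x ^ (j : ℕ))⁻¹ * x ^ (i : ℕ) ∈ Subgroup.zpowers x :=
          (Subgroup.zpowers x).mul_mem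
            ((Subgroup.zpowers x).inv_mem (Subgroup.npow_mem_zpowers x _))
            (Subgroup.npow_mem_zpowers x _)
        exact hxw (hK.commute_of_commute_mem_zpowers hx h6 h4 h3).symm
      have hij' : i = j := Fin.ext hij
      subst hij'
      have h7 : (t : G) = (t' : G) := mul_left_cancel h1
      have : t = t' := Subtype.ext h7
      rw [this]
    · rintro ⟨u, huK, hxu, huz⟩
      obtain ⟨i, hiK, hic⟩ := hK.exists_pow_mul_commute hx huK hxu huz hw hxw
      have hmem : x ^ i * u ∈ shT K x w :=
        ⟨hiK, ((Commute.refl x).pow_right _).mul_right hxu, hic⟩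
      -- take the exponent (p - i % p) % p
      have hp0 : 0 < p := hp.out.pos
      refine ⟨(⟨x ^ i * u, hmem⟩, ⟨(p - i % p) % p, Nat.mod_lt _ hp0⟩), ?_⟩
      apply Subtype.ext
      show x ^ ((p - i % p) % p) * (x ^ i * u) = u
      have hxp : x ^ p = 1 := hK.pow_p x hx
      rw [← pow_eq_pow_mod _ hxp, ← mul_assoc, ← pow_add]
      have h8 : (p - i % p + i) % p = 0 := by
        have h9 : i % p < p := Nat.mod_lt _ hp0
        have h10 : p - i % p + i = p + (i - i % p) := by
          have := Nat.mod_le i p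
          omega
        rw [h10]
        have h11 : (i - i % p) % p = 0 := Nat.sub_mod_eq_zero_of_mod_eq (by rw [Nat.mod_mod])
        rw [Nat.add_mod, Nat.mod_self, h11]
        simp
      rw [pow_eq_pow_mod _ hxp, h8, pow_zero, one_mul]
  rw [← Nat.card_congr (Equiv.ofBijective f hf), Nat.card_prod, Nat.card_eq_fintype_card (α := Fin p),
    Fintype.card_fin]

end ShultSet

end Cfsg.Agent.Helper53
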