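import Mathlib
import Cfsg.Agent.Helper53.Shult2

set_option autoImplicit false

namespace Cfsg.Agent.Helper53

variable {G : Type*} [Group G]

namespace ShultSet

variable {p : ℕ} [hp : Fact p.Prime] {K : Set G}

theorem shCen_eq_union (hK : ShultSet p K) {x : G} (hx : x ∈ K) :
    shCen K x = shD K x ∪ ((Subgroup.zpowers x : Set G) \ {1}) := by
  ext g
  simp only [shCen, shD, Set.mem_ofPred_eq, Set.mem_union, Set.mem_sdiff, Set.mem_singleton_iff,
    SetLike.mem_coe]
  constructor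
  · rintro ⟨hgK, hxg⟩
    by_cases hz : g ∈ Subgroup.zpowers x
    · exact Or.inr ⟨hz, hK.ne_one g hgK⟩
    · exact Or.inl ⟨hgK, hxg, hz⟩
  · rintro (⟨hgK, hxg, -⟩ | ⟨hz, h1⟩)
    · exact ⟨hgK, hxg⟩
    · refine ⟨hK.mem_of_mem_zpowers hx hz h1, ?_⟩
      obtain ⟨i, rfl⟩ := Subgroup.mem_zpowers_iff.mp hz
      exact (Commute.refl x).zpow_right i

theorem ncard_shCen [Finite G] (hK : ShultSet p K) {x w : G} (hx : x ∈ K) (hw : w ∈ K)
    (hxw : ¬ Commute x w) : (shCen K x).ncard = (shT K x w).ncard * p + (p - 1) := by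
  rw [hK.shCen_eq_union hx, Set.ncard_union_eq _ (Set.toFinite _) (Set.toFinite _)]
  · congr 1
    · rw [← Nat.card_coe_set_eq, ← Nat.card_coe_set_eq]
      exact hK.card_shD hx hw hxw
    · rw [Set.ncard_sdiff_singleton_of_mem (Subgroup.one_mem _), ← Nat.card_coe_set_eq]
      show Nat.card ↥(Subgroup.zpowers x) - 1 = p - 1
      rw [Nat.card_zpowers, hK.orderOf_eq hx]
  · rw [Set.disjoint_left]
    rintro g ⟨-, -, hgz⟩ ⟨hz, -⟩
    exact hgz hz

theorem ncard_shCen_eq [Finite G] (hK : ShultSet p K) {x w : G} (hx : x ∈ K) (hw : w ∈ K)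
    (hxw : ¬ Commute x w) : (shCen K x).ncard = (shCen K w).ncard := by
  rw [hK.ncard_shCen hx hw hxw, hK.ncard_shCen hw hx (fun h => hxw h.symm), shT_comm]

theorem ncard_shT_eq [Finite G] (hK : ShultSet p K) {a b c d : G} (ha : a ∈ K) (hb : b ∈ K)
    (hc : c ∈ K) (hd : d ∈ K) (hab : ¬ Commute a b) (hcd : ¬ Commute c d)
    (h : (shCen K a).ncard = (shCen K c).ncard) : (shT K a b).ncard = (shT K c d).ncard := by
  rw [hK.ncard_shCen ha hb hab, hK.ncard_shCen hc hd hcd] at h
  have h2 : (shT K a b).ncard * p = (shT K c d).ncard * p := by omega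
  exact Nat.eq_of_mul_eq_mul_right hp.out.pos h2

/-- Every member lies on a line, provided some line exists. -/
theorem exists_line (hK : ShultSet p K)
    (hex : ∃ x ∈ K, ∃ y ∈ K, Commute x y ∧ y ∉ Subgroup.zpowers x) {x : G} (hx : x ∈ K) :
    ∃ u ∈ K, Commute x u ∧ u ∉ Subgroup.zpowers x := by
  obtain ⟨x0, hx0, y0, hy0, hc0, hy0x0⟩ := hex
  obtain ⟨i, j, hne, hc⟩ := hK.meet x0 hx0 y0 hy0 hc0 hy0x0 x hx
  have heK : x0 ^ i * y0 ^ j ∈ K := hK.line x0 hx0 y0 hy0 hc0 hy0x0 i j hne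
  by_cases he : x0 ^ i * y0 ^ j ∈ Subgroup.zpowers x
  · -- then `x` lies in `⟨x0, y0⟩`
    have hxe : x ∈ Subgroup.zpowers (x0 ^ i * y0 ^ j) :=
      hK.mem_zpowers_of_mem_zpowers hx he hne
    obtain ⟨k, hk⟩ := Subgroup.mem_zpowers_iff.mp hxe
    have hxx0 : Commute x x0 := by
      rw [← hk]
      exact (((Commute.refl x0).pow_left i).mul_left (hc0.symm.pow_left j)).zpow_left k
    have hxy0 : Commute x y0 := by
      rw [← hk]
      exact ((hc0.pow_left i).mul_left ((Commute.refl y0).pow_left j)).zpow_left k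
    by_cases h1 : x0 ∈ Subgroup.zpowers x
    · refine ⟨y0, hy0, hxy0, ?_⟩
      intro h2
      apply hy0x0
      have h3 : x ∈ Subgroup.zpowers x0 := hK.mem_zpowers_of_mem_zpowers hx h1 (hK.ne_one x0 hx0)
      exact (Subgroup.zpowers_le.mpr h3) h2
    · exact ⟨x0, hx0, hxx0, h1⟩
  · exact ⟨_, heK, hc, he⟩

/-- Main step: in the absence of a member commuting with all others, a member commutes with its
conjugates under any other member. -/
theorem commute_conj_of_noRadical [Finite G] (hK : ShultSet p K)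
    (hex : ∃ x ∈ K, ∃ y ∈ K, Commute x y ∧ y ∉ Subgroup.zpowers x)
    (hrad : ∀ v ∈ K, ∃ w ∈ K, ¬ Commute v w) {x w : G} (hx : x ∈ K) (hw : w ∈ K)
    (hxw : ¬ Commute x w) : Commute w (x * w * x⁻¹) := by
  by_contra hww'
  obtain ⟨u, hu, hxu, hux⟩ := hK.exists_line hex hx
  obtain ⟨i, hzK, hwz⟩ := hK.exists_pow_mul_commute hx hu hxu hux hw hxw
  set z := x ^ i * u with hz
  have hxz : Commute x z := ((Commute.refl x).pow_right _).mul_right hxu
  have hzx : z ∉ Subgroup.zpowers x := by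
    intro h0
    apply hux
    have : u = (x ^ i)⁻¹ * z := by rw [hz]; group
    rw [this]
    exact (Subgroup.zpowers x).mul_mem
      ((Subgroup.zpowers x).inv_mem (Subgroup.npow_mem_zpowers x _)) h0
  have hxp : x ^ p = 1 := hK.pow_p x hx
  have hp0 : 0 < p := hp.out.pos
  have hxinv : x ^ (p - 1) = x⁻¹ := by
    apply eq_inv_of_mul_eq_one_left
    rw [← pow_succ, Nat.sub_add_cancel hp0, hxp]
  set y := x⁻¹ * z with hy
  have hzxy : z = x * y := by rw [hy]; group
  have hyz' : y ∉ Subgroup.zpowers x := by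
    intro h0
    apply hzx
    rw [hzxy]
    exact (Subgroup.zpowers x).mul_mem (Subgroup.mem_zpowers x) h0
  have hyK : y ∈ K := by
    have h1 : y = x ^ (p - 1 + i) * u ^ 1 := by
      rw [hy, hz, pow_add, hxinv, pow_one]; group
    rw [h1]
    apply hK.line x hx u hu hxu hux
    rw [← h1]
    intro h0
    apply hyz'
    rw [h0]; exact (Subgroup.zpowers x).one_mem
  have hxy : Commute x y := (Commute.refl x).inv_right.mul_right hxz
  have hyw : ¬ Commute y w := by
    intro h0
    apply hxw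
    have : x = z * y⁻¹ := by rw [hzxy]; group
    rw [this]
    exact hwz.symm.mul_left h0.inv_left
  have hyx : x ∉ Subgroup.zpowers y := by
    intro h0
    exact hyz' (hK.mem_zpowers_of_mem_zpowers hyK h0 (hK.ne_one x hx))
  set w' := x * w * x⁻¹ with hw'
  have hw'K : w' ∈ K := hK.conj w hw x
  have hzy : Commute z y := by
    rw [hzxy]; exact hxy.mul_left (Commute.refl y)
  have hw'y : w' = y⁻¹ * w * y := by
    have h1 : Commute z (y⁻¹ * w * y) := (hzy.inv_right.mul_right hwz.symm).mul_right hzy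
    have h2 : x * w * x⁻¹ = z * (y⁻¹ * w * y) * z⁻¹ := by rw [hzxy]; group
    rw [hw', h2, h1.mul_inv_cancel]
  -- cardinalities
  have hnx : (shCen K x).ncard = (shCen K w).ncard := hK.ncard_shCen_eq hx hw hxw
  have hny : (shCen K y).ncard = (shCen K w).ncard := hK.ncard_shCen_eq hyK hw hyw
  have hT1 : (shT K x w).ncard = (shT K w w').ncard :=
    hK.ncard_shT_eq hx hw hw hw'K hxw hww' hnx
  have hT2 : (shT K y w).ncard = (shT K w w').ncard :=
    hK.ncard_shT_eq hyK hw hw hw'K hyw hww' hny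
  have hsub1 : shT K x w ⊆ shT K w w' := by
    rintro t ⟨htK, hxt, hwt⟩
    exact ⟨htK, hwt, (hxt.mul_left hwt).mul_left hxt.inv_left⟩
  have hsub2 : shT K y w ⊆ shT K w w' := by
    rintro t ⟨htK, hyt, hwt⟩
    refine ⟨htK, hwt, ?_⟩
    rw [hw'y]
    exact (hyt.inv_left.mul_left hwt).mul_left hyt
  have heq1 : shT K x w = shT K w w' :=
    Set.eq_of_subset_of_ncard_le hsub1 (le_of_eq hT1.symm) (Set.toFinite _)
  have heq2 : shT K y w = shT K w w' :=
    Set.eq_of_subset_of_ncard_le hsub2 (le_of_eq hT2.symm) (Set.toFinite _)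
  have hTxy : shT K x w = shT K y w := heq1.trans heq2.symm
  have hcen_xy : ∀ v ∈ K, Commute x v → Commute y v := by
    intro v hv hxv
    by_cases hvz : v ∈ Subgroup.zpowers x
    · obtain ⟨k, rfl⟩ := Subgroup.mem_zpowers_iff.mp hvz
      exact hxy.symm.zpow_right k
    · obtain ⟨i', hi'K, hi'c⟩ := hK.exists_pow_mul_commute hx hv hxv hvz hw hxw
      have hm : x ^ i' * v ∈ shT K x w :=
        ⟨hi'K, ((Commute.refl x).pow_right _).mul_right hxv, hi'c⟩
      rw [hTxy] at hm
      have h1 : Commute y (x ^ i' * v) := hm.2.1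
      have hv' : v = (x ^ i')⁻¹ * (x ^ i' * v) := by group
      rw [hv']
      exact (hxy.symm.pow_right i').inv_right.mul_right h1
  have hcen_yx : ∀ v ∈ K, Commute y v → Commute x v := by
    intro v hv hyv
    by_cases hvz : v ∈ Subgroup.zpowers y
    · obtain ⟨k, rfl⟩ := Subgroup.mem_zpowers_iff.mp hvz
      exact hxy.zpow_right k
    · obtain ⟨i', hi'K, hi'c⟩ := hK.exists_pow_mul_commute hyK hv hyv hvz hw hyw
      have hm : y ^ i' * v ∈ shT K y w :=
        ⟨hi'K, ((Commute.refl y).pow_right _).mul_right hyv, hi'c⟩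
      rw [← hTxy] at hm
      have h1 : Commute x (y ^ i' * v) := hm.2.1
      have hv' : v = (y ^ i')⁻¹ * (y ^ i' * v) := by group
      rw [hv']
      exact (hxy.pow_right i').inv_right.mul_right h1
  -- the centralizer of `z` is strictly bigger
  have hlt : (shCen K x).ncard < (shCen K z).ncard := by
    apply Set.ncard_lt_ncard _ (Set.toFinite _)
    constructor
    · rintro v ⟨hv, hxv⟩
      refine ⟨hv, ?_⟩
      rw [hzxy]
      exact hxv.mul_left (hcen_xy v hv hxv)
    · intro hsub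
      have : w ∈ shCen K x := hsub ⟨hw, hwz.symm⟩
      exact hxw this.2
  obtain ⟨w2, hw2, hzw2⟩ := hrad z hzK
  have hxw2 : ¬ Commute x w2 := by
    intro h0
    apply hzw2
    rw [hzxy]
    exact h0.mul_left (hcen_xy w2 hw2 h0)
  have h1 := hK.ncard_shCen_eq hx hw2 hxw2
  have h2 := hK.ncard_shCen_eq hzK hw2 hzw2
  omega

end ShultSet

end Cfsg.Agent.Helper53
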