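import Mathlib
import Cfsg.Agent.Helper53.Shult3
import Cfsg.Agent.Helper53.PGroup
import Cfsg.Agent.S0199
import Cfsg.Agent.Lib.Cores

set_option autoImplicit false

namespace Cfsg.Agent.Helper53

variable {G : Type*} [Group G]

/-- Conjugation action of a subgroup on a conjugation-invariant set. -/
@[instance_reducible]
def conjActOn (H : Subgroup G) (K : Set G) (hK : ∀ g ∈ K, ∀ h : G, h * g * h⁻¹ ∈ K) :
    MulAction ↥H ↥K where
  smul h g := ⟨(h : G) * (g : G) * (h : G)⁻¹, hK g g.2 h⟩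
  one_smul g := Subtype.ext (by show ((1 : ↥H) : G) * (g : G) * ((1 : ↥H) : G)⁻¹ = g; simp)
  mul_smul a b g := Subtype.ext (by
    show ((a * b : ↥H) : G) * (g : G) * ((a * b : ↥H) : G)⁻¹ =
      (a : G) * ((b : G) * (g : G) * (b : G)⁻¹) * (a : G)⁻¹
    simp [mul_assoc])

theorem conjActOn_smul_coe (H : Subgroup G) (K : Set G) (hK : ∀ g ∈ K, ∀ h : G, h * g * h⁻¹ ∈ K)
    (h : ↥H) (g : ↥K) :
    (((conjActOn H K hK).smul h g : ↥K) : G) = (h : G) * (g : G) * (h : G)⁻¹ := rfl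

namespace ShultSet

variable {p : ℕ} [hp : Fact p.Prime] {K : Set G}

/-- The subgroup generated by `x` and a conjugate is a `p`-group, in the absence of a radical. -/
theorem isPGroup_sup_conj [Finite G] (hK : ShultSet p K)
    (hex : ∃ x ∈ K, ∃ y ∈ K, Commute x y ∧ y ∉ Subgroup.zpowers x)
    (hrad : ∀ v ∈ K, ∃ w ∈ K, ¬ Commute v w) {x : G} (hx : x ∈ K) (g : G) :
    IsPGroup p ↥(Subgroup.zpowers x ⊔ (Subgroup.zpowers x).map (MulAut.conj g).toMonoidHom) := by
  set w := g * x * g⁻¹ with hw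
  have hwK : w ∈ K := hK.conj x hx g
  have hmap : (Subgroup.zpowers x).map (MulAut.conj g).toMonoidHom = Subgroup.zpowers w := by
    rw [MonoidHom.map_zpowers]; rfl
  rw [hmap]
  have hXp : IsPGroup p ↥(Subgroup.zpowers x) := by
    apply IsPGroup.of_card (n := 1)
    rw [Nat.card_zpowers, hK.orderOf_eq hx, pow_one]
  set S : Set G := Set.range (fun i : ℤ => x ^ i * w * x ^ (-i)) with hS
  have hcomm : ∀ a ∈ S, ∀ b ∈ S, Commute a b := by
    rintro a ⟨i, rfl⟩ b ⟨j, rfl⟩
    show Commute (x ^ i * w * x ^ (-i)) (x ^ j * w * x ^ (-j))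
    -- conjugate by x^(-i)
    have key : Commute w (x ^ (j - i) * w * (x ^ (j - i))⁻¹) := by
      by_cases h1 : x ^ (j - i) = 1
      · rw [h1]; simp
      · have hmem : x ^ (j - i) ∈ Subgroup.zpowers x := Subgroup.zpow_mem_zpowers x _
        have hK' : x ^ (j - i) ∈ K := hK.mem_of_mem_zpowers hx hmem h1
        by_cases hc : Commute (x ^ (j - i)) w
        · have : x ^ (j - i) * w * (x ^ (j - i))⁻¹ = w := hc.mul_inv_cancel
          rw [this]
        · exact hK.commute_conj_of_noRadical hex hrad hK' hwK hc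
    have e1 : x ^ i * w * x ^ (-i) = x ^ i * w * (x ^ i)⁻¹ := by rw [zpow_neg]
    have e2 : x ^ j * w * x ^ (-j) =
        x ^ i * (x ^ (j - i) * w * (x ^ (j - i))⁻¹) * (x ^ i)⁻¹ := by
      rw [zpow_neg, zpow_sub]; group
    rw [e1, e2]
    have : x ^ i * w * (x ^ i)⁻¹ * (x ^ i * (x ^ (j - i) * w * (x ^ (j - i))⁻¹) * (x ^ i)⁻¹) =
        x ^ i * (w * (x ^ (j - i) * w * (x ^ (j - i))⁻¹)) * (x ^ i)⁻¹ := by group
    show x ^ i * w * (x ^ i)⁻¹ * (x ^ i * (x ^ (j - i) * w * (x ^ (j - i))⁻¹) * (x ^ i)⁻¹) =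
      x ^ i * (x ^ (j - i) * w * (x ^ (j - i))⁻¹) * (x ^ i)⁻¹ * (x ^ i * w * (x ^ i)⁻¹)
    rw [this, key.eq]; group
  set A := Subgroup.closure S with hA
  have hAcomm : ∀ a ∈ A, ∀ b ∈ A, Commute a b := by
    intro a ha b hb
    induction ha, hb using Subgroup.closure_induction₂ with
    | mem a b ha hb => exact hcomm a ha b hb
    | one_left b _ => exact Commute.one_left b
    | one_right a _ => exact Commute.one_right a
    | mul_left a b c _ _ _ h1 h2 => exact h1.mul_left h2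
    | mul_right b c a _ _ _ h1 h2 => exact h1.mul_right h2
    | inv_left a b _ _ h => exact h.inv_left
    | inv_right a b _ _ h => exact h.inv_right
  have hAexp : ∀ a ∈ A, a ^ p = 1 := by
    intro a ha
    induction ha using Subgroup.closure_induction with
    | mem a ha =>
      obtain ⟨i, rfl⟩ := ha
      have : x ^ i * w * x ^ (-i) = x ^ i * w * (x ^ i)⁻¹ := by rw [zpow_neg]
      show (x ^ i * w * x ^ (-i)) ^ p = 1
      rw [this, conj_pow, hK.pow_p w hwK, mul_one, mul_inv_cancel]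
    | one => exact one_pow p
    | mul a b ha hb h1 h2 => rw [(hAcomm a ha b hb).mul_pow, h1, h2, one_mul]
    | inv a _ h => rw [inv_pow, h, inv_one]
  have hAp : IsPGroup p ↥A := by
    intro a
    refine ⟨1, ?_⟩
    apply Subtype.ext
    rw [pow_one]
    show ((a : G)) ^ p = 1
    exact hAexp a a.2
  have hXA : Subgroup.zpowers x ≤ Subgroup.normalizer (A : Set G) := by
    apply le_normalizer_of_conj_mem
    intro c hc k hk
    obtain ⟨m, rfl⟩ := Subgroup.mem_zpowers_iff.mp hc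
    induction hk using Subgroup.closure_induction with
    | mem a ha =>
      obtain ⟨i, rfl⟩ := ha
      apply Subgroup.subset_closure
      refine ⟨m + i, ?_⟩
      show x ^ (m + i) * w * x ^ (-(m + i)) = x ^ m * (x ^ i * w * x ^ (-i)) * (x ^ m)⁻¹
      rw [zpow_neg, zpow_neg, zpow_add]; group
    | one => simp [A.one_mem]
    | mul a b _ _ h1 h2 =>
      have : x ^ m * (a * b) * (x ^ m)⁻¹ = (x ^ m * a * (x ^ m)⁻¹) * (x ^ m * b * (x ^ m)⁻¹) := by
        group
      rw [this]; exact A.mul_mem h1 h2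
    | inv a _ h =>
      have : x ^ m * a⁻¹ * (x ^ m)⁻¹ = (x ^ m * a * (x ^ m)⁻¹)⁻¹ := by group
      rw [this]; exact A.inv_mem h
  have hsup : IsPGroup p ↥(Subgroup.zpowers x ⊔ A) := hXp.to_sup_of_normal_right' hAp hXA
  apply hsup.to_le
  apply sup_le le_sup_left
  apply le_trans _ (le_sup_right : A ≤ Subgroup.zpowers x ⊔ A)
  rw [Subgroup.zpowers_le]
  apply Subgroup.subset_closure
  exact ⟨0, by simp⟩

/-- In the absence of a radical, every member lies in `O_p(G)`. -/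
theorem mem_pCore [Finite G] (hK : ShultSet p K)
    (hex : ∃ x ∈ K, ∃ y ∈ K, Commute x y ∧ y ∉ Subgroup.zpowers x)
    (hrad : ∀ v ∈ K, ∃ w ∈ K, ¬ Commute v w) {x : G} (hx : x ∈ K) : x ∈ Cfsg.pCore p G := by
  have hXp : IsPGroup p ↥(Subgroup.zpowers x) := by
    apply IsPGroup.of_card (n := 1)
    rw [Nat.card_zpowers, hK.orderOf_eq hx, pow_one]
  obtain ⟨N, hNn, hNp, hXN⟩ := Cfsg.Agent.S0199.result (Subgroup.zpowers x) hXp
    (fun g => hK.isPGroup_sup_conj hex hrad hx g)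
  exact Cfsg.Agent.Lib.le_pCore hNn hNp (hXN (Subgroup.mem_zpowers x))

end ShultSet

end Cfsg.Agent.Helper53
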