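import Mathlib
import Cfsg.Agent.Helper53.Shult4

set_option autoImplicit false

namespace Cfsg.Agent.Helper53

variable {G : Type*} [Group G]

namespace ShultSet

variable {p : ℕ} [hp : Fact p.Prime] {K : Set G}

/-- The number of members is congruent to `-1` modulo `p` as soon as some member is not in the
radical. -/
theorem not_dvd_card [Finite G] (hK : ShultSet p K) {x w : G} (hx : x ∈ K) (hw : w ∈ K)
    (hxw : ¬ Commute x w) : ¬ p ∣ Nat.card ↥K := by
  have hXp : IsPGroup p ↥(Subgroup.zpowers x) := by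
    apply IsPGroup.of_card (n := 1)
    rw [Nat.card_zpowers, hK.orderOf_eq hx, pow_one]
  letI : MulAction ↥(Subgroup.zpowers x) ↥K := conjActOn (Subgroup.zpowers x) K hK.conj
  have h1 := hXp.card_modEq_card_fixedPoints ↥K
  have hsmul : ∀ (m : ↥(Subgroup.zpowers x)) (a : ↥K),
      ((m • a : ↥K) : G) = (m : G) * (a : G) * (m : G)⁻¹ := fun m a => rfl
  let e : ↥(MulAction.fixedPoints ↥(Subgroup.zpowers x) ↥K) ≃ ↥(shCen K x) :=
    { toFun := fun a => ⟨((a : ↥K) : G), (a : ↥K).2, by
        have h := a.2 ⟨x, Subgroup.mem_zpowers x⟩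
        have h' : x * ((a : ↥K) : G) * x⁻¹ = ((a : ↥K) : G) := by
          have := congrArg (fun b : ↥K => (b : G)) h
          simpa [hsmul] using this
        show x * ((a : ↥K) : G) = ((a : ↥K) : G) * x
        calc x * ((a : ↥K) : G) = (x * ((a : ↥K) : G) * x⁻¹) * x := by group
          _ = ((a : ↥K) : G) * x := by rw [h']⟩
      invFun := fun b => ⟨⟨(b : G), b.2.1⟩, by
        intro m
        apply Subtype.ext
        rw [hsmul]
        show (m : G) * (b : G) * (m : G)⁻¹ = (b : G)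
        obtain ⟨i, hi⟩ := Subgroup.mem_zpowers_iff.mp m.2
        have hc : Commute (m : G) (b : G) := by
          rw [← hi]; exact (b.2.2).zpow_left i
        exact hc.mul_inv_cancel⟩
      left_inv := fun a => by apply Subtype.ext; apply Subtype.ext; rfl
      right_inv := fun b => by apply Subtype.ext; rfl }
  have h2 : Nat.card ↥(MulAction.fixedPoints ↥(Subgroup.zpowers x) ↥K) = (shCen K x).ncard := by
    rw [← Nat.card_coe_set_eq]
    exact Nat.card_congr e
  rw [h2, hK.ncard_shCen hx hw hxw] at h1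
  intro hdvd
  have h3 : Nat.card ↥K % p = 0 := Nat.mod_eq_zero_of_dvd hdvd
  have h4 : ((shT K x w).ncard * p + (p - 1)) % p = p - 1 := by
    rw [Nat.add_mod, Nat.mul_mod_left, zero_add, Nat.mod_mod]
    exact Nat.mod_eq_of_lt (Nat.sub_lt hp.out.pos Nat.one_pos)
  have h5 : Nat.card ↥K % p = ((shT K x w).ncard * p + (p - 1)) % p := h1
  have h6 := hp.out.two_le
  omega

/-- **Main theorem**: some member commutes with all members. -/
theorem exists_radical [Finite G] (hK : ShultSet p K)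
    (hex : ∃ x ∈ K, ∃ y ∈ K, Commute x y ∧ y ∉ Subgroup.zpowers x) :
    ∃ v ∈ K, ∀ w ∈ K, Commute v w := by
  by_contra hcon
  have hrad : ∀ v ∈ K, ∃ w ∈ K, ¬ Commute v w := by
    intro v hv
    by_contra h
    apply hcon
    exact ⟨v, hv, fun w hw => by_contra fun hc => h ⟨w, hw, hc⟩⟩
  obtain ⟨x, hx, -⟩ := id hex
  obtain ⟨w, hw, hxw⟩ := hrad x hx
  have hndvd := hK.not_dvd_card hx hw hxw
  letI : MulAction ↥(Cfsg.pCore p G) ↥K := conjActOn (Cfsg.pCore p G) K hK.conj
  obtain ⟨v, hv⟩ := (Cfsg.Agent.Lib.isPGroup_pCore (G := G) p).nonempty_fixed_point_of_prime_not_dvd_card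
    ↥K hndvd
  obtain ⟨w2, hw2, hvw2⟩ := hrad v v.2
  apply hvw2
  have h1 := hv ⟨w2, hK.mem_pCore hex hrad hw2⟩
  have h2 : w2 * (v : G) * w2⁻¹ = (v : G) := congrArg (fun b : ↥K => (b : G)) h1
  show (v : G) * w2 = w2 * (v : G)
  calc (v : G) * w2 = (w2 * (v : G) * w2⁻¹) * w2 := by rw [h2]
    _ = w2 * (v : G) := by group

end ShultSet

end Cfsg.Agent.Helper53
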