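import Mathlib
import Cfsg.Agent.Helper5.SpBN.Api

set_option autoImplicit false

/-!
# S2545, piece (SINJ): distinct simple roots of `Sp_{2m}(F)` have distinct reflection matrices
-/

namespace Cfsg.Agent.Helper53.SpBNSINJ

open Matrix Cfsg.Agent.Helper5.SpBN

variable {F : Type*} [Field F] {m : ℕ}

theorem sSign_ne_zero (k : Fin m) (b : Fin m ⊕ Fin m) : sSign F k b ≠ 0 := by
  unfold sSign
  split_ifs <;> simp

theorem sMat_injective : Function.Injective (sMat (F := F) (m := m)) := by
  intro k k' h
  have hk := k.2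
  have hk' := k'.2
  have h1 : sMat (F := F) k (colIdx k) (rowIdx k) = sMat (F := F) k' (colIdx k) (rowIdx k) := by
    rw [h]
  have hp : colIdx k = sPerm k (rowIdx k) := by
    apply pos_injective
    rw [pos_sPerm, pos_colIdx, pos_rowIdx, if_pos rfl]
  rw [sMat_apply, sMat_apply, if_pos hp] at h1
  by_cases hc : colIdx k = sPerm k' (rowIdx k)
  · have h2 := congrArg pos hc
    rw [pos_sPerm, pos_colIdx, pos_rowIdx] at h2
    apply Fin.ext
    split_ifs at h2 <;> omega
  · rw [if_neg hc] at h1
    exact absurd h1 (sSign_ne_zero k _)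

end Cfsg.Agent.Helper53.SpBNSINJ
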