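import Mathlib
import Cfsg.Agent.Helper5.SpBN.Api

set_option autoImplicit false

/-!
# S2545, piece (XB): the root elements of `Sp_{2m}(F)` are upper triangular
-/

namespace Cfsg.Agent.Helper53.SpBNXB

open Matrix Cfsg.Agent.Helper5.SpBN

variable {F : Type*} [Field F] {m : ℕ}

theorem Xset_subset_Bsub (k : Fin m) : Xset (F := F) k ⊆ (Bsub m F : Set (SpG m F)) := by
  rintro g ⟨t, hg⟩
  rw [SetLike.mem_coe, mem_Bsub_iff]
  intro a b hab
  rw [hg, xMat_apply]
  have hk := k.2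
  have h1 : a ≠ b := fun h => by rw [h] at hab; exact lt_irrefl _ hab
  have h2 : ¬ (rowIdx k = a ∧ colIdx k = b) := by
    rintro ⟨rfl, rfl⟩
    rw [pos_rowIdx, pos_colIdx] at hab
    omega
  have h3 : ¬ (Sum.swap (colIdx k) = a ∧ Sum.swap (rowIdx k) = b) := by
    rintro ⟨rfl, rfl⟩
    rw [pos_swap, pos_swap, pos_rowIdx, pos_colIdx] at hab
    omega
  rw [if_neg h1, if_neg h2, if_neg h3]
  simp

end Cfsg.Agent.Helper53.SpBNXB
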