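import Mathlib
import Cfsg.Agent.Helper86.Spec4.Defs
import Cfsg.Agent.Helper53.Spec4Common

/-!
# S2510 piece (M3) of helper86's architecture (board WANTED #10327)

If `s` has determinant one and irreducible minimal polynomial, then `s ^ ((q^n-1)/(q-1)) = 1`.
`E = AdjoinRoot (minpoly F s)` is a finite field acting on `V = Fin n → F` through `phiM s`;
`det s = norm_{E/F}(root) ^ k` with `k = dim_E V` (`LinearMap.det_restrictScalars`), and the norm is
the `(q^d-1)/(q-1)`-th power (`FiniteField.algebraMap_norm_eq_pow`).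
-/

set_option autoImplicit false

namespace Cfsg.Agent.Helper53.Spec4

open Matrix Cfsg.Agent.Helper86.Spec4 Polynomial

/-- `(q^(d k) - 1)/(q - 1) = ((q^d - 1)/(q - 1)) * ∑_{i<k} (q^d)^i` -/
theorem geom_div_split (q d k : ℕ) (hq : 2 ≤ q) (hd : 1 ≤ d) :
    (q ^ (d * k) - 1) / (q - 1) = ((q ^ d - 1) / (q - 1)) * ∑ i ∈ Finset.range k, (q ^ d) ^ i := by
  have hQ : 2 ≤ q ^ d := by
    calc 2 ≤ q := hq
      _ = q ^ 1 := (pow_one q).symm
      _ ≤ q ^ d := Nat.pow_le_pow_right (by omega) hd
  have h1 : (q ^ d) ^ k - 1 = (q ^ d - 1) * ∑ i ∈ Finset.range k, (q ^ d) ^ i := by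
    rw [Nat.geomSum_eq hQ k]
    have hdvd : q ^ d - 1 ∣ (q ^ d) ^ k - 1 :=
      Nat.sub_one_dvd_pow_sub_one (q ^ d) k
    rw [Nat.mul_div_cancel' hdvd]
  have h2 : q - 1 ∣ q ^ d - 1 := Nat.sub_one_dvd_pow_sub_one q d
  obtain ⟨M, hM⟩ := h2
  have hpos : 0 < q - 1 := by omega
  rw [pow_mul, h1, hM, Nat.mul_div_cancel_left M hpos, mul_assoc, Nat.mul_div_cancel_left _ hpos]

variable {F : Type*} [Field F] [Fintype F]

/-- (M3) determinant one and irreducible minimal polynomial: the `(q^n-1)/(q-1)`-th power is one. -/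
theorem pow_eq_one_of_irreducible {n : ℕ} (s : Matrix (Fin n) (Fin n) F) (hdet : s.det = 1)
    (hirr : Irreducible (minpoly F s)) :
    s ^ ((Fintype.card F ^ n - 1) / (Fintype.card F - 1)) = 1 := by
  rcases Nat.eq_zero_or_pos n with hn0 | hn
  · subst hn0
    exact Subsingleton.elim _ _
  haveI : Fact (Irreducible (minpoly F s)) := ⟨hirr⟩
  have hq2 : 2 ≤ Fintype.card F := Fintype.one_lt_card
  -- the field `E`
  have hint : IsIntegral F s := Algebra.IsIntegral.isIntegral s
  haveI : Module.Finite F (AdjoinRoot (minpoly F s)) := (minpoly.monic hint).finite_adjoinRoot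
  haveI : Finite (AdjoinRoot (minpoly F s)) := Module.finite_of_finite F
  -- the module structure on `V = Fin n → F`
  let ψ : AdjoinRoot (minpoly F s) →ₐ[F] Module.End F (Fin n → F) :=
    (Matrix.toLinAlgEquiv' : Matrix (Fin n) (Fin n) F ≃ₐ[F] Module.End F (Fin n → F)).toAlgHom.comp
      (phiM s)
  letI : Module (AdjoinRoot (minpoly F s)) (Fin n → F) := Module.compHom (Fin n → F) ψ.toRingHom
  have hsmul : ∀ (e : AdjoinRoot (minpoly F s)) (v : Fin n → F), e • v = (phiM s e) *ᵥ v := by
    intro e v
    rfl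
  haveI : IsScalarTower F (AdjoinRoot (minpoly F s)) (Fin n → F) := by
    refine IsScalarTower.of_algebraMap_smul ?_
    intro c v
    rw [hsmul, AlgHom.commutes, Algebra.algebraMap_eq_smul_one, Matrix.smul_mulVec,
      Matrix.one_mulVec]
  -- the determinant of `s` is the norm of `root ^ k`
  have hlin : ((AdjoinRoot.root (minpoly F s) •
      (LinearMap.id : (Fin n → F) →ₗ[AdjoinRoot (minpoly F s)] (Fin n → F))).restrictScalars F) =
      Matrix.toLin' s := by
    apply LinearMap.ext
    intro v
    rw [LinearMap.restrictScalars_apply, LinearMap.smul_apply, LinearMap.id_apply, hsmul,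
      phiM_root, Matrix.toLin'_apply]
  have hdet2 : s.det = Algebra.norm F (AdjoinRoot.root (minpoly F s) ^
      Module.finrank (AdjoinRoot (minpoly F s)) (Fin n → F)) := by
    rw [← LinearMap.det_toLin', ← hlin, LinearMap.det_restrictScalars, LinearMap.det_smul,
      LinearMap.det_id, mul_one]
  -- dimensions
  have hdk : Module.finrank F (AdjoinRoot (minpoly F s)) *
      Module.finrank (AdjoinRoot (minpoly F s)) (Fin n → F) = n := by
    have h := Module.finrank_mul_finrank F (AdjoinRoot (minpoly F s)) (Fin n → F)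
    rwa [Module.finrank_fin_fun] at h
  have hd1 : 1 ≤ Module.finrank F (AdjoinRoot (minpoly F s)) := by
    rcases Nat.eq_zero_or_pos (Module.finrank F (AdjoinRoot (minpoly F s))) with h0 | h0
    · rw [h0, zero_mul] at hdk
      omega
    · exact h0
  -- the norm of the root
  have hνk : (Algebra.norm F (AdjoinRoot.root (minpoly F s))) ^
      Module.finrank (AdjoinRoot (minpoly F s)) (Fin n → F) = 1 := by
    rw [← map_pow, ← hdet2, hdet]
  have hcardE : Nat.card (AdjoinRoot (minpoly F s)) =
      Fintype.card F ^ Module.finrank F (AdjoinRoot (minpoly F s)) := by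
    rw [Module.natCard_eq_pow_finrank (K := F) (V := AdjoinRoot (minpoly F s)),
      Nat.card_eq_fintype_card]
  have hnorm : algebraMap F (AdjoinRoot (minpoly F s))
      (Algebra.norm F (AdjoinRoot.root (minpoly F s))) =
      AdjoinRoot.root (minpoly F s) ^
        ((Fintype.card F ^ Module.finrank F (AdjoinRoot (minpoly F s)) - 1) /
          (Fintype.card F - 1)) := by
    have h := FiniteField.algebraMap_norm_eq_pow (K := F) (K' := AdjoinRoot (minpoly F s))
      (x := AdjoinRoot.root (minpoly F s))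
    rwa [hcardE, Nat.card_eq_fintype_card] at h
  have hνsum : (Algebra.norm F (AdjoinRoot.root (minpoly F s))) ^
      (∑ i ∈ Finset.range (Module.finrank (AdjoinRoot (minpoly F s)) (Fin n → F)),
        (Fintype.card F ^ Module.finrank F (AdjoinRoot (minpoly F s))) ^ i) = 1 := by
    rw [← Finset.prod_pow_eq_pow_sum]
    have h : ∀ i ∈ Finset.range (Module.finrank (AdjoinRoot (minpoly F s)) (Fin n → F)),
        (Algebra.norm F (AdjoinRoot.root (minpoly F s))) ^
          ((Fintype.card F ^ Module.finrank F (AdjoinRoot (minpoly F s))) ^ i) =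
        Algebra.norm F (AdjoinRoot.root (minpoly F s)) := by
      intro i _
      rw [← pow_mul, FiniteField.pow_card_pow]
    rw [Finset.prod_congr rfl h, Finset.prod_const, Finset.card_range, hνk]
  have hrN : AdjoinRoot.root (minpoly F s) ^
      ((Fintype.card F ^ n - 1) / (Fintype.card F - 1)) = 1 := by
    have hexp := geom_div_split (Fintype.card F) (Module.finrank F (AdjoinRoot (minpoly F s)))
      (Module.finrank (AdjoinRoot (minpoly F s)) (Fin n → F)) hq2 hd1
    rw [hdk] at hexp
    rw [hexp, pow_mul, ← hnorm, ← map_pow, hνsum, map_one]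
  rw [← phiM_root_pow, hrN, map_one]

end Cfsg.Agent.Helper53.Spec4
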