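import Mathlib
import Cfsg.Agent.Helper86.Spec4.Defs
import Cfsg.Agent.Helper53.Spec4Common

/-!
# S2510 piece (M4) of helper86's architecture (board WANTED #10327)

If the minimal polynomial of `s` is irreducible and `s ^ ((q^n-1)/(q-1)) = 1`, then
`s ^ cS q n` is a scalar matrix.
-/

set_option autoImplicit false

namespace Cfsg.Agent.Helper53.Spec4

open Matrix Cfsg.Agent.Helper86.Spec4 Polynomial

variable {F : Type*} [Field F] [Fintype F]

/-- (M4) then the `cS`-th power is a scalar. -/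
theorem pow_cS_scalar {n : ℕ} (hn : 1 ≤ n) (s : Matrix (Fin n) (Fin n) F)
    (hirr : Irreducible (minpoly F s))
    (h1 : s ^ ((Fintype.card F ^ n - 1) / (Fintype.card F - 1)) = 1) :
    ∃ ζ : F, s ^ cS (Fintype.card F) n = Matrix.scalar (Fin n) ζ := by
  haveI : Fact (Irreducible (minpoly F s)) := ⟨hirr⟩
  set q := Fintype.card F with hq
  have hq2 : 2 ≤ q := Fintype.one_lt_card
  set N := (q ^ n - 1) / (q - 1) with hN
  set g := Nat.gcd n (q - 1) with hg
  have hinj := phiM_injective hn s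
  -- `root ^ N = 1`
  have hrN : AdjoinRoot.root (minpoly F s) ^ N = 1 := by
    apply hinj
    rw [phiM_root_pow, h1, map_one]
  -- `g ∣ N`
  have hNsum : N = ∑ i ∈ Finset.range n, q ^ i := (Nat.geomSum_eq hq2 n).symm
  have hgN : g ∣ N := by
    have h2 := geom_sum_modEq q g (by omega) (Nat.gcd_dvd_right n (q - 1)) n
    rw [← hNsum] at h2
    have h3 : n ≡ 0 [MOD g] := (Nat.modEq_zero_iff_dvd).mpr (Nat.gcd_dvd_left n (q - 1))
    exact (Nat.modEq_zero_iff_dvd).mp (h2.trans h3)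
  have hcS : cS q n * g = N := by
    unfold cS
    rw [← Nat.div_div_eq_div_mul]
    exact Nat.div_mul_cancel hgN
  -- `ρ = root ^ cS` is fixed by the `q`-power map
  have hρg : (AdjoinRoot.root (minpoly F s) ^ cS q n) ^ g = 1 := by
    rw [← pow_mul, hcS, hrN]
  have hρq1 : (AdjoinRoot.root (minpoly F s) ^ cS q n) ^ (q - 1) = 1 := by
    obtain ⟨c, hc⟩ := Nat.gcd_dvd_right n (q - 1)
    rw [hc, pow_mul, hρg, one_pow]
  have hρq : (AdjoinRoot.root (minpoly F s) ^ cS q n) ^ q =
      AdjoinRoot.root (minpoly F s) ^ cS q n := by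
    have h4 : ∀ (y : AdjoinRoot (minpoly F s)), y ^ (q - 1) = 1 → y ^ q = y := by
      intro y hy
      have : q = (q - 1) + 1 := by omega
      rw [this, pow_succ, hy, one_mul]
    exact h4 _ hρq1
  obtain ⟨ζ, hζ⟩ := exists_algebraMap_eq_of_pow_card _ hρq
  refine ⟨ζ, ?_⟩
  rw [← phiM_root_pow, ← hζ, AlgHom.commutes]
  rfl

end Cfsg.Agent.Helper53.Spec4
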