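import Mathlib
import Cfsg.Agent.Helper95.TIC.Defs
import Cfsg.Agent.Helper95.FrobCompl6
import Cfsg.Agent.Helper73.PGroupCyclic
import Cfsg.Agent.Helper9.CNSolv2

/-!
S4064 (helper95), batch 2 piece (FCE): nilpotent, unique subgroups of prime order, no big
quaternion subgroup: cyclic or `Z_m × Q₈`.
-/

set_option autoImplicit false

namespace Cfsg.Agent.Helper53.TICent

open Subgroup Cfsg.Agent.Helper95.FrobCompl Cfsg.Agent.Helper95.TICent

/-- two elementwise commuting commutative subgroups generating the group make it commutative -/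
theorem comm_of_sup_eq_top {H : Type*} [Group H] (C Q : Subgroup H) (hsup : C ⊔ Q = ⊤)
    (hcomm : ∀ a ∈ C, ∀ b ∈ Q, a * b = b * a) (hC : ∀ a ∈ C, ∀ a' ∈ C, a * a' = a' * a)
    (hQ : ∀ b ∈ Q, ∀ b' ∈ Q, b * b' = b' * b) : ∀ x y : H, x * y = y * x := by
  have hZ : Subgroup.centralizer ((C : Set H) ∪ (Q : Set H)) = ⊤ := by
    rw [eq_top_iff, ← hsup, sup_le_iff]
    constructor
    · intro a ha
      rw [Subgroup.mem_centralizer_iff]
      rintro g (hg | hg)
      · exact hC g hg a ha
      · exact (hcomm a ha g hg).symm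
    · intro b hb
      rw [Subgroup.mem_centralizer_iff]
      rintro g (hg | hg)
      · exact hcomm g hg b hb
      · exact hQ g hg b hb
  have hsub := Subgroup.centralizer_eq_top_iff_subset.mp hZ
  have hcen : Subgroup.center H = ⊤ := by
    rw [eq_top_iff, ← hsup, Subgroup.sup_eq_closure, Subgroup.closure_le]
    exact hsub
  intro x y
  have hy : y ∈ Subgroup.center H := by rw [hcen]; exact Subgroup.mem_top _
  exact Subgroup.mem_center_iff.mp hy x

/-- (FCE) -/
theorem cyclic_or_cq8 {H : Type*} [Group H] [Finite H] (hnil : Group.IsNilpotent H)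
    (hU : ∀ r : ℕ, r.Prime → Cfsg.Agent.Helper73.UniqueOrderP r H)
    (hQ : ∀ n : ℕ, 2 ≤ n → ∀ f : QuaternionGroup (2 ^ n) →* H, ¬ Function.Injective f)
    (hD : ∀ C Q : Subgroup H, C ⊔ Q = ⊤ → (∀ a ∈ C, ∀ b ∈ Q, a * b = b * a) → IsCyclic C →
      Odd (Nat.card C) → (Q ≃* QuaternionGroup 2) →
      Nonempty (H ≃* Multiplicative (ZMod (Nat.card C)) × QuaternionGroup 2)) :
    IsCyclic H ∨ ∃ m : ℕ, Odd m ∧
      Nonempty (H ≃* Multiplicative (ZMod m) × QuaternionGroup 2) := by
  rcases Cfsg.Agent.Helper9.cyclic_or_cq_of_uniqueOrderP hU with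
    h | ⟨C, Q, hsup, hcomm, hCc, hCo, n, ⟨e⟩⟩
  · exact Or.inl h
  · rcases n with _ | _ | n
    · -- `Q` is cyclic of order four: the group is commutative, hence cyclic
      left
      have hQcyc : IsCyclic Q := by
        have : IsCyclic (QuaternionGroup (2 ^ 0)) := QuaternionGroup.quaternionGroup_one_isCyclic
        exact isCyclic_of_surjective e.symm e.symm.surjective
      have hCcomm : ∀ a ∈ C, ∀ a' ∈ C, a * a' = a' * a := by
        intro a ha a' ha'
        have := (IsCyclic.isMulCommutative (α := C)).is_comm.comm ⟨a, ha⟩ ⟨a', ha'⟩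
        exact congrArg Subtype.val this
      have hQcomm : ∀ b ∈ Q, ∀ b' ∈ Q, b * b' = b' * b := by
        intro b hb b' hb'
        have := (IsCyclic.isMulCommutative (α := Q)).is_comm.comm ⟨b, hb⟩ ⟨b', hb'⟩
        exact congrArg Subtype.val this
      have hHcomm := comm_of_sup_eq_top C Q hsup hcomm hCcomm hQcomm
      apply Cfsg.Agent.Helper9.isCyclic_of_nilpotent_of_sylow_cyclic
      intro r hr R
      exact Cfsg.Agent.Helper73.isCyclic_of_comm_of_uniqueOrderP R.isPGroup'
        (fun a b => Subtype.ext (hHcomm a b)) ((hU r hr.out).subgroup R)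
    · right
      exact ⟨Nat.card C, hCo, hD C Q hsup hcomm hCc hCo e⟩
    · exfalso
      apply hQ (n + 1 + 1) (by omega) (Q.subtype.comp e.symm.toMonoidHom)
      exact Q.subtype_injective.comp e.symm.injective

end Cfsg.Agent.Helper53.TICent
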