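import Mathlib
import Cfsg.Agent.Helper95.TIC.Defs
import Cfsg.Agent.Helper95.FrobCompl6
import Cfsg.Agent.Helper73.PGroupCyclic
import Cfsg.Agent.Helper9.CNSolv2

/-!
S4064 (helper95), batch 2 piece (PSL): `PSL₂(F)`, `char F = 2`, has two distinct involutions.
-/

set_option autoImplicit false

namespace Cfsg.Agent.Helper53.TICent

open Subgroup Cfsg.Agent.Helper95.FrobCompl Cfsg.Agent.Helper95.TICent

/-- (PSL) -/
theorem not_fclike_psl {F : Type*} [Field F] [CharP F 2] :
    ¬ FCLike (Matrix.ProjectiveSpecialLinearGroup (Fin 2) F) := by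
  intro h
  have h2 : (2 : F) = 0 := by
    have := CharP.cast_eq_zero F 2
    exact_mod_cast this
  have h11 : (1 : F) + 1 = 0 := by rw [one_add_one_eq_two, h2]
  let A : Matrix.SpecialLinearGroup (Fin 2) F :=
    ⟨!![1, 1; 0, 1], by rw [Matrix.det_fin_two_of]; ring⟩
  let B : Matrix.SpecialLinearGroup (Fin 2) F :=
    ⟨!![1, 0; 1, 1], by rw [Matrix.det_fin_two_of]; ring⟩
  have hAval : (A : Matrix (Fin 2) (Fin 2) F) = !![1, 1; 0, 1] := rfl
  have hBval : (B : Matrix (Fin 2) (Fin 2) F) = !![1, 0; 1, 1] := rfl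
  have hA2 : A ^ 2 = 1 := by
    apply Subtype.ext
    rw [Matrix.SpecialLinearGroup.coe_pow, hAval, pow_two, Matrix.SpecialLinearGroup.coe_one]
    ext i j
    fin_cases i <;> fin_cases j <;> simp [Matrix.mul_apply, Fin.sum_univ_two, h11]
  have hB2 : B ^ 2 = 1 := by
    apply Subtype.ext
    rw [Matrix.SpecialLinearGroup.coe_pow, hBval, pow_two, Matrix.SpecialLinearGroup.coe_one]
    ext i j
    fin_cases i <;> fin_cases j <;> simp [Matrix.mul_apply, Fin.sum_univ_two, h11]
  -- scalar matrices have zero off-diagonal entries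
  have hcen : ∀ M : Matrix.SpecialLinearGroup (Fin 2) F,
      M ∈ Subgroup.center (Matrix.SpecialLinearGroup (Fin 2) F) →
      (M : Matrix (Fin 2) (Fin 2) F) 0 1 = 0 ∧ (M : Matrix (Fin 2) (Fin 2) F) 1 0 = 0 := by
    intro M hM
    obtain ⟨r, -, hr⟩ := Matrix.SpecialLinearGroup.mem_center_iff.mp hM
    rw [← hr]
    constructor
    · rw [Matrix.scalar_apply, Matrix.diagonal_apply_ne _ (by decide)]
    · rw [Matrix.scalar_apply, Matrix.diagonal_apply_ne _ (by decide)]
  let a : Matrix.ProjectiveSpecialLinearGroup (Fin 2) F := QuotientGroup.mk A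
  let b : Matrix.ProjectiveSpecialLinearGroup (Fin 2) F := QuotientGroup.mk B
  have ha2 : a ^ 2 = 1 := by
    show (QuotientGroup.mk A : Matrix.ProjectiveSpecialLinearGroup (Fin 2) F) ^ 2 = 1
    rw [← QuotientGroup.mk_pow, hA2]
    rfl
  have hb2 : b ^ 2 = 1 := by
    show (QuotientGroup.mk B : Matrix.ProjectiveSpecialLinearGroup (Fin 2) F) ^ 2 = 1
    rw [← QuotientGroup.mk_pow, hB2]
    rfl
  have ha1 : a ≠ 1 := by
    intro h1
    have hmem : A ∈ Subgroup.center (Matrix.SpecialLinearGroup (Fin 2) F) :=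
      (QuotientGroup.eq_one_iff A).mp h1
    have := (hcen A hmem).1
    rw [hAval] at this
    simp at this
  have hb1 : b ≠ 1 := by
    intro h1
    have hmem : B ∈ Subgroup.center (Matrix.SpecialLinearGroup (Fin 2) F) :=
      (QuotientGroup.eq_one_iff B).mp h1
    have := (hcen B hmem).2
    rw [hBval] at this
    simp at this
  have hab := h.invol a b ha2 hb2 ha1 hb1
  have hmem : A⁻¹ * B ∈ Subgroup.center (Matrix.SpecialLinearGroup (Fin 2) F) :=
    QuotientGroup.eq.mp hab
  have := (hcen _ hmem).2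
  rw [Matrix.SpecialLinearGroup.coe_mul, Matrix.SpecialLinearGroup.coe_inv, hAval, hBval,
    Matrix.adjugate_fin_two_of] at this
  simp [Matrix.mul_apply, Fin.sum_univ_two] at this

end Cfsg.Agent.Helper53.TICent
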