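import Mathlib

set_option autoImplicit false

namespace Cfsg.Agent.Helper53

section Transv

variable {V : Type*} [AddCommGroup V] [Module (ZMod 2) V]

/-- The automorphisms of `V` acting trivially on `V ⧸ U`. -/
def disSubgroup (U : Submodule (ZMod 2) V) : Subgroup (V ≃ₗ[ZMod 2] V) where
  carrier := {g | ∀ v, g v - v ∈ U}
  one_mem' := by intro v; simp
  mul_mem' := by
    intro g h hg hh v
    have := U.add_mem (hg (h v)) (hh v)
    simpa [LinearEquiv.mul_apply] using this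
  inv_mem' := by
    intro g hg v
    have h1 := U.neg_mem (hg (g⁻¹ v))
    have h2 : g (g⁻¹ v) = v := by
      rw [← LinearEquiv.mul_apply, mul_inv_cancel]; rfl
    rw [h2, neg_sub] at h1
    exact h1

theorem mem_disSubgroup {U : Submodule (ZMod 2) V} {g : V ≃ₗ[ZMod 2] V} :
    g ∈ disSubgroup U ↔ ∀ v, g v - v ∈ U := Iff.rfl

theorem disSubgroup_mono {U U' : Submodule (ZMod 2) V} (h : U ≤ U') :
    disSubgroup U ≤ disSubgroup U' := fun _ hg v => h (hg v)

theorem apply_mem_of_mem_disSubgroup {U : Submodule (ZMod 2) V} {g : V ≃ₗ[ZMod 2] V}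
    (hg : g ∈ disSubgroup U) {u : V} (hu : u ∈ U) : g u ∈ U := by
  have := U.add_mem (hg u) hu
  simpa using this

/-- `g` moves every vector by `0` or `a`. -/
def Tv (a : V) (g : V ≃ₗ[ZMod 2] V) : Prop := ∀ v, g v = v ∨ g v = v + a

theorem Tv.mem_disSubgroup {a : V} {g : V ≃ₗ[ZMod 2] V} (h : Tv a g)
    {U : Submodule (ZMod 2) V} (ha : a ∈ U) : g ∈ disSubgroup U := by
  intro v
  rcases h v with h1 | h1
  · rw [h1, sub_self]; exact U.zero_mem
  · rw [h1, add_sub_cancel_left]; exact ha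

theorem Tv.conj {a : V} {g : V ≃ₗ[ZMod 2] V} (h : Tv a g) (k : V ≃ₗ[ZMod 2] V) :
    Tv (k a) (k * g * k⁻¹) := by
  intro v
  have h2 : k (k⁻¹ v) = v := by
    rw [← LinearEquiv.mul_apply, mul_inv_cancel]; rfl
  rcases h (k⁻¹ v) with h1 | h1
  · left
    rw [LinearEquiv.mul_apply, LinearEquiv.mul_apply, h1, h2]
  · right
    rw [LinearEquiv.mul_apply, LinearEquiv.mul_apply, h1, map_add, h2]

/-- If `g` acts trivially on `V/U` and on `U`, then `g ^ 2 = 1`. -/
theorem sq_eq_one_of_fix {U : Submodule (ZMod 2) V} {g : V ≃ₗ[ZMod 2] V}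
    (hg : g ∈ disSubgroup U) (hfix : ∀ u ∈ U, g u = u) : g ^ 2 = 1 := by
  ext v
  obtain ⟨d, hd⟩ : ∃ d, d = g v - v := ⟨_, rfl⟩
  have hdU : d ∈ U := hd ▸ hg v
  have h1 : g v = v + d := by rw [hd]; abel
  have h2 : d + d = 0 := ZModModule.add_self d
  rw [pow_two, LinearEquiv.mul_apply, h1, map_add, h1, hfix d hdU, add_assoc, h2, add_zero]
  rfl

/-- If `g` acts trivially on `V/U`, on `U/U₁` and on `U₁`, then `g ^ 4 = 1`. -/
theorem pow_four_eq_one_of_fix {U U₁ : Submodule (ZMod 2) V} {g : V ≃ₗ[ZMod 2] V}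
    (hg : g ∈ disSubgroup U) (hg1 : ∀ u ∈ U, g u - u ∈ U₁) (hfix : ∀ u ∈ U₁, g u = u) :
    g ^ 4 = 1 := by
  have key : ∀ v, (g ^ 2) v - v ∈ U₁ := by
    intro v
    obtain ⟨d, hd⟩ : ∃ d, d = g v - v := ⟨_, rfl⟩
    have hdU : d ∈ U := hd ▸ hg v
    obtain ⟨e, he⟩ : ∃ e, e = g d - d := ⟨_, rfl⟩
    have heU : e ∈ U₁ := he ▸ hg1 d hdU
    have h1 : g v = v + d := by rw [hd]; abel
    have h1' : g d = d + e := by rw [he]; abel
    have h2 : d + d = 0 := ZModModule.add_self d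
    have : (g ^ 2) v - v = e := by
      rw [pow_two, LinearEquiv.mul_apply, h1, map_add, h1, h1']
      calc v + d + (d + e) - v = (d + d) + e := by abel
        _ = e := by rw [h2, zero_add]
    rw [this]; exact heU
  have hfix2 : ∀ u ∈ U₁, (g ^ 2) u = u := by
    intro u hu
    rw [pow_two, LinearEquiv.mul_apply, hfix u hu, hfix u hu]
  have := sq_eq_one_of_fix (U := U₁) (g := g ^ 2) key hfix2
  rw [← pow_mul] at this
  exact this

/-- Additive subgroups of a finite `ZMod 2`-module have `2`-power order. -/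
theorem exists_card_addSubgroup_eq_two_pow [Finite V] (A : AddSubgroup V) :
    ∃ k, Nat.card A = 2 ^ k := by
  refine ⟨Module.finrank (ZMod 2) (AddSubgroup.toZModSubmodule 2 A), ?_⟩
  have h := Module.natCard_eq_pow_finrank (K := ZMod 2) (V := AddSubgroup.toZModSubmodule 2 A)
  rw [Nat.card_zmod] at h
  exact h

section Action

variable {Γ : Type*} [Group Γ] (U : Submodule (ZMod 2) V) (φ : Γ →* (V ≃ₗ[ZMod 2] V))

/-- The vectors of `U` fixed by the whole group. -/
def fixAddG : AddSubgroup V where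
  carrier := {v | v ∈ U ∧ ∀ γ, φ γ v = v}
  zero_mem' := ⟨U.zero_mem, fun γ => map_zero _⟩
  add_mem' := by
    intro a b ha hb
    exact ⟨U.add_mem ha.1 hb.1, fun γ => by rw [map_add, ha.2 γ, hb.2 γ]⟩
  neg_mem' := by
    intro a ha
    exact ⟨U.neg_mem ha.1, fun γ => by rw [map_neg, ha.2 γ]⟩

theorem mem_fixAddG {v : V} : v ∈ fixAddG U φ ↔ v ∈ U ∧ ∀ γ, φ γ v = v := Iff.rfl

theorem fixAddG_le : fixAddG U φ ≤ U.toAddSubgroup := fun _ hv => hv.1

/-- The action of `Γ` on `U`. -/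
@[reducible] def actG (hφ : ∀ γ, φ γ ∈ disSubgroup U) : MulAction Γ U where
  smul γ u := ⟨φ γ u, apply_mem_of_mem_disSubgroup (hφ γ) u.2⟩
  one_smul u := by
    apply Subtype.ext
    show φ 1 (u : V) = u
    rw [map_one]; rfl
  mul_smul γ δ u := by
    apply Subtype.ext
    show φ (γ * δ) (u : V) = φ γ (φ δ (u : V))
    rw [map_mul]; rfl

theorem card_modEq_card_fixAddG [Finite V] (hφ : ∀ γ, φ γ ∈ disSubgroup U) {p : ℕ}
    [Fact p.Prime] (hΓ : IsPGroup p Γ) :
    Nat.card U ≡ Nat.card (fixAddG U φ) [MOD p] := by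
  let _ := actG U φ hφ
  have h := hΓ.card_modEq_card_fixedPoints U
  have e : ↥(MulAction.fixedPoints Γ U) ≃ ↥(fixAddG U φ) :=
    { toFun := fun u => ⟨(u : U), (u : U).2, fun γ => congrArg Subtype.val (u.2 γ)⟩
      invFun := fun v => ⟨⟨v, v.2.1⟩, fun γ => Subtype.ext (v.2.2 γ)⟩
      left_inv := fun u => rfl
      right_inv := fun v => rfl }
  rw [← Nat.card_congr e]
  exact h

/-- A group of odd prime-power order acting trivially on `U` and `V/U` is trivial. -/
theorem eq_one_of_fixAddG_eq {p : ℕ} (hp2 : p ≠ 2) [Fact p.Prime] (hΓ : IsPGroup p Γ)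
    (hinj : Function.Injective φ) (hφ : ∀ γ, φ γ ∈ disSubgroup U)
    (hfix : ∀ u ∈ U, ∀ γ, φ γ u = u) (γ : Γ) : γ = 1 := by
  have h2 : φ γ ^ 2 = 1 := sq_eq_one_of_fix (hφ γ) (fun u hu => hfix u hu γ)
  have h3 : γ ^ 2 = 1 := by
    apply hinj
    rw [map_pow, h2, map_one]
  obtain ⟨k, hk⟩ := hΓ γ
  have hd1 : orderOf γ ∣ 2 := orderOf_dvd_of_pow_eq_one h3
  have hd2 : orderOf γ ∣ p ^ k := orderOf_dvd_of_pow_eq_one hk
  have hcop : Nat.Coprime 2 (p ^ k) := by
    apply Nat.Coprime.pow_right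
    rw [Nat.coprime_primes Nat.prime_two Fact.out]
    exact fun h => hp2 h.symm
  have : orderOf γ = 1 := Nat.eq_one_of_dvd_coprimes hcop hd1 hd2
  exact orderOf_eq_one_iff.mp this

theorem two_pow_arith {a b c : ℕ} (ha : 2 ^ a ≤ 8) (hbc : 2 ^ b < 2 ^ c) (hca : 2 ^ c ≤ 2 ^ a)
    (m1 : 2 ^ a ≡ 2 ^ b [MOD 3]) (m2 : 2 ^ a ≡ 2 ^ c [MOD 3]) : c = a := by
  have ha3 : a ≤ 3 := by
    by_contra h
    push Not at h
    have : 2 ^ 4 ≤ 2 ^ a := Nat.pow_le_pow_right (by norm_num) h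
    omega
  have hca' : c ≤ a := (Nat.pow_le_pow_iff_right (by norm_num)).mp hca
  have hbc' : b < c := (Nat.pow_lt_pow_iff_right (by norm_num)).mp hbc
  unfold Nat.ModEq at m1 m2
  interval_cases a <;> interval_cases c <;> interval_cases b <;> simp_all

/-- A `3`-group acting faithfully on `V`, trivially on `V/U` with `|U| ≤ 8`, has order `≤ 3`. -/
theorem card_le_three_of_dis [Finite V] [Finite Γ] (hΓ : IsPGroup 3 Γ)
    (hinj : Function.Injective φ) (hφ : ∀ γ, φ γ ∈ disSubgroup U) (hU : Nat.card U ≤ 8) :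
    Nat.card Γ ≤ 3 := by
  have : Fact (Nat.Prime 3) := ⟨Nat.prime_three⟩
  by_cases hall : ∀ u ∈ U, ∀ γ, φ γ u = u
  · have hs : Subsingleton Γ := ⟨fun x y => by
      rw [eq_one_of_fixAddG_eq U φ (by norm_num) hΓ hinj hφ hall x,
        eq_one_of_fixAddG_eq U φ (by norm_num) hΓ hinj hφ hall y]⟩
    have : Nat.card Γ ≤ 1 := Finite.card_le_one_iff_subsingleton.mpr hs
    omega
  · push Not at hall
    obtain ⟨v, hv, γ₀, hγ₀⟩ := hall
    let _ := actG U φ hφ
    obtain ⟨Z, hZ⟩ : ∃ Z : Subgroup Γ, Z = MulAction.stabilizer Γ (⟨v, hv⟩ : U) := ⟨_, rfl⟩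
    obtain ⟨ψ, hψd⟩ : ∃ ψ : Z →* (V ≃ₗ[ZMod 2] V), ψ = φ.comp Z.subtype := ⟨_, rfl⟩
    have hψa : ∀ z : Z, ψ z = φ z := fun z => by rw [hψd]; rfl
    have hψinj : Function.Injective ψ := by
      rw [hψd]; exact hinj.comp Subtype.val_injective
    have hψ : ∀ z, ψ z ∈ disSubgroup U := fun z => by rw [hψa]; exact hφ z
    have hZp : IsPGroup 3 Z := hΓ.to_subgroup Z
    obtain ⟨a, ha⟩ := exists_card_addSubgroup_eq_two_pow U.toAddSubgroup
    obtain ⟨b, hb⟩ := exists_card_addSubgroup_eq_two_pow (fixAddG U φ)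
    obtain ⟨c, hc⟩ := exists_card_addSubgroup_eq_two_pow (fixAddG U ψ)
    change Nat.card ↥U = 2 ^ a at ha
    have m1 := card_modEq_card_fixAddG U φ hφ hΓ
    have m2 := card_modEq_card_fixAddG U ψ hψ hZp
    have hle : fixAddG U φ ≤ fixAddG U ψ :=
      fun w hw => ⟨hw.1, fun z => by rw [hψa]; exact hw.2 z⟩
    have hvψ : v ∈ fixAddG U ψ := by
      refine ⟨hv, fun z => ?_⟩
      have hz : (z : Γ) ∈ MulAction.stabilizer Γ (⟨v, hv⟩ : U) := hZ ▸ z.2
      rw [hψa]
      exact congrArg Subtype.val (MulAction.mem_stabilizer_iff.mp hz)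
    have hvφ : v ∉ fixAddG U φ := fun h => hγ₀ (h.2 γ₀)
    have e1 : Nat.card (fixAddG U φ) = ((fixAddG U φ : AddSubgroup V) : Set V).ncard :=
      Nat.card_coe_set_eq _
    have e2 : Nat.card (fixAddG U ψ) = ((fixAddG U ψ : AddSubgroup V) : Set V).ncard :=
      Nat.card_coe_set_eq _
    have e3 : Nat.card U = ((U : Submodule (ZMod 2) V) : Set V).ncard :=
      Nat.card_coe_set_eq _
    have hlt : Nat.card (fixAddG U φ) < Nat.card (fixAddG U ψ) := by
      rw [e1, e2]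
      exact Set.ncard_lt_ncard ⟨hle, fun h => hvφ (h hvψ)⟩ (Set.toFinite _)
    have hle2 : Nat.card (fixAddG U ψ) ≤ Nat.card U := by
      rw [e2, e3]
      exact Set.ncard_le_ncard (fixAddG_le U ψ) (Set.toFinite _)
    rw [ha] at m1 m2 hle2 hU
    rw [hb] at m1 hlt
    rw [hc] at m2 hlt hle2
    have hca : c = a := two_pow_arith hU hlt hle2 m1 m2
    have heq : ((fixAddG U ψ : AddSubgroup V) : Set V) = ((U : Submodule (ZMod 2) V) : Set V) := by
      apply Set.eq_of_subset_of_ncard_le (fixAddG_le U ψ) _ (Set.toFinite _)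
      change ((U : Submodule (ZMod 2) V) : Set V).ncard ≤ _
      rw [← e2, ← e3, ha, hc, hca]
    have hallZ : ∀ u ∈ U, ∀ z, ψ z u = u := by
      intro u hu z
      have : u ∈ ((fixAddG U ψ : AddSubgroup V) : Set V) := by rw [heq]; exact hu
      exact this.2 z
    have hZ1 : ∀ z : Z, z = 1 := eq_one_of_fixAddG_eq U ψ (by norm_num) hZp hψinj hψ hallZ
    have hZbot : Z = ⊥ := by
      rw [eq_bot_iff]
      intro z hz
      have := hZ1 ⟨z, hz⟩
      exact Subgroup.mem_bot.mpr (congrArg Subtype.val this)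
    have hidx : Z.index = (MulAction.orbit Γ (⟨v, hv⟩ : U)).ncard := by
      rw [hZ]; exact MulAction.index_stabilizer Γ _
    have hcard : Nat.card Γ = Z.index := by
      rw [hZbot, Subgroup.index_bot]
    have h8 : Nat.card Γ ≤ 8 := by
      rw [hcard, hidx]
      refine le_trans (Set.ncard_le_card _) ?_
      rw [ha]; exact hU
    obtain ⟨k, hk⟩ := hΓ.exists_card_eq
    rw [hk] at h8 ⊢
    have hk1 : k ≤ 1 := by
      by_contra h
      push Not at h
      have : 3 ^ 2 ≤ 3 ^ k := Nat.pow_le_pow_right (by norm_num) h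
      omega
    interval_cases k <;> norm_num

end Action

/-- An automorphism acting trivially on `V/W` with `|W| ≤ 4` has order dividing `48`. -/
theorem pow_48_eq_one_of_dis [Finite V] {W : Submodule (ZMod 2) V} (hW : Nat.card W ≤ 4)
    {x : V ≃ₗ[ZMod 2] V} (hx : x ∈ disSubgroup W) : x ^ 48 = 1 := by
  let _ := actG W (disSubgroup W).subtype (fun γ => γ.2)
  obtain ⟨σ, hσ⟩ : ∃ σ : Equiv.Perm W, σ = MulAction.toPermHom (disSubgroup W) W ⟨x, hx⟩ :=
    ⟨_, rfl⟩
  have h1 : σ ^ Nat.card (Equiv.Perm W) = 1 := pow_card_eq_one'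
  have h2 : Nat.card (Equiv.Perm W) ∣ 24 := by
    rw [Nat.card_perm]
    exact Nat.factorial_dvd_factorial hW
  have h3 : σ ^ 24 = 1 := by
    obtain ⟨m, hm⟩ := h2
    rw [hm, pow_mul, h1, one_pow]
  have h4 : ∀ u ∈ W, (x ^ 24) u = u := by
    intro u hu
    have h5 : (MulAction.toPermHom (disSubgroup W) W (⟨x, hx⟩ ^ 24)) ⟨u, hu⟩ = ⟨u, hu⟩ := by
      rw [map_pow, ← hσ, h3]; rfl
    have h6 := congrArg Subtype.val h5
    exact h6
  have h7 := sq_eq_one_of_fix ((disSubgroup W).pow_mem hx 24) h4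
  rw [← pow_mul] at h7
  exact h7

theorem sub_id_sq_apply (P : V ≃ₗ[ZMod 2] V) (v : V) :
    ((((P : V →ₗ[ZMod 2] V) - LinearMap.id) ^ 2 : V →ₗ[ZMod 2] V)) v = (P ^ 2) v - v := by
  have h2 : P v + P v = 0 := ZModModule.add_self _
  have h3 : -v = v := ZModModule.neg_eq_self v
  rw [pow_two, Module.End.mul_apply, pow_two, LinearEquiv.mul_apply]
  simp only [LinearMap.sub_apply, LinearEquiv.coe_coe, LinearMap.id_apply, map_sub]
  calc P (P v) - P v - (P v - v) = P (P v) - (P v + P v) + v := by abel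
    _ = P (P v) - v := by rw [h2, sub_zero, sub_eq_add_neg, h3]

/-- If the range of `(P - 1)²` has fewer than four elements then `P²` moves every vector by `0`
or a fixed vector `a`. -/
theorem exists_tv_of_card_range_lt [Finite V] (P : V ≃ₗ[ZMod 2] V)
    (h : Nat.card (LinearMap.range (((P : V →ₗ[ZMod 2] V) - LinearMap.id) ^ 2)) < 4) :
    ∃ a, Tv a (P ^ 2) := by
  obtain ⟨N, hN⟩ : ∃ N : V →ₗ[ZMod 2] V, N = ((P : V →ₗ[ZMod 2] V) - LinearMap.id) ^ 2 :=
    ⟨_, rfl⟩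
  rw [← hN] at h
  have hc := Module.natCard_eq_pow_finrank (K := ZMod 2) (V := LinearMap.range N)
  rw [Nat.card_zmod] at hc
  have hfr : Module.finrank (ZMod 2) (LinearMap.range N) ≤ 1 := by
    by_contra hcon
    push Not at hcon
    have : 2 ^ 2 ≤ 2 ^ Module.finrank (ZMod 2) (LinearMap.range N) :=
      Nat.pow_le_pow_right (by norm_num) hcon
    omega
  obtain ⟨w, hw⟩ := finrank_le_one_iff.mp hfr
  refine ⟨(w : V), fun v => ?_⟩
  obtain ⟨c, hc'⟩ := hw ⟨N v, LinearMap.mem_range_self N v⟩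
  have hNv : N v = (P ^ 2) v - v := by rw [hN]; exact sub_id_sq_apply P v
  have hc2 : c • (w : V) = N v := congrArg Subtype.val hc'
  have hcases : c = 0 ∨ c = 1 := by
    fin_cases c
    · left; rfl
    · right; rfl
  rcases hcases with rfl | rfl
  · left
    rw [zero_smul] at hc2
    rw [← hc2] at hNv
    exact (sub_eq_zero.mp hNv.symm)
  · right
    rw [one_smul] at hc2
    rw [hc2, hNv]; abel

end Transv


end Cfsg.Agent.Helper53
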