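import Mathlib
import Cfsg.Agent.Helper88.U3O.Defs

/-!
# S2786 (U3O farm of helper88), leaf (UT): the transport of a central element of `UJ` is a unitary
transvection.
-/

set_option autoImplicit false

namespace Cfsg.Agent.Helper53.U3O

open Matrix Polynomial Cfsg.Agent.Helper84.RU3 Cfsg.Agent.Helper86.RU3 Cfsg.Agent.Helper45.GU
  Cfsg.Agent.S2587 Cfsg.Agent.Helper38.Cov2 Cfsg.Agent.Helper97.U3E

variable {F : Type*} [Field F]

theorem UT_J0_mul_J0 : (J0 : Matrix (Fin 3) (Fin 3) F) * J0 = 1 := by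
  ext i j
  fin_cases i <;> fin_cases j <;> simp [J0, Matrix.mul_apply, Fin.sum_univ_three]

theorem UT_uM_zero (bar : F →+* F) (b : F) :
    uM bar 0 b = 1 + b • Matrix.single (0 : Fin 3) (2 : Fin 3) (1 : F) := by
  ext i j
  fin_cases i <;> fin_cases j <;> simp [uM, Matrix.one_apply, Matrix.single_apply]

/-- (UT) the transport of a central element of `UJ` is a unitary transvection. -/
theorem transport_central (bar : F →+* F) (hb : ∀ x, bar (bar x) = x)
    (P P' : Matrix (Fin 3) (Fin 3) F) (hPP' : P * P' = 1)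
    (hP'P : P' * P = 1) (hJ : st bar P * P = J0) (b : F) :
    P * uM bar 0 b * P' = tvMat bar (P *ᵥ Pi.single 0 1) b := by
  have hP' : P' = J0 * st bar P := by
    have h1 : st bar P = J0 * P' := by
      calc st bar P = st bar P * (P * P') := by rw [hPP', Matrix.mul_one]
        _ = J0 * P' := by rw [← Matrix.mul_assoc, hJ]
    rw [h1, ← Matrix.mul_assoc, UT_J0_mul_J0, Matrix.one_mul]
  have hrow : ∀ j, P' 2 j = bar (P j 0) := by
    intro j
    rw [hP']
    simp [Matrix.mul_apply, Fin.sum_univ_three, J0, st_apply]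
  rw [UT_uM_zero, Matrix.mul_add, Matrix.add_mul, Matrix.mul_one, hPP', tvMat, Matrix.mul_smul,
    Matrix.smul_mul]
  congr 2
  ext i j
  simp [Matrix.mul_apply, Fin.sum_univ_three, Matrix.single_apply, Matrix.vecMulVec_apply,
    Matrix.mulVec, dotProduct, Pi.single_apply, hrow]

end Cfsg.Agent.Helper53.U3O
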