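import Mathlib
import Cfsg.Agent.Helper99.UNdDefs
import Cfsg.Agent.Helper43.JordanGL

set_option autoImplicit false

/-!
# S5954, piece (J1): the Jordan type of a block diagonal matrix (helper53 for helper99)
-/

namespace Cfsg.Agent.Helper53.UNdJ1

open Matrix Polynomial Module
open Cfsg.Agent.Helper99.UNd
open Cfsg.Agent.Helper43.SS

universe u

variable {F : Type u} [Field F]

/-- the index equivalence used in `blk` -/
abbrev idx {a b n : ℕ} (h : a + b = n) : Fin a ⊕ Fin b ≃ Fin n := finSumFinEquiv.trans (finCongr h)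

theorem blk_mulVec {a b n : ℕ} (h : a + b = n) (A : Matrix (Fin a) (Fin a) F)
    (B : Matrix (Fin b) (Fin b) F) (v : Fin n → F) (s : Fin a ⊕ Fin b) :
    (blk h A B *ᵥ v) (idx h s) =
      Sum.elim (A *ᵥ fun j => v (idx h (Sum.inl j))) (B *ᵥ fun j => v (idx h (Sum.inr j))) s := by
  unfold blk
  rw [Matrix.reindex_apply, Matrix.submatrix_mulVec_equiv, Function.comp_apply,
    Equiv.symm_apply_apply, Matrix.fromBlocks_mulVec]
  cases s with
  | inl i => simp [Function.comp_def]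
  | inr i => simp [Function.comp_def]

theorem blk_sub {a b n : ℕ} (h : a + b = n) (A A' : Matrix (Fin a) (Fin a) F)
    (B B' : Matrix (Fin b) (Fin b) F) : blk h A B - blk h A' B' = blk h (A - A') (B - B') := by
  ext i j
  simp only [blk, Matrix.reindex_apply, Matrix.submatrix_apply, Matrix.sub_apply]
  rcases (finSumFinEquiv.trans (finCongr h)).symm i with i' | i' <;>
    rcases (finSumFinEquiv.trans (finCongr h)).symm j with j' | j' <;> simp

theorem blk_one {a b n : ℕ} (h : a + b = n) :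
    blk h (1 : Matrix (Fin a) (Fin a) F) (1 : Matrix (Fin b) (Fin b) F) = 1 := by
  unfold blk
  rw [Matrix.fromBlocks_one]
  ext i j
  simp [Matrix.one_apply]

/-- splitting the coordinates -/
noncomputable def split {a b n : ℕ} (h : a + b = n) : (Fin n → F) ≃ₗ[F] (Fin a → F) × (Fin b → F) :=
  (LinearEquiv.funCongrLeft F F (idx h)).trans (LinearEquiv.sumArrowLequivProdArrow (Fin a) (Fin b) F F)

theorem split_apply {a b n : ℕ} (h : a + b = n) (v : Fin n → F) :
    split h v = ((fun j => v (idx h (Sum.inl j))), (fun j => v (idx h (Sum.inr j)))) := rfl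

/-- the module of a block diagonal matrix is the product of the modules of the blocks -/
noncomputable def aevalBlk {a b n : ℕ} (h : a + b = n) (A : Matrix (Fin a) (Fin a) F)
    (B : Matrix (Fin b) (Fin b) F) :
    AEval' (Matrix.toLin' (blk h A B)) ≃ₗ[F[X]]
      (AEval' (Matrix.toLin' A) × AEval' (Matrix.toLin' B)) :=
  LinearEquiv.ofAEval (Matrix.toLin' (blk h A B))
    ((split h).trans (LinearEquiv.prodCongr (AEval'.of (Matrix.toLin' A)) (AEval'.of (Matrix.toLin' B))))
    (by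
      intro v
      show ((AEval'.of (Matrix.toLin' A)) (split h (Matrix.toLin' (blk h A B) v)).1,
          (AEval'.of (Matrix.toLin' B)) (split h (Matrix.toLin' (blk h A B) v)).2) =
        (X : F[X]) • ((AEval'.of (Matrix.toLin' A)) (split h v).1, (AEval'.of (Matrix.toLin' B)) (split h v).2)
      rw [Prod.smul_mk, AEval'.X_smul_of, AEval'.X_smul_of, split_apply, split_apply]
      congr 2
      · funext j
        show (blk h A B *ᵥ v) (idx h (Sum.inl j)) = (A *ᵥ fun j => v (idx h (Sum.inl j))) j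
        rw [blk_mulVec]
        rfl
      · funext j
        show (blk h A B *ᵥ v) (idx h (Sum.inr j)) = (B *ᵥ fun j => v (idx h (Sum.inr j))) j
        rw [blk_mulVec]
        rfl)

theorem kills_prod_iff {A : Type*} [AddCommGroup A] [Module F[X] A] {B : Type*} [AddCommGroup B]
    [Module F[X] B] (k : ℕ) : Kills F (A × B) k ↔ Kills F A k ∧ Kills F B k := by
  constructor
  · intro hk
    refine ⟨fun x => ?_, fun y => ?_⟩
    · exact congrArg Prod.fst (hk (x, 0))
    · exact congrArg Prod.snd (hk (0, y))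
  · rintro ⟨h1, h2⟩ ⟨x, y⟩
    exact Prod.ext (h1 x) (h2 y)

/-- the kernel dimensions of a product of cyclic modules only depend on the multiset of exponents -/
theorem dk_PiQ (l : List ℕ) (k : ℕ) :
    dk F (PiQ F l) k = (l.map fun a => dk F (Qr ((X : F[X]) ^ a)) k).sum := by
  induction l with
  | nil =>
    have : IsEmpty (Fin ([] : List ℕ).length) := (inferInstance : IsEmpty (Fin 0))
    have : Subsingleton (PiQ F []) := Unique.instSubsingleton
    rw [List.map_nil, List.sum_nil]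
    unfold dk
    exact Module.finrank_zero_of_subsingleton
  | cons a l ih =>
    rw [List.map_cons, List.sum_cons, ← ih, ← dk_congr (piQCons F a l) k, dk_prod]

theorem jtype_blk {n a b : ℕ} (hab : a + b = n) (B₁ : GL (Fin a) F) (B₂ : GL (Fin b) F)
    (y : GL (Fin n) F)
    (hy : (y : Matrix (Fin n) (Fin n) F) =
      blk hab (B₁ : Matrix (Fin a) (Fin a) F) (B₂ : Matrix (Fin b) (Fin b) F)) :
    (Cfsg.Agent.Helper43.SS.IsUnip y ↔
      Cfsg.Agent.Helper43.SS.IsUnip B₁ ∧ Cfsg.Agent.Helper43.SS.IsUnip B₂) ∧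
    (Cfsg.Agent.Helper43.SS.IsUnip y →
      ((Cfsg.Agent.Helper43.SS.jtype y : List ℕ) : Multiset ℕ) =
        ((Cfsg.Agent.Helper43.SS.jtype B₁ : List ℕ) : Multiset ℕ) +
        ((Cfsg.Agent.Helper43.SS.jtype B₂ : List ℕ) : Multiset ℕ)) := by
  have hN : nilPart y = blk hab (nilPart B₁) (nilPart B₂) := by
    unfold nilPart
    rw [hy, ← blk_sub, blk_one]
  let E₀ := aevalBlk hab (nilPart B₁) (nilPart B₂)
  have hkills : ∀ k, nilPart y ^ k = 0 ↔ nilPart B₁ ^ k = 0 ∧ nilPart B₂ ^ k = 0 := by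
    intro k
    rw [← kills_AEval_toLin'_iff, ← kills_AEval_toLin'_iff, ← kills_AEval_toLin'_iff, hN,
      ← kills_prod_iff]
    exact ⟨fun hk => hk.of_equiv E₀, fun hk => hk.of_equiv E₀.symm⟩
  have hiff : IsUnip y ↔ IsUnip B₁ ∧ IsUnip B₂ := by
    constructor
    · rintro ⟨k, hk⟩
      exact ⟨⟨k, ((hkills k).mp hk).1⟩, ⟨k, ((hkills k).mp hk).2⟩⟩
    · rintro ⟨⟨k₁, hk₁⟩, ⟨k₂, hk₂⟩⟩
      refine ⟨k₁ + k₂, (hkills _).mpr ⟨?_, ?_⟩⟩
      · rw [pow_add, hk₁, zero_mul]
      · rw [pow_add, hk₂, mul_zero]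
  refine ⟨hiff, fun hu => ?_⟩
  obtain ⟨hu₁, hu₂⟩ := hiff.mp hu
  obtain ⟨hs, hp, ⟨E⟩⟩ := jtype_spec y hu
  obtain ⟨hs₁, hp₁, ⟨E₁⟩⟩ := jtype_spec B₁ hu₁
  obtain ⟨hs₂, hp₂, ⟨E₂⟩⟩ := jtype_spec B₂ hu₂
  set l := jtype y with hl
  set l₁ := jtype B₁ with hl₁
  set l₂ := jtype B₂ with hl₂
  -- the sorted concatenation
  set l' := (l₁ ++ l₂).insertionSort (· ≥ ·) with hl'
  have hperm : List.Perm l' (l₁ ++ l₂) := List.perm_insertionSort _ _
  have hs' : l'.Pairwise (· ≥ ·) := List.pairwise_insertionSort _ _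
  have hp' : ∀ c ∈ l', 0 < c := by
    intro c hc
    rcases List.mem_append.mp (hperm.mem_iff.mp hc) with h | h
    · exact hp₁ c h
    · exact hp₂ c h
  -- the module of `y` is the product
  have Ey : AEval' (Matrix.toLin' (nilPart y)) ≃ₗ[F[X]] (PiQ F l₁ × PiQ F l₂) := by
    rw [hN]
    exact E₀.trans (LinearEquiv.prodCongr E₁ E₂)
  have hdk : ∀ k, dk F (PiQ F l') k = dk F (PiQ F l) k := by
    intro k
    rw [← dk_congr E k, dk_congr Ey k, dk_prod, dk_PiQ, dk_PiQ, dk_PiQ, ← List.sum_append,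
      ← List.map_append]
    exact (hperm.map _).sum_eq
  have hE : Nonempty (PiQ F l' ≃ₗ[F[X]] PiQ F l) :=
    nonempty_equiv_of_dk_eq _ (PiQ F l') (PiQ F l) rfl (isNilp_PiQ l') (isNilp_PiQ l) hdk
  have hll : l' = l := list_eq_of_equiv l' l hs' hs hp' hp hE
  rw [← hll, Multiset.coe_add]
  exact Multiset.coe_eq_coe.mpr hperm

end Cfsg.Agent.Helper53.UNdJ1
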